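import Cfsg.Agent.OrderFormula.Weak.Interface
import Cfsg.Agent.S1219
import Cfsg.Agent.S2332
import Cfsg.Agent.S2334
import Cfsg.Agent.Char.Basic
import Cfsg.Agent.UMult.Main
import Cfsg.Agent.MinDeg.Irreducible
import Cfsg.Agent.Unitary.SUThreeInvol
import Cfsg.Agent.Unitary.Two
import Cfsg.Agent.Classical.ThreeDimSylow

/-!
# The facts about `PSL₃(q)` and `PSU₃(q)`, `q` odd

`dim3_psl` and `dim3_psu` fill the interface `Dim3`.
-/

set_option autoImplicit false
set_option linter.unusedSectionVars false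
set_option linter.style.haveILetI false

namespace CfsgLib.OrderFormula.Weak

open Cfsg Subgroup Module
open scoped commutatorElement

universe u v w

/-- A perfect group has no small representations when its nonlinear irreducible degrees are large. -/
theorem rep_trivial {Δ : Type v} [Group Δ] [Finite Δ] (hperf : commutator Δ = ⊤) {B : ℕ}
    (hB : ∀ (k : ℕ) (ρ : Representation ℂ Δ (Fin k → ℂ)), ρ.IsIrreducible → 2 ≤ k → B ≤ k)
    {d : ℕ} (hd : d < B) (ρ : Representation ℂ Δ (Fin d → ℂ)) (g : Δ) : ρ g = 1 := by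
  classical
  haveI := Fintype.ofFinite Δ
  let P : (Fin d → ℂ) →ₗ[ℂ] (Fin d → ℂ) := (Fintype.card Δ : ℂ)⁻¹ • ∑ h : Δ, ρ h
  have hfix : ∀ a v, ρ a (P v) = P v := by
    intro a v
    simp only [P, LinearMap.smul_apply, LinearMap.coe_sum, Finset.sum_apply, map_smul, map_sum]
    congr 1
    exact Fintype.sum_equiv (Equiv.mulLeft a) _ _ fun h => by
      rw [Equiv.coe_mulLeft, map_mul, Module.End.mul_apply]
  have hinv : ∀ a v, P (ρ a v) = P v := by
    intro a v
    simp only [P, LinearMap.smul_apply, LinearMap.coe_sum, Finset.sum_apply]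
    congr 1
    exact Fintype.sum_equiv (Equiv.mulRight a) _ _ fun h => by
      rw [Equiv.coe_mulRight, map_mul, Module.End.mul_apply]
  have hid : ∀ v, (∀ a, ρ a v = v) → P v = v := by
    intro v hv
    simp only [P, LinearMap.smul_apply, LinearMap.coe_sum, Finset.sum_apply, hv, Finset.sum_const,
      Finset.card_univ, ← Nat.cast_smul_eq_nsmul ℂ, smul_smul]
    rw [inv_mul_cancel₀ (Nat.cast_ne_zero.2 Fintype.card_ne_zero), one_smul]
  suffices hU : LinearMap.ker P = ⊥ by
    refine LinearMap.ext fun v => ?_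
    rw [Module.End.one_apply]
    have hinj := LinearMap.ker_eq_bot.1 hU
    exact hinj (hinv g v)
  by_contra hne
  obtain ⟨S, hSU, hS0, hSi⟩ := CfsgLib.MinDeg.exists_irreducible_sub ρ
    (U := LinearMap.ker P) (fun a v hv => by rw [LinearMap.mem_ker, hinv]; exact hv) hne
  have hdim : finrank ℂ S.toSubmodule ≤ d := by
    have := Submodule.finrank_le S.toSubmodule
    rwa [Module.finrank_fin_fun] at this
  rcases Nat.lt_or_ge (finrank ℂ S.toSubmodule) 2 with h1 | h2
  · have h1' : finrank ℂ S.toSubmodule = 1 := by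
      have := Submodule.one_le_finrank_iff.2 hS0
      omega
    obtain ⟨v, hv, hspan⟩ := finrank_eq_one_iff'.1 h1'
    have hsc : ∀ a, ∃ c : ℂ, ∀ x, S.toRepresentation a x = c • x := fun a => by
      obtain ⟨c, hc⟩ := hspan (S.toRepresentation a v)
      refine ⟨c, fun x => ?_⟩
      obtain ⟨b, rfl⟩ := hspan x
      rw [map_smul, ← hc, smul_comm]
    have hle : commutator Δ ≤ S.toRepresentation.toHomUnits.ker := by
      rw [commutator_def, Subgroup.commutator_le]
      intro a _ b _
      obtain ⟨c, hc⟩ := hsc a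
      obtain ⟨c', hc'⟩ := hsc b
      rw [MonoidHom.mem_ker, map_commutatorElement, commutatorElement_eq_one_iff_mul_comm,
        Units.ext_iff]
      refine LinearMap.ext fun x => ?_
      show S.toRepresentation a (S.toRepresentation b x) = S.toRepresentation b (S.toRepresentation a x)
      rw [hc, hc', hc, hc', smul_comm]
    have hvfix : ∀ a, ρ a v.1 = v.1 := fun a => by
      have h3 := hle (hperf ▸ Subgroup.mem_top a)
      rw [MonoidHom.mem_ker, Units.ext_iff] at h3
      exact congrArg Subtype.val (LinearMap.congr_fun h3 v)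
    exact hv (Subtype.ext ((hid _ hvfix).symm.trans (hSU v.2)))
  · haveI := hSi
    have hb := hB _ _ (CfsgLib.Char.isIrreducible_of_equiv
      (CfsgLib.Char.conjRepEquiv S.toRepresentation (Module.finBasis ℂ S.toSubmodule).equivFun)) h2
    omega

/-- If `Δ` has split central extensions, its representations cover those of the perfect central
extensions of its quotient. -/
theorem exists_cover {Δ Γ Q : Type v} [Group Δ] [Group Γ] [Finite Γ] [Finite Δ] [Group Q]
    (hsplit : ∀ (E : Type v) [Group E] [Finite E] (π : E →* Δ), Function.Surjective π →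
      π.ker ≤ center E → ∃ s : Δ →* E, ∀ d, π (s d) = d)
    (τ : Δ →* Q) (hτ : Function.Surjective τ) (σ : Γ →* Q) (hσ : Function.Surjective σ)
    (hc : σ.ker ≤ center Γ) (hΓ : commutator Γ = ⊤) :
    ∃ ψ : Δ →* Γ, Function.Surjective ψ := by
  obtain ⟨s, hs⟩ := hsplit (Schur.pullback σ τ) (Schur.psnd σ τ) (Schur.psnd_surjective σ τ hσ)
    (SLMult.psnd_ker_le_center σ τ hc)
  refine ⟨(Schur.pfst σ τ).comp s, ?_⟩
  have hlift : ∀ g : Γ, ∃ d, σ g = σ ((Schur.pfst σ τ).comp s d) := fun g => by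
    obtain ⟨d, hd⟩ := hτ (σ g)
    refine ⟨d, ?_⟩
    rw [← hd]
    show τ d = σ (s d).1.1
    rw [Schur.mem_pullback.1 (s d).2, show (s d).1.2 = d from hs d]
  have hle : commutator Γ ≤ ((Schur.pfst σ τ).comp s).range := by
    rw [commutator_def, Subgroup.commutator_le]
    intro a _ b _
    obtain ⟨x, hx⟩ := hlift a
    obtain ⟨y, hy⟩ := hlift b
    exact ⟨⁅x, y⁆, by rw [map_commutatorElement]; exact (SLMult.commutator_congr hc hx hy).symm⟩
  rw [hΓ, top_le_iff] at hle
  exact MonoidHom.range_eq_top.1 hle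

/-- Perfect central extensions of a quotient of `Δ` have no small representations. -/
theorem cover_aux {Δ Q : Type} [Group Δ] [Finite Δ] [Group Q]
    (hsplit : ∀ (E : Type) [Group E] [Finite E] (π : E →* Δ), Function.Surjective π →
      π.ker ≤ center E → ∃ s : Δ →* E, ∀ d, π (s d) = d)
    (τ : Δ →* Q) (hτ : Function.Surjective τ) (hperf : commutator Δ = ⊤) {B : ℕ}
    (hB : ∀ (k : ℕ) (ρ : Representation ℂ Δ (Fin k → ℂ)), ρ.IsIrreducible → 2 ≤ k → B ≤ k)
    {K : Type u} [Group K] (f : K ≃* Q) (G : Type u) [Group G] [Finite G] (φ : G →* K)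
    (hφ : Function.Surjective φ) (hG : commutator G = ⊤) (hc : φ.ker ≤ center G) (d : ℕ)
    (ρ : Representation ℂ G (Fin d → ℂ)) (hd : d < B) (g : G) : ρ g = 1 := by
  haveI : Small.{0} G := Countable.toSmall G
  let e : Shrink.{0} G ≃* G := Shrink.mulEquiv
  haveI : Finite (Shrink.{0} G) := Finite.of_equiv G e.symm.toEquiv
  let σ : Shrink.{0} G →* Q := f.toMonoidHom.comp (φ.comp e.toMonoidHom)
  have hσ : Function.Surjective σ := f.surjective.comp (hφ.comp e.surjective)
  have hσc : σ.ker ≤ center (Shrink.{0} G) := by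
    intro x hx
    have h1 : e x ∈ φ.ker := by
      rw [MonoidHom.mem_ker]
      exact f.injective (hx.trans (map_one f).symm)
    refine mem_center_iff.2 fun y => e.injective ?_
    rw [map_mul, map_mul]
    exact mem_center_iff.1 (hc h1) (e y)
  have hperf' : commutator (Shrink.{0} G) = ⊤ := by
    have h1 : (commutator G).map e.symm.toMonoidHom = commutator (Shrink.{0} G) :=
      CfsgLib.Schur.map_commutator_of_surjective _ e.symm.surjective
    rw [hG, Subgroup.map_top_of_surjective _ e.symm.surjective] at h1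
    exact h1.symm
  obtain ⟨ψ, hψ⟩ := exists_cover hsplit τ hτ σ hσ hσc hperf'
  obtain ⟨x, hx⟩ := hψ (e.symm g)
  have h := rep_trivial hperf hB hd (ρ.comp (e.toMonoidHom.comp ψ)) x
  rw [← h]
  show ρ g = ρ (e (ψ x))
  rw [hx, e.apply_symm_apply]

/-- Transport of the facts about centralisers. -/
theorem cent_transport {K : Type u} {Q : Type v} [Group K] [Group Q] (f : K ≃* Q) {p e : ℕ}
    (h : ∀ z : Q, orderOf z = 2 →
      padicValNat p (Nat.card (centralizer ({z} : Set Q))) ≤ e ∧
        ∃ (F : Type) (_ : Field F) (_ : Fintype F), Fintype.card F = p ^ e ∧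
          ∃ N : Subgroup (centralizer ({z} : Set Q)), N.Normal ∧
            Nonempty (N ≃* Matrix.SpecialLinearGroup (Fin 2) F))
    (z : K) (hz : orderOf z = 2) :
    padicValNat p (Nat.card (centralizer ({z} : Set K))) ≤ e ∧
      ∃ (F : Type) (_ : Field F) (_ : Fintype F), Fintype.card F = p ^ e ∧
        ∃ N : Subgroup (centralizer ({z} : Set K)), N.Normal ∧
          Nonempty (N ≃* Matrix.SpecialLinearGroup (Fin 2) F) := by
  obtain ⟨h1, F, iF, iFF, hF, N, hN, ⟨g⟩⟩ := h (f z) (by rw [f.orderOf_eq, hz])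
  have hC : (centralizer ({z} : Set K)).map f.toMonoidHom = centralizer ({f z} : Set Q) := by
    ext y
    rw [Subgroup.mem_map_equiv, mem_centralizer_singleton_iff, mem_centralizer_singleton_iff,
      ← f.injective.eq_iff, map_mul, map_mul, f.apply_symm_apply]
  let c : centralizer ({z} : Set K) ≃* centralizer ({f z} : Set Q) :=
    (f.subgroupMap _).trans (MulEquiv.subgroupCongr hC)
  refine ⟨(Nat.card_congr c.toEquiv).symm ▸ h1, F, iF, iFF, hF, N.map c.symm.toMonoidHom,
    hN.map _ c.symm.surjective, ⟨(c.symm.subgroupMap N).symm.trans g⟩⟩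

section Linear

open Matrix

variable {F : Type} [Field F] [Fintype F]

theorem psl_cent (hodd : Odd (Fintype.card F)) {p e : ℕ} (hp : p.Prime) (he : Fintype.card F = p ^ e)
    (he1 : 1 ≤ e) (z : ProjectiveSpecialLinearGroup (Fin 3) F) (hz : orderOf z = 2) :
    padicValNat p (Nat.card (centralizer ({z} : Set (ProjectiveSpecialLinearGroup (Fin 3) F)))) ≤ e ∧
      ∃ (F' : Type) (_ : Field F') (_ : Fintype F'), Fintype.card F' = p ^ e ∧
        ∃ N : Subgroup (centralizer ({z} : Set (ProjectiveSpecialLinearGroup (Fin 3) F))), N.Normal ∧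
          Nonempty (N ≃* SpecialLinearGroup (Fin 2) F') := by
  classical
  obtain ⟨Z, hZn, hZc, hZk, ⟨Ψ⟩⟩ := Cfsg.Agent.S1219.result hodd z hz
  haveI := Fact.mk hp
  refine ⟨?_, F, inferInstance, inferInstance, he, ?_⟩
  · rw [Nat.card_congr Ψ.toEquiv]
    refine le_trans ((padicValNat_dvd_iff_le Nat.card_pos.ne').1
      (pow_padicValNat_dvd.trans (Subgroup.card_quotient_dvd_card Z))) ?_
    rw [CfsgLib.Linear.TwoSylow.card_GL_two, he,
      padicValNat.mul (pow_ne_zero _ hp.ne_zero) (by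
        have := Fintype.one_lt_card (α := F); rw [he] at this
        exact Nat.mul_ne_zero (Nat.mul_ne_zero (by omega) (by omega)) (by omega)),
      padicValNat.prime_pow, padicValNat.eq_zero_of_not_dvd, add_zero]
    have hpq : p ∣ p ^ e := dvd_pow_self _ (by omega)
    have hqq : 1 < p ^ e := he ▸ Fintype.one_lt_card
    intro h
    rcases (Nat.Prime.dvd_mul hp).1 h with h | h
    · have hd : p ∣ p ^ e - 1 := ((Nat.Prime.dvd_mul hp).1 h).elim id id
      have := Nat.dvd_sub hpq hd
      rw [show p ^ e - (p ^ e - 1) = 1 by omega, Nat.dvd_one] at this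
      exact hp.one_lt.ne' this
    · have := Nat.dvd_sub h hpq
      rw [show p ^ e + 1 - p ^ e = 1 by omega, Nat.dvd_one] at this
      exact hp.one_lt.ne' this
  let ι : SpecialLinearGroup (Fin 2) F →* GL (Fin 2) F := SpecialLinearGroup.toGL
  let θ : GL (Fin 2) F →* centralizer ({z} : Set (ProjectiveSpecialLinearGroup (Fin 3) F)) :=
    Ψ.symm.toMonoidHom.comp (QuotientGroup.mk' Z)
  have hθ : Function.Surjective θ := Ψ.symm.surjective.comp (QuotientGroup.mk'_surjective Z)
  have hιr : ι.range = (Matrix.GeneralLinearGroup.det : GL (Fin 2) F →* Fˣ).ker := by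
    ext g
    constructor
    · rintro ⟨a, rfl⟩
      exact Units.ext a.2
    · intro hg
      exact ⟨⟨(g : Matrix (Fin 2) (Fin 2) F), congrArg Units.val hg⟩, Units.ext rfl⟩
  have hinj : Function.Injective (θ.comp ι) := by
    rw [injective_iff_map_eq_one]
    intro a ha
    have haZ : ι a ∈ Z :=
      (QuotientGroup.eq_one_iff _).1 (Ψ.symm.injective (ha.trans (map_one Ψ.symm).symm))
    have hac : a ∈ center (SpecialLinearGroup (Fin 2) F) := mem_center_iff.2 fun b =>
      Subtype.ext (congrArg Units.val (mem_center_iff.1 (hZc haZ) (ι b)))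
    obtain ⟨r, hr, hra⟩ := Matrix.SpecialLinearGroup.mem_center_iff.1 hac
    have ha2 : a ^ 2 = 1 := Subtype.ext (by
      rw [Fintype.card_fin] at hr
      rw [Matrix.SpecialLinearGroup.coe_pow, ← hra, ← map_pow, hr, map_one]
      rfl)
    have h1 : (⟨ι a, haZ⟩ : Z) ^ Nat.card Z = 1 := pow_card_eq_one'
    have h2 : (⟨ι a, haZ⟩ : Z) ^ 2 = 1 := Subtype.ext (by
      rw [SubgroupClass.coe_pow, ← map_pow, ha2, map_one]; rfl)
    have hodd' : Nat.Coprime (Nat.card Z) 2 := by
      rw [Nat.coprime_two_right, hZk]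
      exact Odd.of_dvd_nat (by decide : Odd 3) (Nat.gcd_dvd_right _ _)
    have h3 := orderOf_dvd_of_pow_eq_one h1
    have h4 := orderOf_dvd_of_pow_eq_one h2
    have h5 : (⟨ι a, haZ⟩ : Z) = 1 :=
      orderOf_eq_one_iff.1 (Nat.eq_one_of_dvd_coprimes hodd' h3 h4)
    exact Subtype.ext (congrArg Units.val (congrArg Subtype.val h5))
  refine ⟨(θ.comp ι).range, ?_, ⟨(MonoidHom.ofInjective hinj).symm⟩⟩
  rw [MonoidHom.range_comp, hιr]
  exact (MonoidHom.normal_ker _).map θ hθ

/-- The facts about `PSL₃(q)`. -/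
theorem dim3_psl {K : Type u} [Group K] [Finite K] (hodd : Odd (Fintype.card F))
    (f : K ≃* ProjectiveSpecialLinearGroup (Fin 3) F) : ∃ p e : ℕ, Dim3 K p e := by
  classical
  obtain ⟨p, hcp⟩ := CharP.exists F
  obtain ⟨e, hp, he⟩ := FiniteField.card F p
  have hp2 : p ≠ 2 := by
    rintro rfl
    rw [he, Nat.odd_pow_iff e.pos.ne'] at hodd
    exact absurd hodd (by decide)
  have hq3 : 3 ≤ Fintype.card F := by
    have := Fintype.one_lt_card (α := F)
    obtain ⟨c, hc⟩ := hodd
    omega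
  refine ⟨p, e, hp, hp2, e.pos, ⟨1, Or.inl rfl, ?_⟩,
    cent_transport f (psl_cent hodd hp he e.pos), ?_⟩
  · rw [Nat.card_congr f.toEquiv]
    have h := CfsgLib.Linear.card_PSL_mul (F := F) rfl 3 (by norm_num)
    rw [Fin.prod_univ_three, he] at h
    simp only [Fin.val_zero, Fin.val_one, Fin.val_two, pow_zero, pow_one] at h
    rw [he] at hq3
    rw [show ((p : ℤ) ^ (e : ℕ)) = ((p ^ (e : ℕ) : ℕ) : ℤ) by push_cast; rfl]
    set q := p ^ (e : ℕ)
    have hq1 : 1 ≤ q := by omega
    rw [show (q : ℤ) - 1 = ((q - 1 : ℕ) : ℤ) by push_cast [Nat.cast_sub hq1]; rfl,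
      show (3 : ℤ) = ((3 : ℕ) : ℤ) from rfl, Int.gcd_natCast_natCast]
    have hz := congrArg (Nat.cast : ℕ → ℤ) h
    push_cast [Nat.cast_sub hq1, Nat.cast_sub (Nat.one_le_pow 3 q (by omega)),
      Nat.cast_sub (Nat.le_self_pow (by norm_num : 3 ≠ 0) q),
      Nat.cast_sub (Nat.pow_le_pow_right (n := q) (by omega) (by norm_num : 2 ≤ 3))] at hz ⊢
    apply mul_right_cancel₀ (show (q : ℤ) - 1 ≠ 0 by omega)
    linear_combination hz
  · intro G _ _ φ hφ hG hc d ρ hd g
    have hsplit : ∀ (E : Type) [Group E] [Finite E] (π : E →* SpecialLinearGroup (Fin 3) F),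
        Function.Surjective π → π.ker ≤ center E → ∃ s : SpecialLinearGroup (Fin 3) F →* E,
          ∀ x, π (s x) = x := fun E _ _ π hπ hπc =>
      ({ σ := π, surj := hπ, central := hπc, three := le_rfl, fin := inferInstance
         exc3 := fun _ => by
           rw [Nat.card_eq_fintype_card]
           exact ⟨by omega, fun h4 => by rw [h4] at hodd; exact absurd hodd (by decide)⟩
         exc4 := fun h => absurd h (by norm_num) } : SLMult.Ext F 3 E).exists_section
    have hB := (Cfsg.Agent.S2332.result (F := F) 3 le_rfl ⟨by simp; omega, by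
      simp only [ne_eq, Prod.mk.injEq, true_and]
      intro h4; rw [h4] at hodd; exact absurd hodd (by decide), by simp, by simp⟩).1
    refine cover_aux hsplit (QuotientGroup.mk' _) (QuotientGroup.mk'_surjective _)
      (CfsgLib.Linear.commutator_SL_eq_top (Or.inl (by simp))) hB f G φ hφ hG hc d ρ
      (hd.trans_le ?_) g
    rw [← he, Nat.le_div_iff_mul_le (by omega)]
    set q := Fintype.card F
    obtain ⟨c, hc⟩ : ∃ c, q = c + 3 := ⟨q - 3, by omega⟩
    rw [hc, show (c + 3) - 1 = c + 2 by omega]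
    refine Nat.le_sub_of_add_le ?_
    nlinarith [Nat.zero_le (c ^ 3), Nat.zero_le (c ^ 2), Nat.zero_le c]

end Linear

section UnitaryCase

open Matrix CfsgLib.Unitary CfsgLib.Linear.TwoSylow

variable {F : Type} [Field F] [Fintype F] {q : ℕ}

theorem psu_cent (hF : Nat.card F = q ^ 2) (hq : Odd q) {p e : ℕ} (hp : p.Prime) (he : q = p ^ e)
    (he1 : 1 ≤ e) (z : Cfsg.PSU 3 F q) (hz : orderOf z = 2) :
    padicValNat p (Nat.card (centralizer ({z} : Set (Cfsg.PSU 3 F q)))) ≤ e ∧
      ∃ (F' : Type) (_ : Field F') (_ : Fintype F'), Fintype.card F' = p ^ e ∧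
        ∃ N : Subgroup (centralizer ({z} : Set (Cfsg.PSU 3 F q))), N.Normal ∧
          Nonempty (N ≃* SpecialLinearGroup (Fin 2) F') := by
  classical
  haveI := Fact.mk hp
  set Z := center (Cfsg.SU 3 F q)
  set π := QuotientGroup.mk' Z
  have hq0 := CfsgLib.Forms.two_le_q hF
  -- an involution above `z`
  obtain ⟨s, hs⟩ := QuotientGroup.mk'_surjective Z z
  have hZ3 : ∀ c ∈ Z, c ^ 3 = 1 := fun c hc => by
    have h1 : (⟨c, hc⟩ : Z) ^ Nat.card Z = 1 := pow_card_eq_one'
    have h2 : Nat.card Z ∣ 3 := card_center_SU hF (n := 3) (by norm_num) ▸ Nat.gcd_dvd_left 3 (q + 1)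
    have h3 : (⟨c, hc⟩ : Z) ^ 3 = 1 :=
      orderOf_dvd_iff_pow_eq_one.1 ((orderOf_dvd_of_pow_eq_one h1).trans h2)
    exact congrArg Subtype.val h3
  have hz2 : z ^ 2 = 1 := by rw [← hz]; exact pow_orderOf_eq_one z
  set t := s ^ 3 with htdef
  have htz : π t = z := by
    rw [map_pow, hs, pow_succ, hz2, one_mul]
  have ht2 : t * t = 1 := by
    rw [← pow_two, htdef, ← pow_mul, pow_mul' s 3 2]
    exact hZ3 _ ((QuotientGroup.eq_one_iff _).1 (show π (s ^ 2) = 1 by rw [map_pow, hs, hz2]))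
  have ht1 : t ≠ 1 := fun h => by
    rw [h, map_one] at htz
    rw [← htz, orderOf_one] at hz
    norm_num at hz
  -- its centraliser covers
  let θ : centralizer ({t} : Set (Cfsg.SU 3 F q)) →* centralizer ({z} : Set (Cfsg.PSU 3 F q)) :=
    (π.comp (Subgroup.subtype _)).codRestrict _ fun c => by
      rw [mem_centralizer_singleton_iff]
      show π c.1 * z = z * π c.1
      rw [← htz, ← map_mul, ← map_mul, mem_centralizer_singleton_iff.1 c.2]
  have hθ : Function.Surjective θ := by
    rintro ⟨y, hy⟩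
    obtain ⟨g, rfl⟩ := QuotientGroup.mk'_surjective Z y
    refine ⟨⟨g, ?_⟩, rfl⟩
    rw [mem_centralizer_singleton_iff] at hy ⊢
    set c := g * t * g⁻¹ * t with hc
    have hcZ : c ∈ Z := (QuotientGroup.eq_one_iff _).1 (show π c = 1 by
      rw [hc, map_mul, map_mul, map_mul, map_inv, htz, hy, mul_inv_cancel_right, ← pow_two, hz2])
    have hc2 : c ^ 2 = 1 := by
      have e1 : g * t * g⁻¹ = c * t := by rw [hc, mul_assoc _ t t, ht2, mul_one]
      have h2 : (g * t * g⁻¹) * (g * t * g⁻¹) = 1 := by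
        rw [show g * t * g⁻¹ * (g * t * g⁻¹) = g * (t * t) * g⁻¹ by group, ht2]; group
      rw [e1, mul_assoc, ← mul_assoc t c t, mem_center_iff.1 hcZ t, mul_assoc c t t, ht2,
        mul_one] at h2
      rw [pow_two]; exact h2
    have hc1 : c = 1 := by
      have h3 := hZ3 c hcZ
      rwa [pow_succ, hc2, one_mul] at h3
    rw [hc] at hc1
    calc g * t = g * t * g⁻¹ * t * t * g := by
          rw [mul_assoc (g * t * g⁻¹) t t, ht2, mul_one, inv_mul_cancel_right]
      _ = t * g := by rw [hc1, one_mul]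
  refine ⟨?_, ?_⟩
  · refine le_trans ((padicValNat_dvd_iff_le Nat.card_pos.ne').1
      (pow_padicValNat_dvd.trans (Subgroup.card_dvd_of_surjective θ hθ))) ?_
    rw [SUThree.card_centralizer hF hq ht1 ht2, mul_assoc, he]
    have hq1 : 1 < p ^ e := he ▸ hq0
    have h4 : 1 < (p ^ e) ^ 2 := Nat.one_lt_pow two_ne_zero hq1
    rw [padicValNat.mul (pow_ne_zero _ hp.ne_zero) (Nat.mul_ne_zero (by omega) (by omega)),
      padicValNat.prime_pow, padicValNat.eq_zero_of_not_dvd, add_zero]
    have hpq : p ∣ p ^ e := dvd_pow_self _ (by omega)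
    intro h
    rcases (Nat.Prime.dvd_mul hp).1 h with h | h
    · have := Nat.dvd_sub h hpq
      rw [show p ^ e + 1 - p ^ e = 1 by omega, Nat.dvd_one] at this
      exact hp.one_lt.ne' this
    · have := Nat.dvd_sub (dvd_pow hpq two_ne_zero) h
      rw [show (p ^ e) ^ 2 - ((p ^ e) ^ 2 - 1) = 1 by omega, Nat.dvd_one] at this
      exact hp.one_lt.ne' this
  -- the image of `GU₂`
  haveI : Finite F := inferInstance
  have hone : ∀ g : Cfsg.GU 2 F q, ∀ r : F, (g : GL (Fin 2) F).det = 1 →
      embMat (g : GL (Fin 2) F) = r • 1 → g = 1 := by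
    intro g r hd hg
    have h22 := congrFun (congrFun hg 2) 2
    simp [embMat, hd] at h22
    have h00 := congrFun (congrFun hg 0) 0
    have h01 := congrFun (congrFun hg 0) 1
    have h10 := congrFun (congrFun hg 1) 0
    have h11 := congrFun (congrFun hg 1) 1
    simp [embMat] at h00 h01 h10 h11
    refine Subtype.ext (Units.ext ?_)
    show ((g : GL (Fin 2) F) : Matrix (Fin 2) (Fin 2) F) = 1
    ext i j
    fin_cases i <;> fin_cases j <;> simp [h00, h01, h10, h11, ← h22]
  have hEinj : Function.Injective (embU hF) := by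
    rw [injective_iff_map_eq_one]
    intro g hg
    have hM : embMat (g : GL (Fin 2) F) = (1 : F) • 1 := by
      rw [one_smul, ← embU_val hF g, hg]; rfl
    refine hone g 1 (Units.ext ?_) hM
    have h22 := congrFun (congrFun hM 2) 2
    simpa [embMat] using h22
  have hh2 := SUThree.two_ne hF hq
  let n : Cfsg.GU 2 F q := ⟨-1, fun u v => by
    show Cfsg.hermForm 2 F q ((-1 : Matrix (Fin 2) (Fin 2) F) *ᵥ u) ((-1 : Matrix (Fin 2) (Fin 2) F) *ᵥ v) = _
    simp [Cfsg.hermForm, Matrix.neg_mulVec, hq.neg_pow]⟩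
  set t₀ := embU hF n with ht₀
  have hn : n ≠ 1 := fun h => by
    have h' := congrFun (congrFun (congrArg (fun x : Cfsg.GU 2 F q =>
      ((x : GL (Fin 2) F) : Matrix (Fin 2) (Fin 2) F)) h) 0) 0
    simp [n] at h'
    exact hh2 (by linear_combination -h')
  have hnn : n * n = 1 := Subtype.ext (by simp [n])
  have hrange : (embU hF).range = centralizer ({t₀} : Set (Cfsg.SU 3 F q)) := by
    refine Subgroup.eq_of_le_of_card_ge ?_ ?_
    · rintro _ ⟨g, rfl⟩
      rw [mem_centralizer_singleton_iff, ht₀, ← map_mul, ← map_mul]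
      congr 1
      exact Subtype.ext (by simp [n])
    · rw [SUThree.card_centralizer hF hq (fun h => hn (hEinj (h.trans (map_one _).symm)))
          (by rw [← map_mul, hnn, map_one]),
        ← Nat.card_congr (MonoidHom.ofInjective hEinj).toEquiv, card_GU_two hF]
      have : q ^ 2 - 1 = (q + 1) * (q - 1) := by rw [← Nat.sq_sub_sq, one_pow]
      rw [this]
      exact le_of_eq (by ring)
  obtain ⟨g₀, hg₀⟩ := SUThree.exists_conj hF hq (fun h => hn (hEinj (h.trans (map_one _).symm)))
    (show t₀ * t₀ = 1 by rw [← map_mul, hnn, map_one]) ht1 ht2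
  let j : Cfsg.GU 2 F q →* centralizer ({t} : Set (Cfsg.SU 3 F q)) :=
    ((MulAut.conj g₀).toMonoidHom.comp (embU hF)).codRestrict _ fun g => by
      have := mem_centralizer_singleton_iff.1 (hrange.le (MonoidHom.mem_range.2 ⟨g, rfl⟩))
      rw [mem_centralizer_singleton_iff, ← hg₀]
      show g₀ * embU hF g * g₀⁻¹ * (g₀ * t₀ * g₀⁻¹) = g₀ * t₀ * g₀⁻¹ * (g₀ * embU hF g * g₀⁻¹)
      calc g₀ * embU hF g * g₀⁻¹ * (g₀ * t₀ * g₀⁻¹) = g₀ * (embU hF g * t₀) * g₀⁻¹ := by group
        _ = g₀ * (t₀ * embU hF g) * g₀⁻¹ := by rw [this]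
        _ = _ := by group
  have hj : Function.Surjective j := by
    rintro ⟨c, hc⟩
    have hmem : g₀⁻¹ * c * g₀ ∈ (embU hF).range := by
      rw [hrange, mem_centralizer_singleton_iff]
      rw [mem_centralizer_singleton_iff, ← hg₀] at hc
      calc g₀⁻¹ * c * g₀ * t₀ = g₀⁻¹ * (c * (g₀ * t₀ * g₀⁻¹)) * g₀ := by group
        _ = g₀⁻¹ * ((g₀ * t₀ * g₀⁻¹) * c) * g₀ := by rw [hc]
        _ = _ := by group
    obtain ⟨g, hg⟩ := hmem
    refine ⟨g, Subtype.ext ?_⟩
    show g₀ * embU hF g * g₀⁻¹ = c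
    rw [hg]; group
  let ι : Cfsg.SU 2 F q →* Cfsg.GU 2 F q := suToGU
  obtain ⟨ω⟩ := su_two_iso hF (K := GaloisField p e)
    (by rw [GaloisField.card p e (by omega), he])
  have hinj : Function.Injective ((θ.comp j).comp ι) := by
    rw [injective_iff_map_eq_one]
    intro a ha
    have hmem : g₀ * embU hF (ι a) * g₀⁻¹ ∈ Z :=
      (QuotientGroup.eq_one_iff _).1 (congrArg Subtype.val ha)
    have hmem' : embU hF (ι a) ∈ Z := by
      have := (inferInstance : Z.Normal).conj_mem _ hmem g₀⁻¹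
      rwa [show g₀⁻¹ * (g₀ * embU hF (ι a) * g₀⁻¹) * g₀⁻¹⁻¹ = embU hF (ι a) by group] at this
    obtain ⟨r, hr⟩ := eq_scalar_of_commute_tv hF (n := 3) (by norm_num)
      (M := embMat ((ι a : Cfsg.GU 2 F q) : GL (Fin 2) F)) fun v c hv hc => (congrArg
        (fun x : Cfsg.SU 3 F q => ((x : SpecialLinearGroup (Fin 3) F) : Matrix (Fin 3) (Fin 3) F))
        (mem_center_iff.1 hmem' (suTv 3 v c hv hc hF))).symm
    have h1 := hone (ι a) r (Units.ext a.1.2) hr
    exact Subtype.ext (Subtype.ext (congrArg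
      (fun x : Cfsg.GU 2 F q => ((x : GL (Fin 2) F) : Matrix (Fin 2) (Fin 2) F)) h1))
  letI : Fintype (GaloisField p e) := Fintype.ofFinite _
  refine ⟨GaloisField p e, inferInstance, inferInstance,
    by rw [← Nat.card_eq_fintype_card, GaloisField.card p e (by omega)],
    ((θ.comp j).comp ι).range, ?_, ⟨(MonoidHom.ofInjective hinj).symm.trans ω⟩⟩
  have hιr : ι.range = (Matrix.GeneralLinearGroup.det : GL (Fin 2) F →* Fˣ).ker.comap
      (Cfsg.GU 2 F q).subtype := by
    ext g
    constructor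
    · rintro ⟨a, rfl⟩
      exact Units.ext a.1.2
    · intro hg
      exact ⟨⟨⟨((g : GL (Fin 2) F) : Matrix (Fin 2) (Fin 2) F), congrArg Units.val hg⟩, g.2⟩,
        Subtype.ext (Units.ext rfl)⟩
  rw [MonoidHom.range_comp, hιr]
  exact ((MonoidHom.normal_ker _).comap _).map _ (hθ.comp hj)

/-- The facts about `PSU₃(q)`. -/
theorem dim3_psu {K : Type u} [Group K] [Finite K] (hF : Fintype.card F = q ^ 2) (hq : Odd q)
    (f : K ≃* Cfsg.PSU 3 F q) : ∃ p e : ℕ, Dim3 K p e := by
  classical
  have hF' : Nat.card F = q ^ 2 := by rw [Nat.card_eq_fintype_card, hF]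
  have hq2 := CfsgLib.Forms.two_le_q hF'
  obtain ⟨p, e, hcp, hp, he⟩ := CfsgLib.Forms.exists_charP_pow hF'
  have he1 : 1 ≤ e := by
    rcases e with _ | e
    · rw [pow_zero] at he; omega
    · omega
  have hp2 : p ≠ 2 := by
    rintro rfl
    rw [he, Nat.odd_pow_iff (by omega)] at hq
    exact absurd hq (by decide)
  have hq3 : 3 ≤ q := by obtain ⟨c, hc⟩ := hq; omega
  refine ⟨p, e, hp, hp2, he1, ⟨-1, Or.inr rfl, ?_⟩,
    cent_transport f (psu_cent hF' hq hp he he1), ?_⟩
  · rw [Nat.card_congr f.toEquiv]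
    have h := CfsgLib.Unitary.card_PSU_mul hF' (n := 3) (by norm_num)
    rw [card_GU hF', Finset.prod_range_succ, Finset.prod_range_succ, Finset.prod_range_one,
      if_pos (by decide), if_neg (by decide), if_pos (by decide)] at h
    rw [show ((p : ℤ) ^ e) = (q : ℤ) by rw [he]; push_cast; rfl,
      show (q : ℤ) - -1 = ((q + 1 : ℕ) : ℤ) by push_cast; ring,
      show (3 : ℤ) = ((3 : ℕ) : ℤ) from rfl, Int.gcd_natCast_natCast]
    norm_num at h
    have hz := congrArg (Nat.cast : ℕ → ℤ) h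
    push_cast [Nat.cast_sub (Nat.one_le_pow 2 q (by omega))] at hz ⊢
    simp only [Nat.card_eq_fintype_card] at hz ⊢
    apply mul_right_cancel₀ (show (q : ℤ) + 1 ≠ 0 by omega)
    linear_combination hz
  · intro G _ _ φ hφ hG hc d ρ hd g
    have hne : ¬ (3 = 3 ∧ q = 2) := by omega
    have hsplit := CfsgLib.UMult.split_su hF' (n := 3) le_rfl hne (by simp)
    have hB := Cfsg.Agent.S2334.result (F := F) 3 q le_rfl (by decide) hF (by simp; omega)
    refine cover_aux (fun E _ _ π hπ hπc => hsplit E π hπ hπc) (QuotientGroup.mk' _)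
      (QuotientGroup.mk'_surjective _) (commutator_SU_eq_top hF' le_rfl hne) hB f G φ hφ hG hc
      d ρ (hd.trans_le ?_) g
    rw [← he, Nat.le_div_iff_mul_le (by omega)]
    obtain ⟨c, rfl⟩ : ∃ c, q = c + 3 := ⟨q - 3, by omega⟩
    refine Nat.le_sub_of_add_le ?_
    nlinarith [Nat.zero_le (c ^ 3), Nat.zero_le (c ^ 2), Nat.zero_le c]

end UnitaryCase

end CfsgLib.OrderFormula.Weak
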