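import Cfsg.Agent.Invol.QuasiDihedral
import Cfsg.Prelude.Def_Classification2
import Cfsg.Prelude.Def_EvenType
import Cfsg.Prelude.Def_KGroupFacts
import Mathlib.RepresentationTheory.Basic
import Mathlib.Analysis.Complex.Basic
import Mathlib.GroupTheory.Sylow

/-!
# Weakly embedded cores: interfaces

`Dim3` records what is used about `PSL₃(q)` and `PSU₃(q)`, `q` odd. `TableQD` says that these and
`M₁₁` are the only known simple groups with semidihedral Sylow 2-subgroups.
-/

set_option autoImplicit false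
set_option linter.unusedSectionVars false

namespace CfsgLib.OrderFormula.Weak

open Cfsg Subgroup

universe u

/-- Elementary abelian of order 8, or `Z₄ × Z₂`: impossible inside a semidihedral group. -/
def TwoWitness (G : Type u) [Group G] : Prop :=
  Cfsg.PRankAtLeast 2 3 G ∨
    ∃ a b : G, orderOf a = 4 ∧ orderOf b = 2 ∧ Commute a b ∧ b ≠ a ^ 2

/-- Facts about the three dimensional groups over a field with `p ^ e` elements. -/
structure Dim3 (K : Type u) [Group K] (p e : ℕ) : Prop where
  prime : p.Prime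
  odd : p ≠ 2
  one_le : 1 ≤ e
  card : ∃ η : ℤ, (η = 1 ∨ η = -1) ∧
    (Nat.card K : ℤ) * (Int.gcd 3 ((p : ℤ) ^ e - η) : ℤ) =
      ((p : ℤ) ^ e) ^ 3 * (((p : ℤ) ^ e) ^ 2 - 1) * (((p : ℤ) ^ e) ^ 3 - η)
  cent : ∀ z : K, orderOf z = 2 →
    padicValNat p (Nat.card (centralizer ({z} : Set K))) ≤ e ∧
      ∃ (F : Type) (_ : Field F) (_ : Fintype F), Fintype.card F = p ^ e ∧
        ∃ N : Subgroup (centralizer ({z} : Set K)), N.Normal ∧
          Nonempty (N ≃* Matrix.SpecialLinearGroup (Fin 2) F)
  /-- perfect central extensions have no small representations -/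
  cover : ∀ (G : Type u) [Group G] [Finite G] (φ : G →* K), Function.Surjective φ →
    commutator G = ⊤ → φ.ker ≤ center G → ∀ (d : ℕ) (ρ : Representation ℂ G (Fin d → ℂ)),
      d < 2 * p ^ e → ∀ g : G, ρ g = 1

/-- The semidihedral groups among the known simple groups. -/
def TableQD : Prop :=
  ∀ {K : Type u} [Group K] [Finite K] [IsSimpleGroup K], ¬ IsMulCommutative K →
    Cfsg.IsKnownSimple' K → ∀ S : Sylow 2 K, Cfsg.IsQuasiDihedral (S : Subgroup K) →
      (∃ p e : ℕ, Dim3 K p e) ∨ Cfsg.Spor.IsoM11 K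

section Witness

variable {S : Type u} [Group S] [Finite S]

theorem not_witness_of_qd (hS : Cfsg.IsQuasiDihedral S) : ¬ TwoWitness S := by
  obtain ⟨D⟩ := CfsgLib.QD.exists_data hS
  have hinv : ∀ {g : S}, g ^ 2 = 1 → g = 1 ∨ g = D.z ∨ ∃ i : ℤ, g = D.x ^ i * D.y := by
    intro g hg
    by_cases h1 : g = 1
    · exact Or.inl h1
    · rcases D.invol_cases (orderOf_eq_prime hg h1) with h | ⟨i, -, h⟩
      · exact Or.inr (Or.inl h)
      · exact Or.inr (Or.inr ⟨i, h⟩)
  rintro (⟨A, hA, hA2, h8⟩ | ⟨a, b, ha, hb, hab, hne⟩)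
  · classical
    by_cases hr : ∃ g ∈ A, ∃ i : ℤ, g = D.x ^ i * D.y
    · obtain ⟨g, hg, i, rfl⟩ := hr
      have hsub : (A : Set S) ⊆ ↑({1, D.z, D.x ^ i * D.y, D.z * (D.x ^ i * D.y)} : Finset S) := by
        intro h hh
        have hc : Commute h (D.x ^ i * D.y) :=
          congrArg Subtype.val (hA.is_comm.comm ⟨h, hh⟩ ⟨_, hg⟩)
        rcases D.refl_centralizer hc with e | e | e | e <;> simp [e]
      have h1 := Set.ncard_le_ncard hsub (Finset.finite_toSet _)
      rw [Set.ncard_coe_finset] at h1
      have h4 := h1.trans Finset.card_le_four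
      rw [← Nat.card_coe_set_eq] at h4
      change Nat.card A ≤ 4 at h4
      omega
    · have hsub : (A : Set S) ⊆ ↑({1, D.z} : Finset S) := by
        intro h hh
        rcases hinv (hA2 h hh) with e | e | ⟨i, e⟩
        · simp [e]
        · simp [e]
        · exact absurd ⟨h, hh, i, e⟩ hr
      have h1 := Set.ncard_le_ncard hsub (Finset.finite_toSet _)
      rw [Set.ncard_coe_finset] at h1
      have h2 := h1.trans Finset.card_le_two
      rw [← Nat.card_coe_set_eq] at h2
      change Nat.card A ≤ 2 at h2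
      omega
  · have ha2 : (a ^ 2) ^ 2 = 1 := by rw [← pow_mul]; exact orderOf_dvd_iff_pow_eq_one.1 (by rw [ha])
    have hne1 : a ^ 2 ≠ 1 := fun h => by
      have := orderOf_dvd_of_pow_eq_one h
      rw [ha] at this
      norm_num at this
    have key : ∀ {g : S}, Commute a g → g ^ 2 = 1 → g ≠ 1 → g = D.z := by
      intro g hag hg hg1
      rcases hinv hg with e | e | ⟨i, e⟩
      · exact absurd e hg1
      · exact e
      · exfalso
        have hyy : (D.x ^ i * D.y) ^ 2 = 1 := e ▸ hg
        rcases D.refl_centralizer (e ▸ hag) with f | f | f | f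
        · exact hne1 (by rw [f, one_pow])
        · exact hne1 (by rw [f, pow_two, D.z_sq])
        · exact hne1 (by rw [f, hyy])
        · exact hne1 (by
            rw [f, (show Commute D.z (D.x ^ i * D.y) from (D.z_comm _).symm).mul_pow, hyy,
              pow_two, D.z_sq, one_mul])
    have hb1 : b ≠ 1 := fun h => by simp [h] at hb
    exact hne ((key hab (hb ▸ pow_orderOf_eq_one b) hb1).trans
      (key (Commute.pow_right (Commute.refl a) 2) ha2 hne1).symm)

end Witness

/-- A group with a witness has no semidihedral Sylow 2-subgroup. -/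
theorem not_qd_of_witness {G : Type u} [Group G] [Finite G] (h : TwoWitness G) (S : Sylow 2 G) :
    ¬ Cfsg.IsQuasiDihedral (S : Subgroup G) := by
  intro hS
  haveI : Fact (Nat.Prime 2) := ⟨Nat.prime_two⟩
  -- transfer the witness into the Sylow subgroup
  have move : ∀ P : Subgroup G, IsPGroup 2 P →
      ∃ f : P →* (S : Subgroup G), Function.Injective f := by
    intro P hP
    obtain ⟨T, hT⟩ := hP.exists_le_sylow
    exact ⟨(T.equiv S).toMonoidHom.comp (Subgroup.inclusion hT),
      (T.equiv S).injective.comp (Subgroup.inclusion_injective hT)⟩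
  refine not_witness_of_qd hS ?_
  rcases h with ⟨A, hA, hA2, h8⟩ | ⟨a, b, ha, hb, hab, hne⟩
  · obtain ⟨f, hf⟩ := move A (fun g => ⟨1, Subtype.ext (by simpa using hA2 g g.2)⟩)
    refine Or.inl ⟨f.range, ⟨⟨?_⟩⟩, ?_, ?_⟩
    · rintro ⟨_, x, rfl⟩ ⟨_, y, rfl⟩
      exact Subtype.ext (by
        show f x * f y = f y * f x
        rw [← map_mul, hA.is_comm.comm x y, map_mul])
    · rintro _ ⟨x, rfl⟩
      rw [← map_pow, show x ^ 2 = 1 from Subtype.ext (by simpa using hA2 x x.2), map_one]
    · exact h8.trans_eq (Nat.card_congr (MonoidHom.ofInjective hf).toEquiv)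
  · have hP : IsPGroup 2 (zpowers a ⊔ zpowers b : Subgroup G) := by
      refine IsPGroup.to_sup_of_normal_right' ?_ ?_ ?_
      · exact IsPGroup.of_card (n := 2) (by rw [Nat.card_zpowers, ha]; norm_num)
      · exact IsPGroup.of_card (n := 1) (by rw [Nat.card_zpowers, hb]; norm_num)
      · rw [Subgroup.zpowers_le, Subgroup.mem_normalizer_iff]
        intro g
        constructor
        · intro hg
          obtain ⟨n, rfl⟩ := Subgroup.mem_zpowers_iff.1 hg
          rw [(hab.zpow_right n).eq, mul_inv_cancel_right]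
          exact hg
        · intro hg
          obtain ⟨n, hn⟩ := Subgroup.mem_zpowers_iff.1 hg
          have : g = b ^ n := by
            have h' : a⁻¹ * b ^ n * a = g := by rw [hn]; group
            rw [← h', mul_assoc, ← (hab.zpow_right n).eq, inv_mul_cancel_left]
          exact ⟨n, this.symm⟩
    obtain ⟨f, hf⟩ := move _ hP
    refine Or.inr ⟨f ⟨a, (le_sup_left : zpowers a ≤ zpowers a ⊔ zpowers b) (mem_zpowers a)⟩,
      f ⟨b, (le_sup_right : zpowers b ≤ zpowers a ⊔ zpowers b) (mem_zpowers b)⟩, ?_, ?_, ?_, ?_⟩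
    · rw [orderOf_injective f hf, Subgroup.orderOf_mk, ha]
    · rw [orderOf_injective f hf, Subgroup.orderOf_mk, hb]
    · exact (show Commute (⟨a, _⟩ : (zpowers a ⊔ zpowers b : Subgroup G)) ⟨b, _⟩ from
        Subtype.ext hab.eq).map f
    · intro e
      rw [← map_pow] at e
      exact hne (congrArg Subtype.val (hf e))

end CfsgLib.OrderFormula.Weak
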