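import Mathlib.NumberTheory.Multiplicity
import Mathlib.LinearAlgebra.Matrix.GeneralLinearGroup.Card
import Cfsg.Agent.Zsigmondy.PrimitivePart

/-!
# The orders of `L₃(q)` and `U₃(q)` do not divide those of small linear groups
-/

set_option autoImplicit false

namespace CfsgLib.OrderFormula.Weak

open Finset

/-- The product of the `r ^ i - 1`. -/
def unitProd (r n : ℕ) : ℕ := ∏ i ∈ range n, (r ^ (i + 1) - 1)

theorem unitProd_ne_zero {r : ℕ} (hr : 2 ≤ r) (n : ℕ) : unitProd r n ≠ 0 := by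
  refine prod_ne_zero_iff.2 fun i _ => ?_
  have : 1 < r ^ (i + 1) := Nat.one_lt_pow (by omega) hr
  omega

theorem card_GL_dvd {r : ℕ} [Fact r.Prime] (n : ℕ) :
    Nat.card (GL (Fin n) (ZMod r)) ∣ r ^ (n * n) * unitProd r n := by
  rw [Matrix.card_GL_field, ZMod.card]
  have h : ∀ i : Fin n, r ^ n - r ^ (i : ℕ) ∣ r ^ n * (r ^ (n - (i : ℕ)) - 1) := fun i => by
    have e : r ^ n - r ^ (i : ℕ) = r ^ (i : ℕ) * (r ^ (n - (i : ℕ)) - 1) := by
      rw [Nat.mul_sub, mul_one, ← pow_add, Nat.add_sub_cancel' i.2.le]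
    rw [e]
    exact mul_dvd_mul_right (pow_dvd_pow r i.2.le) _
  refine (prod_dvd_prod_of_dvd _ _ fun i _ => h i).trans (dvd_of_eq ?_)
  rw [prod_mul_distrib, prod_const, card_univ, Fintype.card_fin, ← pow_mul, unitProd,
    Fin.prod_univ_eq_prod_range (fun i => r ^ (n - i) - 1) n,
    ← prod_range_reflect (fun i => r ^ (i + 1) - 1) n]
  refine congrArg _ (prod_congr rfl fun i hi => ?_)
  have := mem_range.1 hi
  rw [show n - 1 - i + 1 = n - i by omega]

/-- The `p`-part of the product of the `r ^ i - 1`. -/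
theorem padic_unitProd {p r f : ℕ} [hp : Fact p.Prime] (hp2 : Odd p) (hr : 2 ≤ r) (hf : 0 < f)
    (hord : ∀ i, p ∣ r ^ i - 1 ↔ f ∣ i) (n : ℕ) :
    padicValNat p (unitProd r n) =
      n / f * padicValNat p (r ^ f - 1) + padicValNat p (n / f).factorial := by
  have hpr : ¬ p ∣ r := fun hd => by
    have h1 : p ∣ r ^ f - 1 := (hord f).2 dvd_rfl
    have h2 : p ∣ r ^ f := dvd_pow hd hf.ne'
    have h3 := Nat.dvd_sub h2 h1
    rw [Nat.sub_sub_self (Nat.one_le_pow _ _ (by omega))] at h3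
    exact hp.out.ne_one (Nat.dvd_one.1 h3)
  induction n with
  | zero => simp [unitProd]
  | succ n ih =>
    have h1 : r ^ (n + 1) - 1 ≠ 0 := by
      have : 1 < r ^ (n + 1) := Nat.one_lt_pow (by omega) hr
      omega
    rw [show unitProd r (n + 1) = unitProd r n * (r ^ (n + 1) - 1) from prod_range_succ _ n,
      padicValNat.mul (unitProd_ne_zero hr n) h1, ih]
    by_cases hd : f ∣ n + 1
    · have hj := Nat.mul_div_cancel' hd
      rw [Nat.succ_div_of_dvd hd] at hj ⊢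
      have hlt : 1 < r ^ f := Nat.one_lt_pow hf.ne' hr
      have hv := padicValNat.pow_sub_pow (p := p) (x := r ^ f) (y := 1) hp2 hlt
        ((hord f).2 dvd_rfl) (fun h => hpr (hp.out.dvd_of_dvd_pow h)) (n := n / f + 1) (Nat.succ_ne_zero _)
      rw [one_pow, ← pow_mul, hj] at hv
      rw [hv, Nat.factorial_succ, padicValNat.mul (Nat.succ_ne_zero _) (Nat.factorial_ne_zero _)]
      ring
    · rw [Nat.succ_div_of_not_dvd hd, padicValNat.eq_zero_of_not_dvd fun h => hd ((hord _).1 h),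
        add_zero]

/-- The cross characteristic case. -/
theorem not_dvd_cross {p r e n : ℕ} [hp : Fact p.Prime] [hr : Fact r.Prime] (hp2 : p ≠ 2) (hr2 : r ≠ 2)
    (hpr : r ≠ p) (h5 : 5 ≤ p ^ e) (hn : r ^ n < 4 * (p ^ e) ^ 2) :
    ¬ p ^ (3 * e) ∣ unitProd r n := by
  intro hdvd
  have hr' := hr.out.two_le
  have hpo : Odd p := hp.out.odd_of_ne_two hp2
  set q := p ^ e with hq
  have hv : 3 * e ≤ padicValNat p (unitProd r n) :=
    (padicValNat_dvd_iff_le (unitProd_ne_zero hr' n)).1 hdvd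
  -- the order of `r` modulo `p`
  have hr0 : (r : ZMod p) ≠ 0 := fun h => hpr
    ((Nat.prime_dvd_prime_iff_eq hp.out hr.out).1 ((ZMod.natCast_eq_zero_iff _ _).1 h)).symm
  set f := orderOf (r : ZMod p) with hf
  have hfpos : 0 < f := orderOf_pos_iff.2
    (isOfFinOrder_iff_pow_eq_one.2 ⟨p - 1, by have := hp.out.two_le; omega, ZMod.pow_card_sub_one_eq_one hr0⟩)
  have hord : ∀ i, p ∣ r ^ i - 1 ↔ f ∣ i := fun i => by
    rw [hf, orderOf_dvd_iff_pow_eq_one, ← ZMod.natCast_eq_zero_iff,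
      Nat.cast_sub (Nat.one_le_pow _ _ (by omega)), Nat.cast_pow, Nat.cast_one, sub_eq_zero]
  rw [padic_unitProd hpo hr' hfpos hord] at hv
  obtain ⟨a, ha⟩ : ∃ a, a = padicValNat p (r ^ f - 1) := ⟨_, rfl⟩
  obtain ⟨s, hs⟩ : ∃ s, s = n / f := ⟨_, rfl⟩
  rw [← ha, ← hs] at hv
  have hlt : 1 < r ^ f := Nat.one_lt_pow hfpos.ne' hr'
  have hpa : 2 * p ^ a ≤ r ^ f := by
    have heven : 2 ∣ r ^ f - 1 := by
      have : Odd (r ^ f) := (hr.out.odd_of_ne_two hr2).pow
      obtain ⟨t, ht⟩ := this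
      exact ⟨t, by omega⟩
    have hd : 2 * p ^ a ∣ r ^ f - 1 :=
      Nat.Coprime.mul_dvd_of_dvd_of_dvd ((Nat.coprime_two_left.2 hpo).pow_right a) heven
        (ha ▸ pow_padicValNat_dvd)
    exact (Nat.le_of_dvd (by omega) hd).trans (Nat.sub_le _ _)
  have ha1 : 1 ≤ a := ha ▸ one_le_padicValNat_of_dvd (by omega) ((hord f).2 dvd_rfl)
  have hfs : (r ^ f) ^ s ≤ r ^ n := by
    rw [← pow_mul]
    exact Nat.pow_le_pow_right (by omega) (by rw [hs, mul_comm]; exact Nat.div_mul_le_self n f)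
  rcases Nat.lt_or_ge s 2 with hs2 | hs2
  · -- at most one layer
    have he : 0 < e := Nat.pos_of_ne_zero fun h => by rw [hq, h, pow_zero] at h5; omega
    rcases Nat.lt_or_ge s 1 with hs1 | hs1
    · have h0 : s = 0 := by omega
      rw [h0, Nat.factorial_zero, padicValNat_one_right, zero_mul] at hv
      omega
    · have h1 : s = 1 := by omega
      rw [h1, Nat.factorial_one, padicValNat_one_right, one_mul, add_zero] at hv
      rw [h1, pow_one] at hfs
      have h3 : q ^ 3 ≤ p ^ a := by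
        rw [hq, ← pow_mul, mul_comm]; exact Nat.pow_le_pow_right hp.out.pos hv
      nlinarith
  · -- several layers
    set w := padicValNat p s.factorial with hw
    have hfac : 2 * w + 1 ≤ s := by
      have h := sub_one_mul_padicValNat_factorial (p := p) s
      rw [← hw] at h
      have hsum : 1 ≤ (Nat.digits p s).sum := by
        have hne : Nat.digits p s ≠ [] := Nat.digits_ne_nil_iff_ne_zero.2 (by omega)
        have := List.le_sum_of_mem (List.getLast_mem hne)
        have h0 := Nat.getLast_digit_ne_zero p (show s ≠ 0 by omega)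
        omega
      have h2 : 2 * w ≤ (p - 1) * w :=
        Nat.mul_le_mul_right _ (by have := hp.out.two_le; omega)
      have := Nat.digit_sum_le p s
      omega
    have hexp : 2 * (3 * e) ≤ a * (3 * s) := by
      have h1 : s ≤ a * s := Nat.le_mul_of_pos_left s ha1
      have h2 : a * (3 * s) = 2 * (s * a) + a * s := by ring
      omega
    have h6 : q ^ 6 ≤ (p ^ a) ^ (3 * s) := by
      rw [hq, ← pow_mul, ← pow_mul]
      exact Nat.pow_le_pow_right hp.out.pos (by omega)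
    have h7 : (2 * p ^ a) ^ (3 * s) ≤ (r ^ n) ^ 3 :=
      (Nat.pow_le_pow_left hpa _).trans (by rw [mul_comm, pow_mul]; exact Nat.pow_le_pow_left hfs 3)
    have h8 : 64 ≤ 2 ^ (3 * s) := by
      calc (64 : ℕ) = 2 ^ 6 := by norm_num
        _ ≤ _ := Nat.pow_le_pow_right two_pos (by omega)
    have h9 : 64 * q ^ 6 ≤ (2 * p ^ a) ^ (3 * s) := by
      rw [mul_pow]; exact Nat.mul_le_mul h8 h6
    have h10 : (r ^ n) ^ 3 < (4 * q ^ 2) ^ 3 := Nat.pow_lt_pow_left hn (by omega)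
    have h11 : (4 * q ^ 2) ^ 3 = 64 * q ^ 6 := by ring
    omega

/-- A prime whose order modulo it of `p` is `E`. -/
theorem exists_primitive_prime {p E : ℕ} (hp : p.Prime) (hp2 : p ≠ 2) (hE : 3 ≤ E)
    (h34 : ¬(p = 3 ∧ E = 4)) :
    ∃ l : ℕ, l.Prime ∧ l ∣ p ^ E - 1 ∧ (∀ i, 1 ≤ i → i < E → ¬ l ∣ p ^ i - 1) ∧ 5 ≤ l := by
  obtain ⟨l, hl, hd, hi⟩ : ∃ l : ℕ, l.Prime ∧ l ∣ p ^ E - 1 ∧ ∀ i, 1 ≤ i → i < E → ¬ l ∣ p ^ i - 1 := by
    by_cases hx : (p, E) ∈ Zsig.exceptions
    · simp only [Zsig.exceptions, List.mem_cons, List.not_mem_nil, or_false, Prod.mk.injEq] at hx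
      have h6 : (p = 3 ∨ p = 5) ∧ E = 6 := by
        rcases hx with ⟨rfl, rfl⟩ | ⟨rfl, rfl⟩ | ⟨rfl, rfl⟩ | ⟨rfl, rfl⟩ | ⟨rfl, rfl⟩ | ⟨rfl, rfl⟩ |
          ⟨rfl, rfl⟩ | ⟨rfl, rfl⟩ | ⟨rfl, rfl⟩ | ⟨rfl, rfl⟩ | ⟨rfl, rfl⟩ | ⟨rfl, rfl⟩ | ⟨rfl, rfl⟩ <;>
          first
            | exact absurd rfl hp2
            | exact absurd ⟨rfl, rfl⟩ h34
            | (simp; done)
            | (exfalso; revert hp; norm_num; done)
      obtain ⟨hpv, rfl⟩ := h6
      refine ⟨7, by norm_num, ?_, fun i h1 h2 => ?_⟩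
      · rcases hpv with rfl | rfl <;> norm_num
      · rcases hpv with rfl | rfl <;> interval_cases i <;> norm_num
    · obtain ⟨m, hm, hc, hge⟩ := Zsig.exists_primitive_part hp.two_le hE hx
      obtain ⟨l, hl, hlm⟩ := Nat.exists_prime_and_dvd (show m ≠ 1 by omega)
      exact ⟨l, hl, hlm.trans hm, fun i h1 h2 h3 =>
        hl.not_dvd_one ((hc i h1 h2) ▸ Nat.dvd_gcd hlm h3)⟩
  refine ⟨l, hl, hd, hi, ?_⟩
  by_contra h5
  have h4 : l = 2 ∨ l = 3 := by
    have := hl.two_le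
    have : l ≠ 4 := fun h => by rw [h] at hl; norm_num at hl
    omega
  have hodd := Nat.odd_iff.1 (hp.odd_of_ne_two hp2)
  have h1 := hi 1 le_rfl (by omega)
  have h2 := hi 2 (by omega) (by omega)
  rw [pow_one] at h1
  rcases h4 with rfl | rfl
  · omega
  · have hp3 : ¬ 3 ∣ p := fun h => by
      have : p = 3 := ((Nat.prime_dvd_prime_iff_eq (by norm_num) hp).1 h).symm
      subst this
      have := Nat.dvd_sub (dvd_pow_self 3 (show E ≠ 0 by omega)) hd
      rw [Nat.sub_sub_self (Nat.one_le_pow _ _ (by omega))] at this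
      norm_num at this
    have hm : p ^ 2 % 3 = 1 := by
      rw [Nat.pow_mod]
      have : p % 3 = 1 ∨ p % 3 = 2 := by omega
      rcases this with h | h <;> rw [h]
    have := Nat.one_le_pow 2 p hp.pos
    omega

/-- No linear group of small dimension has order divisible by that of the simple group. -/
theorem not_dvd_GL {p e r n k : ℕ} [hp : Fact p.Prime] [hr : Fact r.Prime] (hp2 : p ≠ 2) (hr2 : r ≠ 2)
    (he : 1 ≤ e) (h5 : 5 ≤ p ^ e)
    (hk : ∃ η : ℤ, (η = 1 ∨ η = -1) ∧ (k : ℤ) * (Int.gcd 3 ((p : ℤ) ^ e - η) : ℤ) =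
      ((p : ℤ) ^ e) ^ 3 * (((p : ℤ) ^ e) ^ 2 - 1) * (((p : ℤ) ^ e) ^ 3 - η))
    (hn : r ^ n < 4 * (p ^ e) ^ 2) : ¬ k ∣ Nat.card (GL (Fin n) (ZMod r)) := by
  intro hdvd
  have hd := hdvd.trans (card_GL_dvd n)
  obtain ⟨η, hη, hk⟩ := hk
  set g := Int.gcd 3 ((p : ℤ) ^ e - η) with hg
  have hg3 : (g : ℤ) ∣ 3 := Int.gcd_dvd_left _ _
  by_cases hrp : r = p
  · -- the primitive prime
    subst hrp
    have hn2 : n ≤ 2 * e + 1 := by
      by_contra hlt
      have h1 : r ^ (2 * e + 2) ≤ r ^ n := Nat.pow_le_pow_right hp.out.pos (by omega)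
      have h2 : r ^ (2 * e + 2) = r ^ 2 * (r ^ e) ^ 2 := by ring
      have h3 : 3 ≤ r := by have := hp.out.two_le; omega
      have h4 : 4 ≤ r ^ 2 := by nlinarith
      have h5' := Nat.mul_le_mul_right ((r ^ e) ^ 2) h4
      omega
    have hn3 : n < 3 * e := by
      rcases Nat.lt_or_ge e 2 with h | h
      · have he1 : e = 1 := by omega
        subst he1
        rw [pow_one] at h5 hn
        by_contra hlt
        have h3 : n = 3 := by omega
        subst h3
        nlinarith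
      · omega
    obtain ⟨E, hE, hEn, hE4, hEk⟩ : ∃ E, 3 ≤ E ∧ n < E ∧ E ≠ 4 ∧ ∀ l : ℕ, l.Prime → 5 ≤ l →
        l ∣ r ^ E - 1 → (∀ i, 1 ≤ i → i < E → ¬ l ∣ r ^ i - 1) → (l : ℤ) ∣ (k : ℤ) * g := by
      rcases hη with rfl | rfl
      · refine ⟨3 * e, by omega, hn3, by omega, fun l _ _ hl _ => ?_⟩
        rw [hk]
        refine Dvd.dvd.mul_left ?_ _
        have h := Int.natCast_dvd_natCast.2 hl
        rw [Nat.cast_sub (Nat.one_le_pow _ _ hp.out.pos)] at h
        push_cast at h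
        rwa [← pow_mul, mul_comm e 3]
      · refine ⟨6 * e, by omega, by omega, by omega, fun l hl5 _ hl hi => ?_⟩
        rw [hk]
        refine Dvd.dvd.mul_left ?_ _
        have hfac : (r ^ (3 * e) - 1) * (r ^ (3 * e) + 1) = r ^ (6 * e) - 1 := by
          rw [mul_comm, ← Nat.sq_sub_sq, one_pow, ← pow_mul, show 3 * e * 2 = 6 * e by ring]
        rcases (Nat.Prime.dvd_mul hl5).1 (hfac ▸ hl) with h | h
        · exact absurd h (hi _ (by omega) (by omega))
        · have h' := Int.natCast_dvd_natCast.2 h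
          push_cast at h'
          rw [← pow_mul, mul_comm e 3, sub_neg_eq_add]
          exact h'
    obtain ⟨l, hl, hld, hli, hl5⟩ := exists_primitive_prime hp.out hr2 hE (fun h => hE4 h.2)
    have hlk := hEk l hl hl5 hld hli
    rcases (Nat.prime_iff_prime_int.1 hl).dvd_mul.1 hlk with h | h
    · have hl' : l ∣ r ^ (n * n) * unitProd r n := (Int.natCast_dvd_natCast.1 h).trans hd
      rcases hl.dvd_mul.1 hl' with h' | h'
      · have hlr : l = r := (Nat.prime_dvd_prime_iff_eq hl hp.out).1 (hl.dvd_of_dvd_pow h')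
        subst hlr
        have := Nat.dvd_sub (dvd_pow_self l (show E ≠ 0 by omega)) hld
        rw [Nat.sub_sub_self (Nat.one_le_pow _ _ hp.out.pos)] at this
        exact hl.not_dvd_one this
      · obtain ⟨i, hi, hli'⟩ := hl.prime.exists_mem_finset_dvd h'
        exact hli (i + 1) (by omega) (by have := mem_range.1 hi; omega) hli'
    · have := Int.le_of_dvd (by norm_num) (h.trans hg3)
      omega
  · -- cross characteristic
    refine not_dvd_cross hp2 hr2 hrp h5 hn ?_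
    have hpg : Nat.Coprime p g := by
      refine hp.out.coprime_iff_not_dvd.2 fun h => ?_
      have h1 : (p : ℤ) ∣ (p : ℤ) ^ e - η :=
        (Int.natCast_dvd_natCast.2 h).trans (Int.gcd_dvd_right _ _)
      have h2 : (p : ℤ) ∣ η := by
        have := dvd_sub (dvd_pow_self (p : ℤ) (show e ≠ 0 by omega)) h1
        rwa [sub_sub_cancel] at this
      have h4 : (p : ℤ) ∣ 1 := by
        rcases hη with rfl | rfl
        · exact h2
        · exact Int.dvd_neg.1 h2
      exact hp.out.not_dvd_one (by exact_mod_cast h4)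
    have h1 : ((p ^ (3 * e) : ℕ) : ℤ) ∣ ((k * g : ℕ) : ℤ) := by
      push_cast
      rw [hk, mul_comm 3 e, pow_mul, mul_assoc]
      exact dvd_mul_right _ _
    have h2 : p ^ (3 * e) ∣ k :=
      (Nat.Coprime.pow_left _ hpg).dvd_of_dvd_mul_right (Int.natCast_dvd_natCast.1 h1)
    exact ((((Nat.coprime_primes hp.out hr.out).2 (Ne.symm hrp)).pow_left _).pow_right _
      ).dvd_of_dvd_mul_left (h2.trans hd)

end CfsgLib.OrderFormula.Weak
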