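import Cfsg.Agent.OrderFormula.Weak.Interface
import Cfsg.Agent.OrderFormula.Weak.MinRepArith
import Mathlib.GroupTheory.FiniteAbelian.Duality
import Mathlib.RingTheory.RootsOfUnity.AlgebraicallyClosed
import Mathlib.Analysis.Complex.Polynomial.Basic
import Mathlib.LinearAlgebra.Trace
import Mathlib.LinearAlgebra.Matrix.GeneralLinearGroup.Basic
import Mathlib.GroupTheory.Nilpotent

/-!
# Small representations of groups with a three dimensional quotient and odd kernel
-/

set_option autoImplicit false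
set_option linter.unusedSectionVars false
set_option linter.style.haveILetI false

namespace CfsgLib.OrderFormula.Weak

open Subgroup
open scoped commutatorElement

universe u

section Proj

variable {G : Type u} [Group G] {d : ℕ} (ρ : Representation ℂ G (Fin d → ℂ)) (A : Subgroup G)
  [Fintype A]

/-- The projection on the `θ`-eigenspace of `A`. -/
noncomputable def eigProj (θ : A →* ℂˣ) : Module.End ℂ (Fin d → ℂ) :=
  (Nat.card A : ℂ)⁻¹ • ∑ a : A, (θ a : ℂ)⁻¹ • ρ (a : G)

variable {ρ A}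

theorem rho_mul_eigProj (θ : A →* ℂˣ) (a : A) :
    ρ (a : G) * eigProj ρ A θ = (θ a : ℂ) • eigProj ρ A θ := by
  simp only [eigProj, mul_smul_comm, Finset.mul_sum]
  rw [smul_comm (θ a : ℂ), Finset.smul_sum (r := (θ a : ℂ))]
  congr 1
  refine (Fintype.sum_equiv (Equiv.mulLeft a) _ _ fun b => ?_)
  rw [Equiv.coe_mulLeft, map_mul θ, Units.val_mul, smul_smul, mul_inv, ← mul_assoc,
    mul_inv_cancel₀ (Units.ne_zero _), one_mul, Subgroup.coe_mul, map_mul ρ]

theorem eigProj_idem (θ : A →* ℂˣ) : eigProj ρ A θ * eigProj ρ A θ = eigProj ρ A θ := by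
  conv_lhs => arg 1; rw [eigProj]
  simp only [smul_mul_assoc, Finset.sum_mul, rho_mul_eigProj, smul_smul,
    inv_mul_cancel₀ (Units.ne_zero _), one_smul, Finset.sum_const, Finset.card_univ]
  rw [← Nat.cast_smul_eq_nsmul ℂ, smul_smul, Nat.card_eq_fintype_card,
    inv_mul_cancel₀ (Nat.cast_ne_zero.2 Fintype.card_ne_zero), one_smul]

theorem isProj_eigProj (θ : A →* ℂˣ) :
    LinearMap.IsProj (LinearMap.range (eigProj ρ A θ)) (eigProj ρ A θ) :=
  ⟨fun x => LinearMap.mem_range_self _ x, fun x hx => by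
    obtain ⟨y, rfl⟩ := hx
    exact LinearMap.congr_fun (eigProj_idem θ) y⟩

theorem trace_eigProj (θ : A →* ℂˣ) : LinearMap.trace ℂ _ (eigProj ρ A θ) =
    (Module.finrank ℂ (LinearMap.range (eigProj ρ A θ)) : ℂ) := (isProj_eigProj θ).trace

theorem finrank_eigProj_pos {θ : A →* ℂˣ} (h : eigProj ρ A θ ≠ 0) :
    0 < Module.finrank ℂ (LinearMap.range (eigProj ρ A θ)) :=
  Nat.pos_of_ne_zero fun h0 =>
    h (LinearMap.range_eq_bot.1 (Submodule.finrank_eq_zero.1 h0))

theorem sum_eigProj [IsMulCommutative A] [Fintype (A →* ℂˣ)] :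
    ∑ θ : A →* ℂˣ, eigProj ρ A θ = 1 := by
  classical
  letI : CommGroup A := { (inferInstance : Group A) with
    mul_comm := fun y z => mul_comm' y z }
  have hcard : Fintype.card (A →* ℂˣ) = Fintype.card A := by
    obtain ⟨e⟩ := CommGroup.monoidHom_mulEquiv_of_hasEnoughRootsOfUnity A ℂ
    exact Fintype.card_congr e.toEquiv
  have horth : ∀ a : A, a ≠ 1 → ∑ θ : A →* ℂˣ, (θ a : ℂ)⁻¹ = 0 := by
    intro a ha
    obtain ⟨ψ, hψ⟩ := CommGroup.exists_apply_ne_one_of_hasEnoughRootsOfUnity A ℂ (inv_ne_one.2 ha)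
    have h1 : ∑ θ : A →* ℂˣ, (θ a⁻¹ : ℂ) = (ψ a⁻¹ : ℂ) * ∑ θ : A →* ℂˣ, (θ a⁻¹ : ℂ) := by
      rw [Finset.mul_sum]
      refine (Fintype.sum_equiv (Equiv.mulLeft ψ) _ _ fun θ => ?_).symm
      simp
    have h2 : ∑ θ : A →* ℂˣ, (θ a⁻¹ : ℂ) = 0 := by
      rcases eq_or_ne (∑ θ : A →* ℂˣ, (θ a⁻¹ : ℂ)) 0 with h | h
      · exact h
      · exfalso
        apply hψ
        exact Units.ext ((mul_eq_right₀ h).1 h1.symm)
    simpa using h2
  simp only [eigProj, ← Finset.smul_sum]
  rw [Finset.sum_comm]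
  simp only [← Finset.sum_smul]
  rw [Finset.sum_eq_single 1 (fun a _ ha => by rw [horth a ha, zero_smul])
    (fun h => absurd (Finset.mem_univ _) h)]
  simp [Finset.card_univ, hcard, Nat.card_eq_fintype_card, smul_smul]

/-- Equality of operators that agree on every eigenspace. -/
theorem eq_of_eigen [IsMulCommutative A] [Fintype (A →* ℂˣ)] {x y : Module.End ℂ (Fin d → ℂ)}
    (h : ∀ θ : A →* ℂˣ, eigProj ρ A θ ≠ 0 → x * eigProj ρ A θ = y * eigProj ρ A θ) : x = y := by
  rw [← mul_one x, ← mul_one y, ← sum_eigProj (ρ := ρ) (A := A), Finset.mul_sum, Finset.mul_sum]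
  refine Finset.sum_congr rfl fun θ _ => ?_
  by_cases h0 : eigProj ρ A θ = 0
  · simp [h0]
  · exact h θ h0

/-- The conjugate character. -/
def twist [A.Normal] (g : G) (θ : A →* ℂˣ) : A →* ℂˣ :=
  θ.comp (MulAut.conjNormal g⁻¹).toMonoidHom

theorem rho_mul_eigProj_twist [A.Normal] (g : G) (θ : A →* ℂˣ) :
    ρ g * eigProj ρ A θ = eigProj ρ A (twist g θ) * ρ g := by
  simp only [eigProj, mul_smul_comm, smul_mul_assoc, Finset.mul_sum, Finset.sum_mul]
  congr 1
  refine Fintype.sum_equiv (MulAut.conjNormal g).toEquiv _ _ fun a => ?_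
  have h1 : twist g θ ((MulAut.conjNormal g) a) = θ a := by
    show θ (MulAut.conjNormal g⁻¹ (MulAut.conjNormal g a)) = θ a
    rw [← MulAut.mul_apply, ← map_mul, inv_mul_cancel, map_one, MulAut.one_apply]
  rw [MulEquiv.toEquiv_eq_coe, MulEquiv.coe_toEquiv, h1, ← map_mul ρ, ← map_mul ρ,
    MulAut.conjNormal_apply, inv_mul_cancel_right]

theorem twist_ne_zero [A.Normal] (g : G) {θ : A →* ℂˣ} (h : eigProj ρ A θ ≠ 0) :
    eigProj ρ A (twist g θ) ≠ 0 := by
  intro h0
  apply h
  have := rho_mul_eigProj_twist (ρ := ρ) g θ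
  rw [h0, zero_mul] at this
  calc eigProj ρ A θ = ρ (g⁻¹ * g) * eigProj ρ A θ := by rw [inv_mul_cancel, map_one, one_mul]
    _ = 0 := by rw [map_mul, mul_assoc, this, mul_zero]

theorem twist_mul [A.Normal] (g h : G) (θ : A →* ℂˣ) :
    twist (g * h) θ = twist g (twist h θ) := by
  ext a
  show ((θ (MulAut.conjNormal (g * h)⁻¹ a) : ℂˣ) : ℂ) =
    (θ (MulAut.conjNormal h⁻¹ (MulAut.conjNormal g⁻¹ a)) : ℂ)
  rw [mul_inv_rev, map_mul, MulAut.mul_apply]

theorem twist_one [A.Normal] (θ : A →* ℂˣ) : twist (1 : G) θ = θ := by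
  ext a
  show ((θ (MulAut.conjNormal (1 : G)⁻¹ a) : ℂˣ) : ℂ) = (θ a : ℂ)
  rw [inv_one, map_one, MulAut.one_apply]

theorem card_support_le [IsMulCommutative A] [Fintype (A →* ℂˣ)] :
    Nat.card {θ : A →* ℂˣ // eigProj ρ A θ ≠ 0} ≤ d := by
  classical
  set r : (A →* ℂˣ) → ℕ := fun θ => Module.finrank ℂ (LinearMap.range (eigProj ρ A θ))
  have h1 : ((∑ θ : A →* ℂˣ, r θ : ℕ) : ℂ) = (d : ℂ) := by
    push_cast
    simp only [r, ← trace_eigProj]
    rw [← map_sum, sum_eigProj, LinearMap.trace_one, Module.finrank_fin_fun]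
  have h2 : Fintype.card {θ : A →* ℂˣ // eigProj ρ A θ ≠ 0} ≤ ∑ θ : A →* ℂˣ, r θ := by
    rw [Fintype.card_subtype, Finset.card_eq_sum_ones]
    exact (Finset.sum_le_sum fun θ hθ => finrank_eigProj_pos (Finset.mem_filter.1 hθ).2).trans
      (Finset.sum_le_sum_of_subset (Finset.subset_univ _))
  rw [Nat.card_eq_fintype_card]
  exact h2.trans_eq (Nat.cast_injective h1)

end Proj

section Cover

variable {K : Type u} [Group K] {p e : ℕ}
variable {G : Type u} [Group G] [Finite G] {φ : G →* K} {d : ℕ}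
  {ρ : Representation ℂ G (Fin d → ℂ)}

/-- An abelian normal subgroup killed by all small representations of the quotient is central. -/
theorem central_of_abelian (hd : d < 2 * p ^ e) (hinj : ∀ g, ρ g = 1 → g = 1)
    (A : Subgroup G) [A.Normal] [IsMulCommutative A]
    (hquot : ∀ (t : ℕ) (σ : Representation ℂ G (Fin t → ℂ)), t < 2 * p ^ e → A ≤ σ.ker →
      ∀ g, σ g = 1) : A ≤ center G := by
  classical
  letI := Fintype.ofFinite A
  haveI : Finite (A →* ℂˣ) := by
    letI : CommGroup A := { (inferInstance : Group A) with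
      mul_comm := fun y z => mul_comm' y z }
    exact Finite.of_equiv A (CommGroup.monoidHom_mulEquiv_of_hasEnoughRootsOfUnity A ℂ).some.symm.toEquiv
  letI := Fintype.ofFinite (A →* ℂˣ)
  let T := {θ : A →* ℂˣ // eigProj ρ A θ ≠ 0}
  let n := Fintype.card T
  have hn : n ≤ d := by
    have := card_support_le (ρ := ρ) (A := A)
    rwa [Nat.card_eq_fintype_card] at this
  let b : T ≃ Fin n := Fintype.equivFin T
  let act : G → Fin n → Fin n := fun g i => b ⟨twist g (b.symm i).1, twist_ne_zero g (b.symm i).2⟩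
  have act_one : ∀ i, act 1 i = i := fun i => by simp [act, twist_one]
  have act_mul : ∀ g h i, act (g * h) i = act g (act h i) := fun g h i => by simp [act, twist_mul]
  let σ : Representation ℂ G (Fin n → ℂ) :=
    { toFun := fun g => LinearMap.funLeft ℂ ℂ (act g⁻¹)
      map_one' := by
        refine LinearMap.ext fun f => funext fun i => ?_
        show f (act 1⁻¹ i) = f i
        rw [inv_one, act_one]
      map_mul' := fun g h => by
        refine LinearMap.ext fun f => funext fun i => ?_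
        show f (act (g * h)⁻¹ i) = f (act h⁻¹ (act g⁻¹ i))
        rw [mul_inv_rev, act_mul] }
  have hA : A ≤ σ.ker := fun a ha => by
    refine MonoidHom.mem_ker.2 (LinearMap.ext fun f => funext fun i => ?_)
    show f (act a⁻¹ i) = f i
    have : twist a⁻¹ (b.symm i).1 = (b.symm i).1 := by
      ext x
      show (((b.symm i).1 (MulAut.conjNormal (a⁻¹)⁻¹ x) : ℂˣ) : ℂ) = _
      congr 2
      apply Subtype.ext
      rw [inv_inv, MulAut.conjNormal_apply]
      have h := congrArg Subtype.val (mul_comm' (⟨a, ha⟩ : A) x)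
      rw [Subgroup.coe_mul, Subgroup.coe_mul] at h
      rw [h, mul_inv_cancel_right]
    congr 1
    simp [act, this]
  have hσ := hquot n σ (lt_of_le_of_lt hn hd) hA
  have hfix : ∀ g θ, eigProj ρ A θ ≠ 0 → twist g θ = θ := by
    intro g θ hθ
    have h1 := congrFun (LinearMap.congr_fun (hσ g⁻¹) (Pi.single (b ⟨θ, hθ⟩) 1)) (b ⟨θ, hθ⟩)
    change (Pi.single (b ⟨θ, hθ⟩) (1 : ℂ) : Fin n → ℂ) (act g⁻¹⁻¹ (b ⟨θ, hθ⟩)) =
      (Pi.single (b ⟨θ, hθ⟩) (1 : ℂ) : Fin n → ℂ) (b ⟨θ, hθ⟩) at h1
    rw [inv_inv, Pi.single_eq_same] at h1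
    by_contra hne
    rw [Pi.single_eq_of_ne] at h1
    · exact zero_ne_one h1
    · intro heq
      exact hne (by simpa [act] using congrArg Subtype.val (b.injective heq))
  intro a ha
  refine mem_center_iff.2 fun g => ?_
  have h : ρ (g * a * g⁻¹) = ρ a := by
    refine eq_of_eigen (ρ := ρ) (A := A) fun θ hθ => ?_
    have e1 := rho_mul_eigProj (ρ := ρ) θ (MulAut.conjNormal g ⟨a, ha⟩)
    have e2 := rho_mul_eigProj (ρ := ρ) θ (⟨a, ha⟩ : A)
    have e3 : θ (MulAut.conjNormal g ⟨a, ha⟩) = θ ⟨a, ha⟩ := by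
      have := DFunLike.congr_fun (hfix g⁻¹ θ hθ) (⟨a, ha⟩ : A)
      rwa [twist, MonoidHom.comp_apply, inv_inv] at this
    rw [MulAut.conjNormal_apply, e3] at e1
    exact e1.trans e2.symm
  refine mul_inv_eq_iff_eq_mul.1 (mul_inv_eq_one.1 (hinj (g * a * g⁻¹ * a⁻¹) ?_))
  rw [map_mul, h, ← map_mul, mul_inv_cancel, map_one]

/-- Data of a minimal faithful counterexample. -/
structure Small (K : Type u) [Group K] (p e : ℕ) (φ : G →* K) (ρ : Representation ℂ G (Fin d → ℂ)) : Prop where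
  lt : d < 2 * p ^ e
  inj : ∀ g, ρ g = 1 → g = 1
  surj : Function.Surjective φ
  norm : ∀ H : Subgroup G, H.Normal → H ≤ φ.ker ∨ H = ⊤
  perfect : commutator G = ⊤
  odd : Odd (Nat.card φ.ker)
  quot : ∀ A : Subgroup G, A.Normal → A ≤ φ.ker → A ≠ ⊥ → ∀ (t : ℕ) (σ : Representation ℂ G (Fin t → ℂ)),
    t < 2 * p ^ e → A ≤ σ.ker → ∀ g, σ g = 1

/-- Normal `r`-subgroups of the kernel are central. -/
theorem Small.central [Finite K] (S : Small K p e φ ρ) [hp : Fact p.Prime] (hp2 : p ≠ 2) (he : 1 ≤ e)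
    (h5 : 5 ≤ p ^ e)
    (hk : ∃ η : ℤ, (η = 1 ∨ η = -1) ∧ (Nat.card K : ℤ) * (Int.gcd 3 ((p : ℤ) ^ e - η) : ℤ) =
      ((p : ℤ) ^ e) ^ 3 * (((p : ℤ) ^ e) ^ 2 - 1) * (((p : ℤ) ^ e) ^ 3 - η))
    {r : ℕ} [hr : Fact r.Prime] :
    ∀ P : Subgroup G, P.Normal → P ≤ φ.ker → IsPGroup r P → P ≤ center G := by
  classical
  intro P
  induction hm : Nat.card P using Nat.strong_induction_on generalizing P with
  | _ m IH =>
  intro hPn hPN hP
  haveI := hPn
  have IH' : ∀ Q : Subgroup G, Q.Normal → Q ≤ P → Q ≠ P → Q ≤ center G := by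
    intro Q hQn hQP hne
    refine IH (Nat.card Q) ?_ Q rfl hQn (hQP.trans hPN) (hP.to_le hQP)
    rw [← hm]
    refine lt_of_le_of_ne (Subgroup.card_le_of_le hQP) fun h => hne ?_
    exact Subgroup.eq_of_le_of_card_ge hQP h.ge
  by_contra hncent
  have hne : P ≠ ⊥ := fun h => hncent (h ▸ bot_le)
  -- `P` is not commutative
  obtain ⟨u₀, hu₀, v₀, hv₀, hc₀⟩ : ∃ u ∈ P, ∃ v ∈ P, ⁅u, v⁆ ≠ 1 := by
    by_contra hall
    push Not at hall
    haveI : IsMulCommutative P := ⟨⟨fun x y => Subtype.ext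
      (commutatorElement_eq_one_iff_mul_comm.1 (hall x x.2 y y.2))⟩⟩
    exact hncent (central_of_abelian S.lt S.inj P (S.quot P hPn hPN hne))
  haveI : Nontrivial P := (Subgroup.nontrivial_iff_ne_bot P).2 hne
  haveI : Group.IsNilpotent P := hP.isNilpotent
  -- commutators and `r`-th powers
  set A : Subgroup G := P ⊓ center G with hA
  haveI : A.Normal := inferInstance
  haveI : IsMulCommutative A := ⟨⟨fun x y => Subtype.ext (mem_center_iff.1 y.2.2 x)⟩⟩
  have hcomm : ∀ u ∈ P, ∀ v ∈ P, ⁅u, v⁆ ∈ A := by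
    intro u hu v hv
    have hmap : (commutator P).map P.subtype = ⁅P, P⁆ := by
      rw [commutator_def, Subgroup.map_commutator, ← MonoidHom.range_eq_map, Subgroup.range_subtype]
    have hne' : ⁅P, P⁆ ≠ P := by
      intro h
      refine (Group.IsSolvable.commutator_lt_top_of_nontrivial P).ne ?_
      refine Subgroup.map_injective P.subtype_injective ?_
      rw [hmap, h, ← MonoidHom.range_eq_map, Subgroup.range_subtype]
    exact ⟨Subgroup.commutator_le_right P P (commutator_mem_commutator hu hv),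
      IH' ⁅P, P⁆ inferInstance (Subgroup.commutator_le_right P P) hne' (commutator_mem_commutator hu hv)⟩
  have hpow : ∀ u ∈ P, u ^ r ∈ A := by
    intro u hu
    set T₀ : Set G := (fun x : G => x ^ r) '' (P : Set G)
    have hsub : normalClosure T₀ ≤ P := Subgroup.normalClosure_le_normal (by
      rintro _ ⟨x, hx, rfl⟩
      exact pow_mem hx r)
    have hne' : normalClosure T₀ ≠ P := by
      intro h
      let ab := Abelianization P
      let T₁ : Subgroup G :=
        ((powMonoidHom r : ab →* ab).range.comap Abelianization.of).map P.subtype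
      have hle : normalClosure T₀ ≤ T₁ := by
        refine (Subgroup.closure_le _).2 fun x hx => ?_
        obtain ⟨_, ⟨a, ha, rfl⟩, hconj⟩ := Group.mem_conjugatesOfSet_iff.1 hx
        obtain ⟨c, rfl⟩ := isConj_iff.1 hconj
        refine ⟨⟨c * a * c⁻¹, hPn.conj_mem a ha c⟩ ^ r, ⟨Abelianization.of ⟨c * a * c⁻¹, hPn.conj_mem a ha c⟩, ?_⟩, ?_⟩
        · exact (map_pow _ _ _).symm
        · simp [conj_pow]
      have hsurj : Function.Surjective (powMonoidHom r : ab →* ab) := fun y => by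
        obtain ⟨x, rfl⟩ : ∃ x : P, Abelianization.of x = y := QuotientGroup.mk_surjective y
        obtain ⟨x', hx', hxx⟩ := hle (h.ge x.2)
        rw [show x' = x from Subtype.ext hxx] at hx'
        exact hx'
      have hinj := Finite.injective_iff_surjective.2 hsurj
      haveI : Nontrivial ab := by
        have := (Group.IsSolvable.commutator_lt_top_of_nontrivial P).ne
        exact (QuotientGroup.nontrivial_iff (N := commutator P)).2 this
      have hab : IsPGroup r ab := hP.of_surjective Abelianization.of (QuotientGroup.mk_surjective)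
      obtain ⟨k, hk0, hk⟩ := hab.nontrivial_iff_card.1 inferInstance
      obtain ⟨y, hy⟩ := exists_prime_orderOf_dvd_card' (G := ab) r (hk ▸ dvd_pow_self r (by omega))
      have : y = 1 := hinj (by
        show y ^ r = 1 ^ r
        rw [one_pow, ← hy, pow_orderOf_eq_one])
      rw [this, orderOf_one] at hy
      exact hr.out.one_lt.ne hy
    exact ⟨pow_mem hu r, IH' _ inferInstance hsub hne' (Subgroup.subset_normalClosure ⟨u, hu, rfl⟩)⟩
  -- a character nontrivial on a commutator
  letI := Fintype.ofFinite A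
  haveI : Finite (A →* ℂˣ) := by
    letI : CommGroup A := { (inferInstance : Group A) with
      mul_comm := fun y z => mul_comm' y z }
    exact Finite.of_equiv A (CommGroup.monoidHom_mulEquiv_of_hasEnoughRootsOfUnity A ℂ).some.symm.toEquiv
  letI := Fintype.ofFinite (A →* ℂˣ)
  obtain ⟨θ, hθ, hθc⟩ : ∃ θ : A →* ℂˣ, eigProj ρ A θ ≠ 0 ∧ θ ⟨_, hcomm _ hu₀ _ hv₀⟩ ≠ 1 := by
    by_contra hall
    push Not at hall
    refine hc₀ (S.inj _ (eq_of_eigen (ρ := ρ) (A := A) fun θ hθ => ?_))
    rw [one_mul, show ρ ⁅u₀, v₀⁆ = ρ ((⟨_, hcomm _ hu₀ _ hv₀⟩ : A) : G) from rfl,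
      rho_mul_eigProj, hall θ hθ, Units.val_one, one_smul]
  set pr := eigProj ρ A θ with hpr
  have hprc : ∀ g, ρ g * pr = pr * ρ g := by
    intro g
    have : twist g θ = θ := by
      ext a
      show ((θ (MulAut.conjNormal g⁻¹ a) : ℂˣ) : ℂ) = (θ a : ℂ)
      congr 2
      apply Subtype.ext
      rw [MulAut.conjNormal_apply, mem_center_iff.1 a.2.2 g⁻¹, mul_inv_cancel_right]
    rw [hpr, rho_mul_eigProj_twist, this]
  -- the radical of the form is `A`
  let Zθ : Subgroup G :=
    { carrier := {u | ∃ hu : u ∈ P, ∀ v, ∀ hv : v ∈ P, θ ⟨_, hcomm u hu v hv⟩ = 1}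
      one_mem' := ⟨one_mem _, fun v hv => by
        rw [← map_one θ]; congr 1; exact Subtype.ext (commutatorElement_one_left v)⟩
      mul_mem' := by
        rintro a b ⟨ha, ha'⟩ ⟨hb, hb'⟩
        refine ⟨mul_mem ha hb, fun v hv => ?_⟩
        have hc := mem_center_iff.1 (hcomm b hb v hv).2 a
        have : (⟨_, hcomm (a * b) (mul_mem ha hb) v hv⟩ : A) = ⟨_, hcomm b hb v hv⟩ * ⟨_, hcomm a ha v hv⟩ :=
          Subtype.ext (show ⁅a * b, v⁆ = ⁅b, v⁆ * ⁅a, v⁆ by
            have e : ⁅a * b, v⁆ = a * ⁅b, v⁆ * a⁻¹ * ⁅a, v⁆ := by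
              simp only [commutatorElement_def]; group
            rw [e, hc, mul_inv_cancel_right])
        rw [this, map_mul, ha' v hv, hb' v hv, one_mul]
      inv_mem' := by
        rintro a ⟨ha, ha'⟩
        refine ⟨inv_mem ha, fun v hv => ?_⟩
        have hc := mem_center_iff.1 (hcomm a⁻¹ (inv_mem ha) v hv).2 a
        have : (⟨_, hcomm a⁻¹ (inv_mem ha) v hv⟩ : A) * ⟨_, hcomm a ha v hv⟩ = 1 :=
          Subtype.ext (show ⁅a⁻¹, v⁆ * ⁅a, v⁆ = 1 by
            have e : a * ⁅a⁻¹, v⁆ * a⁻¹ * ⁅a, v⁆ = 1 := by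
              simp only [commutatorElement_def]; group
            rwa [hc, mul_inv_cancel_right] at e)
        have := congrArg θ this
        rwa [map_mul, ha' v hv, mul_one, map_one] at this }
  have hZn : Zθ.Normal := ⟨by
    rintro a ⟨ha, ha'⟩ g
    refine ⟨hPn.conj_mem a ha g, fun v hv => ?_⟩
    have hv' : g⁻¹ * v * g ∈ P := by simpa using hPn.conj_mem v hv g⁻¹
    rw [← ha' _ hv']
    congr 1
    refine Subtype.ext (show ⁅g * a * g⁻¹, v⁆ = ⁅a, g⁻¹ * v * g⁆ from ?_)
    rw [show ⁅g * a * g⁻¹, v⁆ = g * ⁅a, g⁻¹ * v * g⁆ * g⁻¹ by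
      simp only [commutatorElement_def]; group,
      mem_center_iff.1 (hcomm a ha _ hv').2 g, mul_inv_cancel_right]⟩
  have hZle : Zθ ≤ P := fun x hx => hx.1
  have hZc : Zθ ≤ center G := IH' Zθ hZn hZle fun h => by
    obtain ⟨_hu, h'⟩ : u₀ ∈ Zθ := h.ge hu₀
    exact hθc (h' v₀ hv₀)
  -- traces vanish off the centre
  have htr : ∀ u ∈ P, u ∉ center G → LinearMap.trace ℂ _ (ρ u * pr) = 0 := by
    intro u hu hnu
    obtain ⟨v, hv, hθv⟩ : ∃ v, ∃ hv : v ∈ P, θ ⟨_, hcomm v hv u hu⟩ ≠ 1 := by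
      by_contra hall
      push Not at hall
      refine hnu (hZc ⟨hu, fun v hv => ?_⟩)
      have : (⟨_, hcomm u hu v hv⟩ : A) = (⟨_, hcomm v hv u hu⟩ : A)⁻¹ :=
        Subtype.ext (commutatorElement_inv v u).symm
      rw [this, map_inv, hall v hv, inv_one]
    have e1 : ρ v * (ρ u * pr) * ρ v⁻¹ = (θ ⟨_, hcomm v hv u hu⟩ : ℂ) • (ρ u * pr) := by
      calc ρ v * (ρ u * pr) * ρ v⁻¹ = ρ (v * u * v⁻¹) * pr := by
            rw [mul_assoc, mul_assoc, ← hprc, ← mul_assoc, ← mul_assoc, ← map_mul, ← map_mul]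
        _ = ρ u * (ρ ⁅v, u⁆ * pr) := by
            rw [← mul_assoc, ← map_mul]
            congr 2
            rw [mem_center_iff.1 (hcomm v hv u hu).2 u, commutatorElement_def, inv_mul_cancel_right]
        _ = _ := by
            rw [show ρ ⁅v, u⁆ = ρ ((⟨_, hcomm v hv u hu⟩ : A) : G) from rfl, hpr, rho_mul_eigProj,
              mul_smul_comm]
    have e2 := congrArg (LinearMap.trace ℂ _) e1
    rw [map_smul, LinearMap.trace_mul_comm, ← mul_assoc, ← map_mul, inv_mul_cancel, map_one, one_mul,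
      smul_eq_mul] at e2
    by_contra h0
    exact hθv (Units.ext ((mul_eq_right₀ h0).1 e2.symm))
  -- the rank of the layer
  have hcardQ : Nat.card (P ⧸ A.subgroupOf P) ≤ d * d := by
    letI := Fintype.ofFinite (P ⧸ A.subgroupOf P)
    let v : (P ⧸ A.subgroupOf P) → Module.End ℂ (Fin d → ℂ) := fun q => ρ ((q.out : P) : G) * pr
    have hli : LinearIndependent ℂ v := by
      rw [Fintype.linearIndependent_iff]
      intro c hc q
      have h1 := congrArg (fun x => LinearMap.trace ℂ _ (ρ ((q.out : P) : G)⁻¹ * x)) hc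
      simp only [mul_zero, map_zero, Finset.mul_sum, mul_smul_comm, map_sum, map_smul, smul_eq_mul] at h1
      rw [Finset.sum_eq_single q] at h1
      · simp only [v, ← mul_assoc, ← map_mul ρ, inv_mul_cancel, map_one, one_mul, hpr, trace_eigProj,
          mul_eq_zero, Nat.cast_eq_zero] at h1
        exact h1.resolve_right (finrank_eigProj_pos hθ).ne'
      · intro q' _ hq'
        simp only [v, ← mul_assoc, ← map_mul ρ]
        rw [htr _ (mul_mem (P.inv_mem q.out.2) q'.out.2), mul_zero]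
        intro hcen
        apply hq'
        rw [← QuotientGroup.out_eq' q', ← QuotientGroup.out_eq' q]
        exact (QuotientGroup.eq.2 (show (q.out : P)⁻¹ * q'.out ∈ A.subgroupOf P from
          ⟨mul_mem (P.inv_mem q.out.2) q'.out.2, hcen⟩)).symm
      · exact fun h => absurd (Finset.mem_univ _) h
    have := hli.fintype_card_le_finrank
    rwa [Module.finrank_linearMap, Module.finrank_fin_fun, ← Nat.card_eq_fintype_card] at this
  -- the layer
  set π := QuotientGroup.mk' A
  set Ω : Subgroup (G ⧸ A) := P.map π with hΩ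
  haveI : Ω.Normal := hPn.map π (QuotientGroup.mk'_surjective A)
  have hΩcard : Nat.card Ω = Nat.card (P ⧸ A.subgroupOf P) := by
    have h1 : (π.comp P.subtype).ker = A.subgroupOf P := by
      rw [← MonoidHom.comap_ker, QuotientGroup.ker_mk']; rfl
    have h2 : (π.comp P.subtype).range = Ω := by
      rw [MonoidHom.range_comp, Subgroup.range_subtype]
    rw [← h2, ← Nat.card_congr (QuotientGroup.quotientKerEquivRange (π.comp P.subtype)).toEquiv]
    exact Nat.card_congr (QuotientGroup.quotientMulEquivOfEq h1).toEquiv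
  letI : CommGroup Ω := { (inferInstance : Group Ω) with
    mul_comm := by
      rintro ⟨_, a, ha, rfl⟩ ⟨_, b, hb, rfl⟩
      refine Subtype.ext (show π a * π b = π b * π a from ?_)
      rw [← commutatorElement_eq_one_iff_mul_comm, ← map_commutatorElement]
      exact (QuotientGroup.eq_one_iff _).2 (hcomm a ha b hb) }
  haveI : Module (ZMod r) (Additive Ω) := AddCommGroup.zmodModule fun y =>
    Additive.toMul.injective (by
      rw [toMul_nsmul, toMul_zero]
      obtain ⟨a, ha, hay⟩ := y.toMul.2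
      refine Subtype.ext (show ((y.toMul : Ω) : G ⧸ A) ^ r = 1 from ?_)
      rw [← hay, ← map_pow]
      exact (QuotientGroup.eq_one_iff _).2 (hpow a ha))
  haveI : Module.Finite (ZMod r) (Additive Ω) := Module.Finite.of_finite
  let act : G →* Module.End (ZMod r) (Additive Ω) :=
    { toFun := fun h =>
        (MonoidHom.toAdditive (MulAut.conjNormal (H := Ω) (π h)).toMonoidHom).toZModLinearMap r
      map_one' := LinearMap.ext fun y => by
        show Additive.ofMul (MulAut.conjNormal (π 1) y.toMul) = y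
        rw [map_one, map_one]; rfl
      map_mul' := fun g h => LinearMap.ext fun y => by
        show Additive.ofMul (MulAut.conjNormal (π (g * h)) y.toMul) =
          Additive.ofMul (MulAut.conjNormal (π g) (MulAut.conjNormal (π h) y.toMul))
        rw [map_mul, map_mul]; rfl }
  set n := Module.finrank (ZMod r) (Additive Ω)
  have hn : r ^ n < 4 * (p ^ e) ^ 2 := by
    have h1 : Nat.card Ω = r ^ n := by
      rw [Nat.card_congr (Additive.ofMul (α := Ω)), Module.natCard_eq_pow_finrank (K := ZMod r),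
        Nat.card_zmod]
    have h2 : d * d < (2 * p ^ e) * (2 * p ^ e) := Nat.mul_lt_mul'' S.lt S.lt
    rw [← h1, hΩcard]
    linarith
  have hle : act.ker ≤ φ.ker := by
    refine (S.norm act.ker (MonoidHom.normal_ker act)).resolve_right fun htop => ?_
    refine hncent fun x hx => mem_center_iff.2 fun g => ?_
    have hmem : ∀ g : G, ⁅g, x⁆ ∈ A := by
      intro g
      have h1 : act g = 1 := (htop ▸ Subgroup.mem_top g : g ∈ act.ker)
      have h2 := LinearMap.congr_fun h1 (Additive.ofMul (⟨π x, mem_map_of_mem _ hx⟩ : Ω))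
      have h3 : π g * π x * (π g)⁻¹ = π x :=
        congrArg (fun y : Additive Ω => ((y.toMul : Ω) : G ⧸ A)) h2
      rw [← QuotientGroup.eq_one_iff, ← QuotientGroup.mk'_apply, map_commutatorElement,
        commutatorElement_eq_one_iff_mul_comm]
      exact mul_inv_eq_iff_eq_mul.1 h3
    letI : CommGroup A := { (inferInstance : Group A) with
      mul_comm := fun y z => mul_comm' y z }
    let f : G →* A := MonoidHom.mk' (fun g => ⟨⁅g, x⁆, hmem g⟩) fun g h => Subtype.ext (by
      show ⁅g * h, x⁆ = ⁅g, x⁆ * ⁅h, x⁆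
      have e : ⁅g * h, x⁆ = g * ⁅h, x⁆ * g⁻¹ * ⁅g, x⁆ := by
        simp only [commutatorElement_def]; group
      rw [e, mem_center_iff.1 (hmem h).2 g, mul_inv_cancel_right]
      exact (mem_center_iff.1 (hmem h).2 _).symm)
    have hf : g ∈ f.ker := Abelianization.commutator_subset_ker f (S.perfect ▸ Subgroup.mem_top g)
    exact commutatorElement_eq_one_iff_mul_comm.1 (congrArg Subtype.val (MonoidHom.mem_ker.1 hf))
  have hr2 : r ≠ 2 := by
    rintro rfl
    obtain ⟨k, hk0, hk⟩ := hP.nontrivial_iff_card.1 inferInstance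
    have h2 : 2 ∣ Nat.card φ.ker := (hk ▸ dvd_pow_self 2 (by omega)).trans (Subgroup.card_dvd_of_le hPN)
    exact Nat.not_even_iff_odd.2 S.odd (even_iff_two_dvd.2 h2)
  refine not_dvd_GL (n := n) hp2 hr2 he h5 hk hn ?_
  let b := Module.finBasis (ZMod r) (Additive Ω)
  let act' : G →* GL (Fin n) (ZMod r) :=
    ((LinearMap.toMatrixAlgEquiv b).toAlgHom.toRingHom.toMonoidHom.comp act).toHomUnits
  have hker' : act'.ker ≤ φ.ker := fun g hg => hle (MonoidHom.mem_ker.2
    ((LinearMap.toMatrixAlgEquiv b).injective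
      ((congrArg Units.val (MonoidHom.mem_ker.1 hg)).trans (map_one (LinearMap.toMatrixAlgEquiv b)).symm)))
  have hK : Nat.card K = φ.ker.index := by
    rw [Subgroup.index_ker, MonoidHom.range_eq_top.2 S.surj, Subgroup.card_top]
  rw [hK]
  exact (Subgroup.index_dvd_of_le hker').trans (by
    rw [Subgroup.index_ker]; exact Subgroup.card_subgroup_dvd_card _)

end Cover

section Main

variable {K : Type u} [Group K] [Finite K] [IsSimpleGroup K] {p e : ℕ}

theorem minimal_cover_trivial (hK : ¬ IsMulCommutative K) (hD : Dim3 K p e) (h5 : 5 ≤ p ^ e) :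
    ∀ (m : ℕ) (G : Type u) [Group G] [Finite G], Nat.card G = m → ∀ (φ : G →* K),
      Function.Surjective φ → (∀ L : Subgroup G, L.map φ = ⊤ → L = ⊤) → Odd (Nat.card φ.ker) →
      ∀ (d : ℕ) (ρ : Representation ℂ G (Fin d → ℂ)), d < 2 * p ^ e → ∀ g, ρ g = 1 := by
  intro m
  induction m using Nat.strong_induction_on with
  | _ m IH =>
  intro G _ _ hm φ hφ hmin hodd d ρ hd
  classical
  have hnorm : ∀ H : Subgroup G, H.Normal → H ≤ φ.ker ∨ H = ⊤ := fun H hH =>
    (hH.map φ hφ).eq_bot_or_eq_top.imp (Subgroup.map_eq_bot_iff _).1 (hmin H)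
  have hperf : commutator G = ⊤ := by
    refine (hnorm _ inferInstance).resolve_left fun h => hK ⟨⟨fun x y => ?_⟩⟩
    obtain ⟨a, rfl⟩ := hφ x
    obtain ⟨b, rfl⟩ := hφ y
    have hmem : ⁅a, b⁆ ∈ φ.ker :=
      h (commutator_mem_commutator (Subgroup.mem_top a) (Subgroup.mem_top b))
    rwa [MonoidHom.mem_ker, map_commutatorElement, commutatorElement_eq_one_iff_mul_comm] at hmem
  have hquot : ∀ A : Subgroup G, A.Normal → A ≤ φ.ker → A ≠ ⊥ →
      ∀ (t : ℕ) (σ : Representation ℂ G (Fin t → ℂ)), t < 2 * p ^ e → A ≤ σ.ker → ∀ g, σ g = 1 := by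
    intro A hA hAN hne t σ ht hAσ g
    haveI := hA
    let φ' : G ⧸ A →* K := QuotientGroup.lift A φ hAN
    have hlt : Nat.card (G ⧸ A) < m := by
      rw [← hm, Subgroup.card_eq_card_quotient_mul_card_subgroup A]
      exact lt_mul_of_one_lt_right Nat.card_pos ((Subgroup.one_lt_card_iff_ne_bot A).2 hne)
    refine IH _ hlt (G ⧸ A) rfl φ' (fun y => ?_) (fun L hL => ?_) ?_ t (QuotientGroup.lift A σ hAσ) ht
      (QuotientGroup.mk g)
    · obtain ⟨x, rfl⟩ := hφ y
      exact ⟨x, rfl⟩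
    · have h1 : (L.comap (QuotientGroup.mk' A)).map φ = ⊤ := by
        rw [← hL, show φ = φ'.comp (QuotientGroup.mk' A) from rfl, ← Subgroup.map_map,
          Subgroup.map_comap_eq_self_of_surjective (QuotientGroup.mk'_surjective A)]
      rw [← Subgroup.map_comap_eq_self_of_surjective (QuotientGroup.mk'_surjective A) L,
        hmin _ h1, Subgroup.map_top_of_surjective _ (QuotientGroup.mk'_surjective A)]
    · refine Odd.of_dvd_nat hodd ?_
      rw [show φ'.ker = φ.ker.map (QuotientGroup.mk' A) from QuotientGroup.ker_lift A φ hAN]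
      exact Subgroup.card_map_dvd _ _
  rcases hnorm ρ.ker (MonoidHom.normal_ker ρ) with hle | htop
  · by_cases hbot : ρ.ker = ⊥
    · -- faithful
      have hinj : ∀ g, ρ g = 1 → g = 1 := fun g hg =>
        Subgroup.mem_bot.1 (hbot ▸ MonoidHom.mem_ker.2 hg)
      have S : Small K p e φ ρ := ⟨hd, hinj, hφ, hnorm, hperf, hodd, hquot⟩
      haveI : Fact p.Prime := ⟨hD.prime⟩
      refine hD.cover G φ hφ hperf ?_ d ρ hd
      -- every Sylow subgroup of the kernel is central
      set C : Subgroup φ.ker := (center G).subgroupOf φ.ker with hC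
      suffices hC1 : C.index = 1 from Subgroup.subgroupOf_eq_top.1 (Subgroup.index_eq_one.1 hC1)
      by_contra h1
      obtain ⟨r, hr, hrd⟩ := Nat.exists_prime_and_dvd h1
      haveI : Fact r.Prime := ⟨hr⟩
      obtain ⟨P⟩ : Nonempty (Sylow r φ.ker) := inferInstance
      set P' : Subgroup G := (P : Subgroup φ.ker).map φ.ker.subtype
      have hn : P'.Normal := by
        refine Subgroup.normalizer_eq_top_iff.1 (hmin _ ?_)
        have h := congrArg (Subgroup.map φ) (Sylow.normalizer_sup_eq_top (N := φ.ker) P)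
        rwa [Subgroup.map_sup, (Subgroup.map_eq_bot_iff φ.ker).2 le_rfl, sup_bot_eq,
          Subgroup.map_top_of_surjective φ hφ] at h
      have hle' : P' ≤ φ.ker := Subgroup.map_subtype_le _
      have hcen := S.central hD.odd hD.one_le h5 hD.card P' hn hle' (P.isPGroup'.map _)
      have hPC : (P : Subgroup φ.ker) ≤ C := fun x hx => hcen (mem_map_of_mem _ hx)
      exact P.not_dvd_index (hrd.trans (Subgroup.index_dvd_of_le hPC))
    · exact hquot ρ.ker (MonoidHom.normal_ker ρ) hle hbot d ρ hd le_rfl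
  · exact fun g => MonoidHom.mem_ker.1 (htop ▸ Subgroup.mem_top g)

/-- Small complex representations of a group with a three dimensional quotient and odd kernel kill
every involution. -/
theorem minrep {K : Type u} [Group K] [Finite K] [IsSimpleGroup K] (hK : ¬ IsMulCommutative K) {p e : ℕ}
    (hD : Dim3 K p e) (h5 : 5 ≤ p ^ e) {G : Type u} [Group G] [Finite G] (φ : G →* K)
    (hφ : Function.Surjective φ) (hker : Odd (Nat.card φ.ker)) {d : ℕ}
    (ρ : Representation ℂ G (Fin d → ℂ)) (hd : d < 2 * p ^ e) {z : G} (hz : orderOf z = 2) :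
    ρ z = 1 := by
  classical
  -- a minimal subgroup mapping onto `K`
  have hex : ∃ k, ∃ L : Subgroup G, L.map φ = ⊤ ∧ Nat.card L = k :=
    ⟨_, ⊤, Subgroup.map_top_of_surjective φ hφ, rfl⟩
  obtain ⟨M, hM, hMc⟩ := Nat.find_spec hex
  have hφM : Function.Surjective (φ.comp M.subtype) := by
    rw [← MonoidHom.range_eq_top, MonoidHom.range_comp, Subgroup.range_subtype, hM]
  have hminM : ∀ L : Subgroup M, L.map (φ.comp M.subtype) = ⊤ → L = ⊤ := by
    intro L hL
    have h1 := Nat.find_min' hex ⟨L.map M.subtype, by rw [Subgroup.map_map, hL], rfl⟩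
    rw [← hMc, Subgroup.card_map_of_injective M.subtype_injective] at h1
    exact Subgroup.eq_top_of_le_card L h1
  have hoddM : Odd (Nat.card (φ.comp M.subtype).ker) := by
    refine Odd.of_dvd_nat hker ?_
    rw [← Subgroup.card_map_of_injective M.subtype_injective]
    refine Subgroup.card_dvd_of_le ?_
    rintro _ ⟨x, hx, rfl⟩
    exact hx
  have htriv := minimal_cover_trivial hK hD h5 _ M rfl (φ.comp M.subtype) hφM hminM hoddM d
    (ρ.comp M.subtype) hd
  obtain ⟨x, hx, hxz⟩ : φ z ∈ M.map φ := hM ▸ Subgroup.mem_top _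
  have hn : x⁻¹ * z ∈ φ.ker := by rw [MonoidHom.mem_ker, map_mul, map_inv, hxz, inv_mul_cancel]
  have hρn : ρ (x⁻¹ * z) = ρ z := by
    rw [map_mul, show ρ x⁻¹ = 1 from htriv ⟨x⁻¹, inv_mem hx⟩, one_mul]
  have h2 : ρ z ^ 2 = 1 := by rw [← map_pow, ← hz, pow_orderOf_eq_one, map_one]
  have h3 : ρ z ^ Nat.card φ.ker = 1 := by
    rw [← hρn, ← map_pow]
    have : (⟨_, hn⟩ : φ.ker) ^ Nat.card φ.ker = 1 := pow_card_eq_one'
    have h := congrArg Subtype.val this
    rw [SubgroupClass.coe_pow, OneMemClass.coe_one] at h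
    rw [h, map_one]
  have := pow_gcd_eq_one.2 ⟨h2, h3⟩
  rwa [(Nat.coprime_two_left.2 hker).gcd_eq_one, pow_one] at this

end Main

end CfsgLib.OrderFormula.Weak
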