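import Cfsg.Agent.OrderFormula.Weak.Interface
import Cfsg.Agent.OrderFormula.AmbExists
import Cfsg.Agent.GW.Eight.FourCount
import Cfsg.Agent.InvCentPSL.PSLFacts
import Cfsg.Agent.Invol.FusionSystemSimple

/-!
# Weakly embedded cores: regularity when the top is three dimensional
-/

set_option autoImplicit false
set_option linter.unusedSectionVars false
set_option linter.style.haveILetI false

namespace CfsgLib.OrderFormula.Weak

open Subgroup CfsgLib.OrderFormula
open scoped commutatorElement

universe u v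

variable {H : Type u} [Group H] [Finite H] {K : Type v} [Group K]

/-- A centralizer of an involution maps onto the centralizer of its image modulo an odd kernel. -/
theorem exists_lift_commute (φ : H →* K) (hker : Odd (Nat.card φ.ker)) {a : H} (ha : orderOf a = 2)
    {h : H} (hc : Commute (φ h) (φ a)) : ∃ h', φ h' = φ h ∧ Commute h' a := by
  set M : Subgroup H := (zpowers (φ a)).comap φ
  let ψ : M →* zpowers (φ a) := φ.subgroupComap _
  have haM : a ∈ M := mem_zpowers _
  have hψ : Function.Surjective ψ := fun y => by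
    obtain ⟨i, hi⟩ := mem_zpowers_iff.1 y.2
    exact ⟨⟨a ^ i, zpow_mem haM i⟩, Subtype.ext (by rw [← hi, ← map_zpow]; rfl)⟩
  have hψk : Odd (Nat.card ψ.ker) := by
    rwa [show ψ.ker = φ.ker.subgroupOf M by
      ext x; rw [mem_subgroupOf, MonoidHom.mem_ker, MonoidHom.mem_ker, ← Subtype.val_inj]; rfl,
      Nat.card_congr (subgroupOfEquivOfLe (φ.ker_le_comap _)).toEquiv]
  have himg : φ (h * a * h⁻¹) = φ a := by
    rw [map_mul, map_mul, map_inv, hc.eq, mul_inv_cancel_right]
  have hbM : h * a * h⁻¹ ∈ M := by rw [mem_comap, himg]; exact mem_zpowers _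
  obtain ⟨c, hc'⟩ := isConj_iff.1 (isConj_of_map_eq hψ hψk (a := ⟨a, haM⟩) (b := ⟨_, hbM⟩) (i := 1)
    (j := 1) (by rw [Subgroup.orderOf_mk, ha, pow_one])
    (by rw [Subgroup.orderOf_mk, pow_one]; exact (MulEquiv.orderOf_eq (MulAut.conj h) a).trans ha)
    (Subtype.ext himg.symm))
  obtain ⟨i, hi⟩ := mem_zpowers_iff.1 c.2
  refine ⟨a ^ i * ((c : H)⁻¹ * h), by rw [map_mul, map_mul, map_inv, map_zpow, hi,
    mul_inv_cancel_left], ?_⟩
  have h1 : (c : H) * a * (c : H)⁻¹ = h * a * h⁻¹ := congrArg Subtype.val hc'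
  refine ((Commute.refl a).zpow_left i).mul_left (mul_inv_eq_iff_eq_mul.1 ?_)
  calc (c : H)⁻¹ * h * a * ((c : H)⁻¹ * h)⁻¹ = (c : H)⁻¹ * (h * a * h⁻¹) * c := by group
    _ = a := by rw [← h1]; group

/-- The order of a subgroup and of its image. -/
theorem card_eq_inf_mul_map (φ : H →* K) (S : Subgroup H) :
    Nat.card S = Nat.card (φ.ker ⊓ S : Subgroup H) * Nat.card (S.map φ) := by
  have h := card_eq_card_quotient_mul_card_subgroup (φ.comp S.subtype).ker
  have hk : (φ.comp S.subtype).ker = φ.ker.subgroupOf S := rfl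
  rw [Nat.card_congr (QuotientGroup.quotientKerEquivRange _).toEquiv, MonoidHom.range_comp,
    range_subtype, hk, ← card_map_of_injective S.subtype_injective, subgroupOf_map_subtype] at h
  rw [h, mul_comm]

variable {φ : H →* K} (hker : Odd (Nat.card φ.ker)) (hφ : Function.Surjective φ)

include hker hφ in
theorem map_centralizer_invol {a : H} (ha : orderOf a = 2) :
    (centralizer ({a} : Set H)).map φ = centralizer ({φ a} : Set K) := by
  ext k
  rw [mem_centralizer_singleton_iff]
  constructor
  · rintro ⟨g, hg, rfl⟩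
    rw [← map_mul, mem_centralizer_singleton_iff.1 hg, map_mul]
  · intro hk
    obtain ⟨g, rfl⟩ := hφ k
    obtain ⟨g', hg, hc⟩ := exists_lift_commute φ hker ha hk
    exact ⟨g', mem_centralizer_singleton_iff.2 hc.eq, hg⟩

include hker hφ in
theorem map_centralizer_pair {a b : H} (ha : orderOf a = 2) (hb : orderOf b = 2) (hab : Commute a b) :
    (centralizer ({a} : Set H) ⊓ centralizer ({b} : Set H)).map φ =
      centralizer ({φ a} : Set K) ⊓ centralizer ({φ b} : Set K) := by
  refine le_antisymm ((Subgroup.map_inf_le _ _ _).trans (inf_le_inf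
    (map_centralizer_invol hker hφ ha).le (map_centralizer_invol hker hφ hb).le)) fun k hk => ?_
  rw [← map_centralizer_invol hker hφ ha] at hk
  obtain ⟨g, hg, rfl⟩ := hk.1
  set C := centralizer ({a} : Set H)
  have hbC : b ∈ C := mem_centralizer_singleton_iff.2 hab.symm.eq
  have hkC : Odd (Nat.card (φ.comp C.subtype).ker) := by
    rw [show (φ.comp C.subtype).ker = φ.ker.subgroupOf C from rfl]
    exact hker.of_dvd_nat (card_comap_dvd_of_injective _ _ C.subtype_injective)
  obtain ⟨g', hg', hc⟩ := exists_lift_commute (φ.comp C.subtype) hkC (a := ⟨b, hbC⟩) (h := ⟨g, hg⟩)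
    (by rw [Subgroup.orderOf_mk, hb]) (mem_centralizer_singleton_iff.1 hk.2)
  exact ⟨g', ⟨g'.2, mem_centralizer_singleton_iff.2 (congrArg Subtype.val hc.eq)⟩, hg'⟩

/-- `SL₂` over a field of odd order has no normal subgroup of odd order but the trivial one. -/
theorem sl_odd_normal {F : Type*} [Field F] [Fintype F] (hodd : Odd (Fintype.card F))
    (M : Subgroup (Matrix.SpecialLinearGroup (Fin 2) F)) [M.Normal] (hM : Odd (Nat.card M)) :
    M = ⊥ := by
  have h1 : 1 < Fintype.card F := Fintype.one_lt_card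
  rcases eq_or_ne (Fintype.card F) 3 with h3 | h3
  · have hc : Nat.card (Matrix.SpecialLinearGroup (Fin 2) F) = 24 := by
      rw [CfsgLib.SL2C.card_SL2_mul, h3]; norm_num
    have hd : Nat.card M ∣ 3 :=
      (Nat.Coprime.pow_right 3 (Nat.coprime_two_right.2 hM)).dvd_of_dvd_mul_left
        (show Nat.card M ∣ 2 ^ 3 * 3 by simpa [hc] using M.card_subgroup_dvd_card)
    rcases (Nat.dvd_prime Nat.prime_three).1 hd with h | h
    · exact card_eq_one.1 h
    exfalso
    haveI := Fact.mk Nat.prime_three
    have hidx : M.index = 8 := by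
      have := M.card_mul_index
      rw [hc, h] at this
      omega
    have h30 : (3 : F) = 0 := by
      have := Nat.cast_card_eq_zero F
      rw [h3] at this
      exact_mod_cast this
    let x : Matrix.SpecialLinearGroup (Fin 2) F := ⟨!![1, 1; 0, 1], by simp [Matrix.det_fin_two]⟩
    let y : Matrix.SpecialLinearGroup (Fin 2) F := ⟨!![1, 0; 1, 1], by simp [Matrix.det_fin_two]⟩
    have hmem : ∀ g : Matrix.SpecialLinearGroup (Fin 2) F, g ^ 3 = 1 → g ∈ M := fun g hg => by
      rw [← QuotientGroup.eq_one_iff]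
      have h8 : Nat.card (_ ⧸ M) = 8 := hidx
      refine orderOf_eq_one_iff.1 (Nat.eq_one_of_dvd_coprimes (show Nat.Coprime 3 8 by norm_num)
        (orderOf_dvd_of_pow_eq_one ?_) (h8 ▸ orderOf_dvd_natCard _))
      rw [← QuotientGroup.mk_pow, hg]; rfl
    have hx : x ∈ M := hmem x (Subtype.ext (by
      rw [Matrix.SpecialLinearGroup.coe_pow]
      simp [x, pow_succ, one_add_one_eq_two,
        show (1 : F) + 2 = 0 by rw [← h30]; norm_num, ← Matrix.one_fin_two]))
    have hy : y ∈ M := hmem y (Subtype.ext (by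
      rw [Matrix.SpecialLinearGroup.coe_pow]
      simp [y, pow_succ, one_add_one_eq_two,
        show (2 : F) + 1 = 0 by rw [← h30]; norm_num, ← Matrix.one_fin_two]))
    haveI := isCyclic_of_prime_card (α := M) h
    have hxy : x * y = y * x :=
      congrArg Subtype.val ((IsCyclic.commGroup (α := M)).mul_comm ⟨x, hx⟩ ⟨y, hy⟩)
    have := congrArg (fun g : Matrix.SpecialLinearGroup (Fin 2) F => (g : Matrix (Fin 2) (Fin 2) F) 0 0) hxy
    change ((!![(1 : F), 1; 0, 1] : Matrix (Fin 2) (Fin 2) F) * !![(1 : F), 0; 1, 1]) 0 0 =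
      ((!![(1 : F), 0; 1, 1] : Matrix (Fin 2) (Fin 2) F) * !![(1 : F), 1; 0, 1]) 0 0 at this
    simp [Matrix.mul_apply, Fin.sum_univ_two] at this
  · have h4 : 4 ≤ Fintype.card F := by obtain ⟨j, hj⟩ := hodd; omega
    rcases AmbExists.sl_normal h4 M with e | e
    · exfalso
      rw [e, card_top, CfsgLib.SL2C.card_SL2_mul] at hM
      have h2 : 2 ∣ Fintype.card F ^ 2 - 1 := (Nat.Odd.sub_odd hodd.pow odd_one).two_dvd
      exact Nat.not_even_iff_odd.2 hM (even_iff_two_dvd.2 (h2.mul_left _))
    · refine card_eq_one.1 ?_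
      have h2 : Nat.card M ≤ 2 := (Nat.le_of_dvd Nat.card_pos (card_dvd_of_le e)).trans
        AmbExists.card_center_le
      obtain ⟨j, hj⟩ := hM
      omega

/-- The field order when the centralizer of an involution of the top has a normal `SL₂`. -/
theorem q_eq_of_top {C : Type u} [Group C] [Finite C] {X : Type v} [Group X] [Finite X]
    (π : C →* X) (hπ : Function.Surjective π) (hk : Odd (Nat.card π.ker)) {F : Type*} [Field F]
    [Fintype F] (hF : Odd (Fintype.card F)) (eX : commutator X ≃* Matrix.SpecialLinearGroup (Fin 2) F)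
    (Y : Subgroup C) [Y.Normal] (hY : Odd Y.index) {p n : ℕ} (hp : p.Prime) (hp2 : p ≠ 2)
    {F' : Type*} [Field F'] [Fintype F'] (hF' : Fintype.card F' = p ^ n) (N : Subgroup Y) [N.Normal]
    (e' : N ≃* Matrix.SpecialLinearGroup (Fin 2) F') : Fintype.card F = p ^ n := by
  classical
  haveI hYX : (Y.map π).Normal := Normal.map inferInstance π hπ
  set f : Y →* Y.map π := π.subgroupMap Y
  have hf : Function.Surjective f := π.subgroupMap_surjective Y
  haveI : (N.map f).Normal := Normal.map inferInstance f hf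
  have hodd' : Odd (Fintype.card F') := hF' ▸ (hp.odd_of_ne_two hp2).pow
  -- the `SL₂` meets the kernel trivially
  have hinj : Function.Injective (f.comp N.subtype) := by
    rw [← MonoidHom.ker_eq_bot_iff]
    set Q := (f.comp N.subtype).ker
    haveI : (Q.map e'.toMonoidHom).Normal := Normal.map inferInstance _ e'.surjective
    have hQ : Odd (Nat.card (Q.map e'.toMonoidHom)) := by
      rw [card_map_of_injective (f := e'.toMonoidHom) e'.injective]
      refine hk.of_dvd_nat ?_
      rw [← card_map_of_injective (f := Y.subtype.comp N.subtype)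
        (Y.subtype_injective.comp N.subtype_injective) (K := Q)]
      refine card_dvd_of_le ?_
      rintro _ ⟨c, hc, rfl⟩
      exact (congrArg Subtype.val (MonoidHom.mem_ker.1 hc) :)
    exact (Subgroup.map_eq_bot_iff_of_injective Q e'.injective).1 (sl_odd_normal hodd' _ hQ)
  let eN : N.map f ≃* Matrix.SpecialLinearGroup (Fin 2) F' :=
    ((MonoidHom.ofInjective hinj).trans (MulEquiv.subgroupCongr (by
      rw [MonoidHom.range_comp, range_subtype]))).symm.trans e'
  by_cases h4 : 4 ≤ Fintype.card F
  · -- the derived subgroup lies in the image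
    set X' := commutator X
    have hle : X' ≤ Y.map π := by
      haveI : ((Y.map π).subgroupOf X').Normal := inferInstance
      set M := ((Y.map π).subgroupOf X').map eX.toMonoidHom
      haveI : M.Normal := Normal.map inferInstance _ eX.surjective
      have hMidx : Odd M.index := by
        rw [index_map_of_bijective eX.bijective]
        refine Odd.of_dvd_nat (hY.of_dvd_nat (index_map_dvd _ hπ)) ?_
        exact relIndex_dvd_index_of_normal _ _
      have htop : M = ⊤ := by
        refine (AmbExists.sl_normal h4 M).resolve_right fun hcen => ?_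
        have hc := M.card_mul_index
        rw [CfsgLib.SL2C.card_SL2_mul] at hc
        have h4d : 4 ∣ Fintype.card F ^ 2 - 1 := by
          obtain ⟨j, hj⟩ := hF
          exact ⟨j * (j + 1), by rw [hj, show (2 * j + 1) ^ 2 = 4 * (j * (j + 1)) + 1 by ring]; rfl⟩
        have h2 : Nat.card M ≤ 2 := (Nat.le_of_dvd Nat.card_pos (card_dvd_of_le hcen)).trans
          AmbExists.card_center_le
        have h4M : 4 ∣ Nat.card M :=
          (Nat.Coprime.pow_left 2 (Nat.coprime_two_left.2 hMidx)).dvd_of_dvd_mul_right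
            (hc ▸ h4d.mul_left _)
        have := Nat.le_of_dvd Nat.card_pos h4M
        omega
      refine subgroupOf_eq_top.1 (Subgroup.map_injective (f := eX.toMonoidHom) eX.injective ?_)
      exact htop.trans (map_top_of_surjective _ eX.surjective).symm
    have hperf : ⁅X', X'⁆ = X' := by
      have e := AmbExists.sl_perfect h4
      rw [_root_.commutator_def] at e
      have h := congrArg (Subgroup.map (X'.subtype.comp eX.symm.toMonoidHom)) e
      rw [map_commutator, ← MonoidHom.range_eq_map, MonoidHom.range_comp,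
        MonoidHom.range_eq_top.2 eX.symm.surjective, ← MonoidHom.range_eq_map, range_subtype] at h
      exact h
    have hc : (commutator (Y.map π)).map (Y.map π).subtype = X' := by
      rw [_root_.commutator_def, map_commutator, ← MonoidHom.range_eq_map, range_subtype]
      exact le_antisymm (commutator_mono le_top le_top) (hperf.ge.trans (commutator_mono hle hle))
    let eY : commutator (Y.map π) ≃* Matrix.SpecialLinearGroup (Fin 2) F :=
      ((commutator (Y.map π)).equivMapOfInjective _ (Y.map π).subtype_injective).trans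
        ((MulEquiv.subgroupCongr hc).trans eX)
    exact (AmbExists.q_eq_of_normal_SL2 hF eY hp hp2 hF' (N.map f) eN).symm
  · have h1 : 1 < Fintype.card F := Fintype.one_lt_card
    have h1' : 1 < Fintype.card F' := Fintype.one_lt_card
    have h3 : Fintype.card F = 3 := by obtain ⟨j, hj⟩ := hF; omega
    rw [← hF', h3]
    by_contra hne
    have h4' : 4 ≤ Fintype.card F' := by obtain ⟨j, hj⟩ := hodd'; omega
    set j : Matrix.SpecialLinearGroup (Fin 2) F' →* X :=
      (Y.map π).subtype.comp ((N.map f).subtype.comp eN.symm.toMonoidHom)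
    have hj : Function.Injective j :=
      (Y.map π).subtype_injective.comp ((N.map f).subtype_injective.comp eN.symm.injective)
    have e := AmbExists.sl_perfect h4'
    rw [_root_.commutator_def] at e
    have hle : j.range ≤ commutator X := by
      rw [MonoidHom.range_eq_map, ← e, map_commutator, _root_.commutator_def]
      exact commutator_mono le_top le_top
    have h := Nat.le_of_dvd Nat.card_pos (card_dvd_of_le hle)
    rw [Nat.card_congr eX.toEquiv, ← Nat.card_congr (MonoidHom.ofInjective hj).toEquiv] at h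
    exact absurd (AmbExists.card_sl_mono (F := F) (F' := F') (by omega)) (not_lt.2 h)

/-- The `p`-part of the order of a three dimensional group. -/
theorem padic_card {K : Type u} [Group K] [Finite K] {p e : ℕ} (hD : Dim3 K p e) :
    padicValNat p (Nat.card K) = 3 * e := by
  haveI := Fact.mk hD.prime
  obtain ⟨η, hη, h⟩ := hD.card
  have hp : Prime (p : ℤ) := Nat.prime_iff_prime_int.1 hD.prime
  have hpq : (p : ℤ) ∣ (p : ℤ) ^ e := dvd_pow_self _ (by have := hD.one_le; omega)
  have hη' : ¬ (p : ℤ) ∣ η := fun hd => hp.not_isUnit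
    (isUnit_of_dvd_unit hd (by rcases hη with r | r <;> rw [r] <;> simp))
  have h1 : ¬ (p : ℤ) ∣ ((p : ℤ) ^ e) ^ 2 - 1 := fun hd => hp.not_dvd_one (by
    have := dvd_sub (dvd_pow hpq (two_ne_zero)) hd
    simpa using this)
  have h2 : ¬ (p : ℤ) ∣ ((p : ℤ) ^ e) ^ 3 - η := fun hd => hη' (by
    have := dvd_sub (dvd_pow hpq (three_ne_zero)) hd
    simpa using this)
  have hg : ¬ (p : ℤ) ∣ (Int.gcd 3 ((p : ℤ) ^ e - η) : ℤ) := fun hd => hη' (by
    have := dvd_sub hpq (hd.trans (Int.gcd_dvd_right 3 ((p : ℤ) ^ e - η)))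
    simpa using this)
  have hne : ∀ {a : ℤ}, ¬ (p : ℤ) ∣ a → a ≠ 0 := fun h e => h (e ▸ dvd_zero _)
  have hp0 : ((p : ℤ) ^ e) ^ 3 ≠ 0 := pow_ne_zero _ (pow_ne_zero _ hp.ne_zero)
  have hv := congrArg (padicValInt p) h
  rw [padicValInt.mul (Int.natCast_ne_zero.2 Nat.card_pos.ne') (hne hg),
    padicValInt.mul (mul_ne_zero hp0 (hne h1)) (hne h2), padicValInt.mul hp0 (hne h1),
    padicValInt.eq_zero_of_not_dvd hg, padicValInt.eq_zero_of_not_dvd h1,
    padicValInt.eq_zero_of_not_dvd h2, padicValInt.of_nat, ← pow_mul, ← Nat.cast_pow,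
    padicValInt.of_nat, padicValNat.prime_pow] at hv
  omega

/-- The regularity inequality when the top is a three dimensional group. -/
theorem regular_of_dim3 {H : Type u} [Group H] [Fintype H] {X : Type u} [Group X] [Fintype X]
    {D : Cen X} (A : Amb H D) (S : Sylow 2 H) (hS : Cfsg.IsQuasiDihedral (S : Subgroup H))
    (hX : Cfsg.oddCore X = ⊥) {F : Type} [Field F] [Fintype F] (hF : Odd (Fintype.card F))
    (eX : commutator X ≃* Matrix.SpecialLinearGroup (Fin 2) F)
    {L : Subgroup (H ⧸ Cfsg.oddCore H)} [L.Normal] (hLo : Odd L.index) {p e : ℕ}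
    (hD : Dim3 L p e) :
    Fintype.card F = p ^ e ∧ 3 * padicValNat p (Nat.card A.C) ≤ padicValNat p (Nat.card H) +
      2 * padicValNat p (Nat.card (centralizer ({A.tC} : Set A.C))) := by
  classical
  haveI := Fact.mk hD.prime
  haveI : Fact (Nat.Prime 2) := ⟨Nat.prime_two⟩
  haveI : (Cfsg.oddCore H).Normal := DGroup.normal_oddCore H
  set φ := QuotientGroup.mk' (Cfsg.oddCore H) with hφdef
  have hφ : Function.Surjective φ := QuotientGroup.mk'_surjective _
  have hker : Odd (Nat.card φ.ker) := by
    rw [hφdef, QuotientGroup.ker_mk']; exact DGroup.odd_oddCore H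
  set z := A.z with hzdef
  set t : H := (A.tC : H) with htdef
  have hz : orderOf z = 2 := A.order_z
  have ht : orderOf t = 2 := (Subgroup.orderOf_coe _).trans A.orderOf_tC
  have hzt : Commute z t := (mem_centralizer_singleton_iff.1 A.tC.2).symm
  have hne : z ≠ t := fun h => by
    have h1 : A.tC = A.zC := Subtype.ext (h.symm.trans A.coe_zC.symm)
    exact D.half_ne_zero (congrArg Prod.snd (A.lt_inj h1)).symm
  -- the odd index normal subgroup contains the 2-elements
  have hL2 : ∀ k : H ⧸ Cfsg.oddCore H, (∃ j, orderOf k = 2 ^ j) → k ∈ L := by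
    rintro k ⟨j, hj⟩
    rw [← QuotientGroup.eq_one_iff]
    refine orderOf_eq_one_iff.1 (Nat.eq_one_of_dvd_coprimes
      ((Nat.coprime_two_left.2 hLo).pow_left j) ?_ (orderOf_dvd_natCard _))
    exact hj ▸ orderOf_map_dvd (QuotientGroup.mk' L) k
  set CK := centralizer ({φ z} : Set (H ⧸ Cfsg.oddCore H)) with hCK
  have hmapC : A.C.map φ = CK := map_centralizer_invol hker hφ hz
  -- the centralizer of a Sylow 2-subgroup containing `z, t` supplements `L`
  set E := zpowers z ⊔ zpowers t with hE
  have hEp : IsPGroup 2 E := by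
    refine IsPGroup.to_sup_of_normal_right'
      (IsPGroup.of_card (n := 1) (by rw [Nat.card_zpowers, hz, pow_one]))
      (IsPGroup.of_card (n := 1) (by rw [Nat.card_zpowers, ht, pow_one])) ?_
    rw [zpowers_le]
    refine centralizer_le_normalizer _ (mem_centralizer_iff.2 fun w hw => ?_)
    obtain ⟨n, rfl⟩ := mem_zpowers_iff.1 hw
    exact (hzt.symm.zpow_left n).eq
  obtain ⟨T, hT⟩ := hEp.exists_le_sylow
  have hAut : IsPGroup 2 (MulAut (T : Subgroup H)) := CfsgLib.InvolPattern.isPGroup_mulAut_sylow
    (Or.inl (CfsgLib.InvolPattern.isQuasiDihedral_congr (S.equiv T) hS))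
  set M := L.comap φ with hMdef
  have hTM : (T : Subgroup H) ≤ M := fun g hg => by
    obtain ⟨j, hj⟩ := IsPGroup.iff_orderOf.1 T.2 ⟨g, hg⟩
    rw [Subgroup.orderOf_mk] at hj
    obtain ⟨i, -, hi⟩ := (Nat.dvd_prime_pow Nat.prime_two).1 (hj ▸ orderOf_map_dvd φ g)
    exact hL2 _ ⟨i, hi⟩
  set ψ : H →* (H ⧸ Cfsg.oddCore H) ⧸ L := (QuotientGroup.mk' L).comp φ with hψdef
  have hψsurj : ∀ q, ∃ g ∈ centralizer (T : Set H), ψ g = q := by
    intro q
    obtain ⟨g, rfl⟩ := (QuotientGroup.mk'_surjective L).comp hφ q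
    have htop := Sylow.normalizer_sup_eq_top (T.subtype hTM)
    have hg : g ∈ ((normalizer (((T.subtype hTM : Subgroup M).map M.subtype : Subgroup H) : Set H)) ⊔ M) :=
      htop ▸ mem_top g
    rw [T.coe_subtype, subgroupOf_map_subtype, inf_eq_left.2 hTM] at hg
    obtain ⟨n, hn, m, hm, rfl⟩ := mem_sup_of_normal_right.1 hg
    have hm1 : ψ m = 1 := (QuotientGroup.eq_one_iff _).2 hm
    obtain ⟨c, hc⟩ := IsPGroup.iff_orderOf.1 hAut ((T : Subgroup H).normalizerMonoidHom ⟨n, hn⟩)
    have hcen : n ^ (2 ^ c) ∈ centralizer (T : Set H) := by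
      have h1 : (⟨n, hn⟩ : normalizer ((T : Subgroup H) : Set H)) ^ (2 ^ c) ∈
          (T : Subgroup H).normalizerMonoidHom.ker := by
        rw [MonoidHom.mem_ker, map_pow, ← hc, pow_orderOf_eq_one]
      rw [normalizerMonoidHom_ker, mem_subgroupOf] at h1
      exact h1
    have hcop : (Nat.card ((H ⧸ Cfsg.oddCore H) ⧸ L)).Coprime (2 ^ c) :=
      Nat.Coprime.pow_right c (Nat.coprime_two_right.2 hLo)
    obtain ⟨d, hd⟩ := exists_pow_eq_self_of_coprime (x := ψ n)
      (hcop.symm.coprime_dvd_right (orderOf_dvd_natCard _))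
    refine ⟨(n ^ (2 ^ c)) ^ d, pow_mem hcen d, ?_⟩
    rw [map_pow, map_pow, hd]
    exact ((map_mul ψ n m).trans (by rw [hm1, mul_one])).symm
  -- so the index of `L` divides the centralizer of the four group modulo the core
  set CE := CK ⊓ centralizer ({φ t} : Set (H ⧸ Cfsg.oddCore H)) with hCE
  have hmapE : (A.C ⊓ centralizer ({t} : Set H)).map φ = CE :=
    map_centralizer_pair hker hφ hz ht hzt
  have hdE : L.index ∣ Nat.card CE := by
    have hsurj : Function.Surjective ((QuotientGroup.mk' L).comp CE.subtype) := fun q => by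
      obtain ⟨g, hg, hgq⟩ := hψsurj q
      have hgz := mem_centralizer_iff.1 hg z (hT (mem_sup_left (mem_zpowers z)))
      have hgt := mem_centralizer_iff.1 hg t (hT (mem_sup_right (mem_zpowers t)))
      refine ⟨⟨φ g, ?_⟩, hgq⟩
      rw [← hmapE]
      exact ⟨g, ⟨mem_centralizer_singleton_iff.2 hgz.symm, mem_centralizer_singleton_iff.2 hgt.symm⟩, rfl⟩
    exact card_dvd_of_surjective _ hsurj
  -- the centralizer in `L`
  set zL : L := ⟨φ z, hL2 _ ⟨1, by rw [orderOf_map_two hker (x := z) (j := 1) (by rw [hz, pow_one]), hz, pow_one]⟩⟩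
  have hzL : orderOf zL = 2 := by
    rw [Subgroup.orderOf_mk, orderOf_map_two hker (x := z) (j := 1) (by rw [hz, pow_one]), hz]
  obtain ⟨hvL, F', iF', iFF', hF', N, hN, ⟨eN⟩⟩ := hD.cent zL hzL
  have hcardL : Nat.card (centralizer ({zL} : Set L)) = Nat.card (L ⊓ CK : Subgroup _) :=
    AmbExists.card_centralizer_sub L zL
  have hdC : Nat.card CK ∣ Nat.card (L ⊓ CK : Subgroup _) * L.index := by
    have h := (L.subgroupOf CK).card_mul_index
    rw [← h, ← card_map_of_injective CK.subtype_injective (K := L.subgroupOf CK),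
      subgroupOf_map_subtype]
    exact mul_dvd_mul_left _ (relIndex_dvd_index_of_normal L CK)
  refine ⟨?_, ?_⟩
  · -- the field
    have hkπ : φ.ker.subgroupOf A.C ≤ A.π.ker := by
      rw [← Subgroup.map_eq_bot_iff, eq_bot_iff, ← hX]
      refine DGroup.le_oddCore (Normal.map inferInstance _ A.surj) ?_
      exact hker.of_dvd_nat ((card_map_dvd _ _).trans
        (card_comap_dvd_of_injective _ _ A.C.subtype_injective))
    set γ : A.C →* CK := (MulEquiv.subgroupCongr hmapC).toMonoidHom.comp (φ.subgroupMap A.C)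
      with hγdef
    have hγ : Function.Surjective γ :=
      (MulEquiv.subgroupCongr hmapC).surjective.comp (φ.subgroupMap_surjective A.C)
    have hγk : γ.ker ≤ A.π.ker := fun c hc => hkπ (by
      rw [mem_subgroupOf, MonoidHom.mem_ker]
      exact congrArg Subtype.val (MonoidHom.mem_ker.1 hc))
    set π' : CK →* X := MonoidHom.liftOfSurjective γ hγ ⟨A.π, hγk⟩ with hπ'def
    have hπ' : ∀ c, π' (γ c) = A.π c := fun c =>
      MonoidHom.liftOfRightInverse_comp_apply γ _ _ ⟨A.π, hγk⟩ c
    have hπ's : Function.Surjective π' := fun x => by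
      obtain ⟨c, rfl⟩ := A.surj x
      exact ⟨γ c, hπ' c⟩
    have hπ'k : Odd (Nat.card π'.ker) := by
      refine A.ker_odd.of_dvd_nat ?_
      rw [show π'.ker = A.π.ker.map γ by
        ext k
        constructor
        · intro hk
          obtain ⟨c, rfl⟩ := hγ k
          exact ⟨c, MonoidHom.mem_ker.2 (by rw [← hπ' c]; exact MonoidHom.mem_ker.1 hk), rfl⟩
        · rintro ⟨c, hc, rfl⟩
          exact MonoidHom.mem_ker.2 (by rw [hπ' c]; exact MonoidHom.mem_ker.1 hc)]
      exact card_map_dvd _ _
    set Y := L.subgroupOf CK with hYdef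
    haveI : Y.Normal := inferInstance
    have hY : Odd Y.index := hLo.of_dvd_nat (relIndex_dvd_index_of_normal L CK)
    let eY : centralizer ({zL} : Set L) ≃* Y :=
      { toFun := fun c => ⟨⟨((c : L) : H ⧸ Cfsg.oddCore H), mem_centralizer_singleton_iff.2
          (congrArg Subtype.val (mem_centralizer_singleton_iff.1 c.2))⟩, (c : L).2⟩
        invFun := fun c => ⟨⟨((c : CK) : H ⧸ Cfsg.oddCore H), c.2⟩,
          mem_centralizer_singleton_iff.2 (Subtype.ext (mem_centralizer_singleton_iff.1 (c : CK).2))⟩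
        left_inv := fun _ => rfl
        right_inv := fun _ => rfl
        map_mul' := fun _ _ => rfl }
    haveI : (N.map eY.toMonoidHom).Normal := Normal.map hN _ eY.surjective
    exact q_eq_of_top π' hπ's hπ'k hF eX Y hY hD.prime hD.odd hF' (N.map eY.toMonoidHom)
      ((N.equivMapOfInjective _ eY.injective).symm.trans eN)
  · -- the inequality
    have hinvz := CfsgLib.NormCyclic.Inv.of_orderOf hz
    have hinvt := CfsgLib.NormCyclic.Inv.of_orderOf ht
    set O := φ.ker with hO
    have hcl : ∀ w : H, orderOf w = 2 →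
        Nat.card (O ⊓ centralizer ({w} : Set H) : Subgroup H) = Nat.card (O ⊓ A.C : Subgroup H) := by
      intro w hw
      obtain ⟨g, hg⟩ := isConj_iff.1 (A.conj_z w hw)
      have hmap : (O ⊓ centralizer ({w} : Set H)).map (MulAut.conj g).toMonoidHom = O ⊓ A.C := by
        have hOg : O.map (MulAut.conj g).toMonoidHom = O :=
          mem_normalizer_iff_map_conj_eq.1 (by rw [normalizer_eq_top O]; exact mem_top g)
        rw [Subgroup.map_inf _ _ _ (MulAut.conj g).injective, hOg]
        congr 1
        ext x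
        rw [mem_map_equiv, Amb.C, mem_centralizer_singleton_iff, mem_centralizer_singleton_iff,
          MulAut.conj_symm_apply, ← hg]
        constructor
        · intro h
          calc x * (g * w * g⁻¹) = g * (g⁻¹ * x * g * w) * g⁻¹ := by group
            _ = g * (w * (g⁻¹ * x * g)) * g⁻¹ := by rw [h]
            _ = g * w * g⁻¹ * x := by group
        · intro h
          calc g⁻¹ * x * g * w = g⁻¹ * (x * (g * w * g⁻¹)) * g := by group
            _ = g⁻¹ * (g * w * g⁻¹ * x) * g := by rw [h]
            _ = w * (g⁻¹ * x * g) := by group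
      rw [← hmap, card_map_of_injective (f := (MulAut.conj g).toMonoidHom) (MulAut.conj g).injective]
    have hzt2 : orderOf (z * t) = 2 := (CfsgLib.NormCyclic.Inv.mul hinvz hinvt hzt hne).orderOf
    have hnorm : ∀ x : H, x ∈ normalizer (O : Set H) := fun x => by
      rw [normalizer_eq_top O]; exact mem_top x
    have hW := CfsgLib.GW.Eight.card_four hker hinvz hinvt hzt hne (hnorm z) (hnorm t)
    rw [hcl z hz, hcl t ht, hcl _ hzt2, show centralizer ({z, t} : Set H) =
      A.C ⊓ centralizer ({t} : Set H) from le_antisymm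
        (le_inf (centralizer_le (by simp [hzdef])) (centralizer_le (by simp)))
        fun g hg => mem_centralizer_iff.2 fun w hw => by
          rcases hw with rfl | rfl
          exacts [(mem_centralizer_singleton_iff.1 hg.1).symm,
            (mem_centralizer_singleton_iff.1 hg.2).symm]] at hW
    have hH : Nat.card H = Nat.card O * Nat.card (H ⧸ Cfsg.oddCore H) := by
      rw [hO, hφdef, QuotientGroup.ker_mk', card_eq_card_quotient_mul_card_subgroup (Cfsg.oddCore H),
        mul_comm]
    have hV : Nat.card (centralizer ({A.tC} : Set A.C)) =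
        Nat.card (O ⊓ (A.C ⊓ centralizer ({t} : Set H)) : Subgroup H) * Nat.card CE := by
      rw [AmbExists.card_centralizer_sub, card_eq_inf_mul_map φ, ← hmapE]
    have hCc : Nat.card A.C = Nat.card (O ⊓ A.C : Subgroup H) * Nat.card CK := by
      rw [card_eq_inf_mul_map φ, hmapC]
    -- the valuation of the top
    have hK : padicValNat p (Nat.card (H ⧸ Cfsg.oddCore H)) = 3 * e + padicValNat p L.index := by
      rw [← L.card_mul_index, padicValNat.mul Nat.card_pos.ne' L.index_ne_zero_of_finite]
      congr 1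
      exact padic_card hD
    have ne0 : ∀ B : Subgroup H, Nat.card B ≠ 0 := fun B => Nat.card_pos.ne'
    have hO3 := congrArg (padicValNat p) hW
    rw [padicValNat.mul (ne0 _) (pow_ne_zero _ (ne0 _)), padicValNat.pow, padicValNat.mul
      (mul_ne_zero (ne0 _) (ne0 _)) (ne0 _), padicValNat.mul (ne0 _) (ne0 _)] at hO3
    rw [hH, hV, hCc, padicValNat.mul (ne0 _) Nat.card_pos.ne', padicValNat.mul (ne0 _) Nat.card_pos.ne',
      padicValNat.mul (ne0 _) Nat.card_pos.ne', hK]
    have h1 : padicValNat p (Nat.card CK) ≤ e + padicValNat p L.index := by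
      have h := (padicValNat_dvd_iff_le (p := p) (mul_ne_zero Nat.card_pos.ne' L.index_ne_zero_of_finite)).1
        (dvd_trans pow_padicValNat_dvd hdC)
      rw [padicValNat.mul Nat.card_pos.ne' L.index_ne_zero_of_finite, ← hcardL] at h
      omega
    have h2 : padicValNat p L.index ≤ padicValNat p (Nat.card CE) :=
      (padicValNat_dvd_iff_le (p := p) Nat.card_pos.ne').1 (dvd_trans pow_padicValNat_dvd hdE)
    omega

end CfsgLib.OrderFormula.Weak
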