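import Cfsg.Agent.OrderFormula.AmbExists
import Cfsg.Agent.OrderFormula.TwoParts
import Cfsg.Agent.Invol.CentralizerPattern

/-!
# Weakly embedded cores: the data of the subgroup

A subgroup `H` controlling the centralizers of its involutions contains a Sylow 2-subgroup and
inherits the ambient data.
-/

set_option autoImplicit false
set_option linter.unusedSectionVars false
set_option linter.style.haveILetI false

namespace CfsgLib.OrderFormula.Weak

open Cfsg Subgroup CfsgLib.CentralizerDefect CfsgLib.OrderFormula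

universe u

/-- A Sylow 2-subgroup inside `H` with a given involution of `H` in its centre. -/
theorem exists_sylow_le {G : Type u} [Group G] [Finite G] (S : Sylow 2 G)
    (hS : Cfsg.IsQuasiDihedral (S : Subgroup G) ∨ Cfsg.IsWreathed (S : Subgroup G))
    (h2 : ∀ N : Subgroup G, N.index ≠ 2) (H : Subgroup G) {y : G} (hy : y ∈ H) (ho : orderOf y = 2)
    (hcov : ∀ c ∈ centralizer ({y} : Set G),
      ∃ h ∈ H ⊓ centralizer ({y} : Set G), ∃ o ∈ Cfsg.centralizerPPrimeCore 2 y, c = h * o) :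
    ∃ S' : Sylow 2 G, (S' : Subgroup G) ≤ H ∧ y ∈ (S' : Subgroup G) ∧
      (∀ s ∈ (S' : Subgroup G), s * y = y * s) ∧
      (Cfsg.IsQuasiDihedral (S' : Subgroup G) ∨ Cfsg.IsWreathed (S' : Subgroup G)) := by
  classical
  haveI : Fact (Nat.Prime 2) := ⟨Nat.prime_two⟩
  obtain ⟨hcls, z, hzS, hz, hzc⟩ :=
    hS.elim (InvolPattern.qd_one_class h2 S) (InvolPattern.wreath_one_class h2 S)
  obtain ⟨g, hg⟩ := isConj_iff.1 (InvolPattern.isConj_of_one_class hcls hz ho)
  set C := centralizer ({y} : Set G) with hC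
  set M := H ⊓ C with hM
  -- the centralizer has the full 2-part
  have hSC : Nat.card (S : Subgroup G) ∣ Nat.card C := by
    have hle : (S : Subgroup G).map (MulAut.conj g).toMonoidHom ≤ C := by
      rintro _ ⟨s, hs, rfl⟩
      rw [hC, mem_centralizer_singleton_iff, ← hg]
      show g * s * g⁻¹ * (g * z * g⁻¹) = g * z * g⁻¹ * (g * s * g⁻¹)
      calc g * s * g⁻¹ * (g * z * g⁻¹) = g * (s * z * s⁻¹) * s * g⁻¹ := by group
        _ = _ := by rw [hzc s hs]; group
    rw [← card_map_of_injective (f := (MulAut.conj g).toMonoidHom) (MulAut.conj g).injective]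
    exact card_dvd_of_le hle
  -- it is covered by `M` and the core
  set O := Cfsg.oddCore C with hO
  haveI : O.Normal := DGroup.normal_oddCore C
  have hcard : Nat.card C ∣ Nat.card O * Nat.card M := by
    let f : M →* C ⧸ O := (QuotientGroup.mk' O).comp (inclusion inf_le_right)
    have hf : Function.Surjective f := fun w => by
      obtain ⟨c, rfl⟩ := QuotientGroup.mk'_surjective O w
      obtain ⟨h, hh, o, ⟨o', ho', rfl⟩, e⟩ := hcov c c.2
      refine ⟨⟨h, hh⟩, QuotientGroup.eq.2 ?_⟩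
      rw [show (inclusion inf_le_right (⟨h, hh⟩ : M) : C)⁻¹ * c = o' from Subtype.ext (by
        show h⁻¹ * (c : G) = (o' : G)
        rw [e, inv_mul_cancel_left]; rfl)]
      exact ho'
    rw [← O.card_mul_index]
    exact mul_dvd_mul_left _ (card_dvd_of_surjective f hf)
  have hSM : Nat.card (S : Subgroup G) ∣ Nat.card M := by
    obtain ⟨n, hn⟩ := S.2.exists_card_eq
    have h := hSC.trans hcard
    rw [hn] at h ⊢
    exact ((Nat.coprime_two_left.2 (DGroup.odd_oddCore C)).pow_left n).dvd_of_dvd_mul_left h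
  obtain ⟨n, hn⟩ := S.2.exists_card_eq
  obtain ⟨T, hT⟩ := Sylow.exists_subgroup_card_pow_prime 2 (hn ▸ hSM)
  -- enlarge by the central involution
  have hTp : IsPGroup 2 (T.map M.subtype) := (IsPGroup.of_card hT).map _
  set R := T.map M.subtype with hR
  have hRM : R ≤ M := map_subtype_le _
  have hn' : n = (Nat.card G).factorization 2 := by
    have := S.card_eq_multiplicity
    rw [hn] at this
    exact Nat.pow_right_injective le_rfl this
  let S' : Sylow 2 G := Sylow.ofCard R (by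
    rw [hR, card_map_of_injective M.subtype_injective, hT, hn'])
  have hSS : (S' : Subgroup G) = R := Sylow.coe_ofCard _ _
  refine ⟨S', hSS ▸ hRM.trans inf_le_left, ?_, fun s hs => ?_, ?_⟩
  · have hcen : zpowers y ≤ normalizer (R : Set G) := by
      rw [zpowers_le]
      refine mem_normalizer_iff.2 fun w => ?_
      constructor <;> intro hw
      · rwa [← mem_centralizer_singleton_iff.1 (hRM hw).2, mul_inv_cancel_right]
      · have hw' := mem_centralizer_singleton_iff.1 (hRM hw).2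
        have : w = y * w * y⁻¹ := by
          calc w = y⁻¹ * ((y * w * y⁻¹) * y) := by group
            _ = y⁻¹ * (y * (y * w * y⁻¹)) := by rw [hw']
            _ = _ := by group
        rwa [this]
    have hp : IsPGroup 2 (R ⊔ zpowers y : Subgroup G) :=
      hTp.to_sup_of_normal_left' (IsPGroup.of_card (n := 1) (by rw [Nat.card_zpowers, ho, pow_one]))
        hcen
    have := S'.3 hp (hSS ▸ le_sup_left)
    rw [← this]
    exact (le_sup_right : zpowers y ≤ R ⊔ zpowers y) (mem_zpowers y)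
  · exact mem_centralizer_singleton_iff.1 (hRM (hSS ▸ hs)).2
  · exact hS.imp (InvolPattern.isQuasiDihedral_congr (S.equiv S'))
      (InvolPattern.isWreathed_congr (S.equiv S'))

/-- A group acting on two images of a 2-group with the same composite with a map of odd kernel
identifies them by an element of the kernel. -/
theorem exists_conj_ker {C : Type*} [Group C] [Finite C] {Q : Type*} [Group Q] (π : C →* Q)
    (hk : Odd (Nat.card π.ker)) {P : Type*} [Group P] (hP : IsPGroup 2 P) (f₁ f₂ : P →* C)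
    (h : ∀ p, π (f₁ p) = π (f₂ p)) :
    ∃ k ∈ π.ker, ∀ p, k * f₁ p * k⁻¹ = f₂ p := by
  classical
  haveI : Fact (Nat.Prime 2) := ⟨Nat.prime_two⟩
  set M := (π.comp f₁).range.comap π with hM
  have h1 : ∀ p, f₁ p ∈ M := fun p => ⟨p, rfl⟩
  have h2 : ∀ p, f₂ p ∈ M := fun p => ⟨p, h p⟩
  have hinj : ∀ (T : Sylow 2 M) (a b : M), a ∈ (T : Subgroup M) → b ∈ (T : Subgroup M) →
      π a = π b → a = b := by
    intro T a b ha hb e
    obtain ⟨j, hj⟩ := T.2 ⟨a⁻¹ * b, mul_mem (inv_mem ha) hb⟩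
    have h1 := eq_one_of_two_pow hk (x := ((a⁻¹ * b : M) : C)) (j := j)
      (by rw [MonoidHom.mem_ker, coe_mul, map_mul, InvMemClass.coe_inv, map_inv, e, inv_mul_cancel])
      (congrArg Subtype.val (congrArg Subtype.val hj))
    exact inv_mul_eq_one.1 (Subtype.ext h1)
  obtain ⟨T₁, hT₁⟩ := (IsPGroup.of_surjective hP (f₁.codRestrict M h1).rangeRestrict (MonoidHom.rangeRestrict_surjective _)).exists_le_sylow
  obtain ⟨T₂, hT₂⟩ := (IsPGroup.of_surjective hP (f₂.codRestrict M h2).rangeRestrict (MonoidHom.rangeRestrict_surjective _)).exists_le_sylow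
  obtain ⟨m, hm⟩ := MulAction.exists_smul_eq M T₁ T₂
  obtain ⟨p₀, hp₀⟩ := m.2
  refine ⟨(m : C) * (f₁ p₀)⁻¹, ?_, fun p => ?_⟩
  · rw [MonoidHom.mem_ker, map_mul, map_inv, ← hp₀, MonoidHom.comp_apply, mul_inv_cancel]
  have hmem : m * ⟨f₁ (p₀⁻¹ * p * p₀), h1 _⟩ * m⁻¹ ∈ (T₂ : Subgroup M) := by
    rw [← hm]
    exact smul_mem_pointwise_smul _ (MulAut.conj m) _ (hT₁ ⟨_, rfl⟩)
  have := hinj T₂ _ ⟨f₂ p, h2 p⟩ hmem (hT₂ ⟨p, rfl⟩) (by
    simp only [coe_mul, map_mul, InvMemClass.coe_inv, map_inv, ← hp₀, MonoidHom.comp_apply, ← h]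
    group)
  have e := congrArg Subtype.val this
  simp only [coe_mul, InvMemClass.coe_inv] at e
  rw [← e, map_mul, map_mul, map_inv]
  group

/-- The restriction relation between the data of `G` and of a subgroup. -/
structure Restr {G : Type u} [Group G] {Q : Type u} [Group Q] {D : Cen Q} (A : Amb G D)
    (H : Subgroup G) (B : Amb H D) : Prop where
  z_eq : ((B.z : H) : G) = A.z
  π_eq : ∀ (c : B.C) (h : ((c : H) : G) ∈ A.C), A.π ⟨_, h⟩ = B.π c

namespace Restr

variable {G : Type u} [Group G] {Q : Type u} [Group Q] {D : Cen Q} {A : Amb G D}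
  {H : Subgroup G} {B : Amb H D} (hR : Restr A H B)

include hR

theorem mem_C {h : H} : h ∈ B.C ↔ (h : G) ∈ A.C := by
  rw [mem_centralizer_singleton_iff, mem_centralizer_singleton_iff, ← hR.z_eq]
  exact ⟨fun e => congrArg Subtype.val e, fun e => Subtype.ext e⟩

theorem mem_T {h : H} : h ∈ B.T ↔ (h : G) ∈ A.T := by
  constructor
  · rintro ⟨c, rfl, hc⟩
    refine ⟨⟨_, hR.mem_C.1 c.2⟩, rfl, ?_⟩
    rw [Amb.E, hR.π_eq c]
    exact hc
  · rintro ⟨c, hc, hE⟩
    have hh : h ∈ B.C := hR.mem_C.2 (hc ▸ c.2)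
    refine ⟨⟨h, hh⟩, rfl, ?_⟩
    rw [Amb.E, ← hR.π_eq ⟨h, hh⟩ (hc ▸ c.2)]
    rwa [show (⟨(h : G), hc ▸ c.2⟩ : A.C) = c from Subtype.ext hc.symm]

end Restr

section Sub

variable {G : Type u} [Group G] [Fintype G] {Q : Type u} [Group Q] [Fintype Q] {D : Cen Q}

/-- The 2-part of `q (q ^ 2 - 1)`. -/
theorem card_sl_two_part {F : Type} [Field F] [Fintype F] (hq : D.q = Fintype.card F) :
    ∃ r : ℕ, Odd r ∧ Nat.card (Matrix.SpecialLinearGroup (Fin 2) F) = 2 ^ D.M * r := by
  have hc : Nat.card (Matrix.SpecialLinearGroup (Fin 2) F) = D.q * (D.q ^ 2 - 1) := by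
    rw [hq]; exact CfsgLib.SL2C.card_SL2_mul
  obtain ⟨hqo, hq3⟩ := D.hq
  have key : ∃ s : ℤ, Odd s ∧ (D.q : ℤ) ^ 2 - 1 = 2 ^ D.M * s := by
    have h2 : ((D.q : ℤ)) ^ 2 - 1 = (D.ε * D.q + 1) * (D.ε * D.q - 1) := by
      rcases D.hε with e | e <;> rw [e] <;> ring
    rcases D.hmM with ⟨hm, hM, -⟩ | ⟨hm, hM, -⟩
    · obtain ⟨r, hr, e⟩ := D.hY.1 hm
      obtain ⟨M', hM'⟩ : ∃ M', D.M = M' + 3 := ⟨D.M - 3, by omega⟩
      rw [hM', show M' + 3 - 1 = M' + 2 by omega] at e
      refine ⟨r * (2 ^ (M' + 1) * r - 1), hr.mul ?_, ?_⟩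
      · exact ((Even.mul_right (Int.even_pow.2 ⟨even_two, by omega⟩) r)).sub_odd odd_one
      · rw [h2, e, show D.ε * (D.q : ℤ) - 1 = 2 ^ (M' + 2) * r - 2 by omega, hM']
        ring
    · obtain ⟨r, hr, e⟩ := D.hY.2 hm
      obtain ⟨m', hm'⟩ : ∃ m', D.m = m' + 2 := ⟨D.m - 2, by omega⟩
      rw [hm'] at e
      refine ⟨r * (2 ^ (m' + 1) * r + 1), hr.mul ?_, ?_⟩
      · exact ((Even.mul_right (Int.even_pow.2 ⟨even_two, by omega⟩) r)).add_odd odd_one
      · rw [h2, e, show D.ε * (D.q : ℤ) + 1 = 2 ^ (m' + 2) * r + 2 by omega, hM, hm']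
        ring
  obtain ⟨s, hs, e⟩ := key
  have hpos : 0 ≤ s := by
    by_contra h
    have h1 : (2 : ℤ) ^ D.M * s < 0 := mul_neg_of_pos_of_neg (by positivity) (by omega)
    nlinarith
  lift s to ℕ using hpos
  refine ⟨D.q * s, hqo.mul (by exact_mod_cast hs), ?_⟩
  have e' : D.q ^ 2 - 1 = 2 ^ D.M * s := by
    have h1 : 1 ≤ D.q ^ 2 := Nat.one_le_pow _ _ (by omega)
    zify [h1]
    exact e
  rw [hc, e']; ring

/-- A homomorphism to a group of order two killing the abelian part is trivial. -/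
theorem top_of_index_two {F : Type} [Field F] [Fintype F] (hq : D.q = Fintype.card F)
    (eQ : commutator Q ≃* Matrix.SpecialLinearGroup (Fin 2) F) (N : Subgroup Q) (hN : N.index = 2)
    (ht : ∀ p, D.tt p ∈ N) : False := by
  classical
  haveI := Subgroup.normal_of_index_eq_two hN
  have hodd : ∀ g : Q, Odd (orderOf g) → g ∈ N := by
    intro g hg
    obtain ⟨j, hj⟩ := hg
    have : g = (g ^ (j + 1)) ^ 2 := by
      rw [← pow_mul, show (j + 1) * 2 = orderOf g + 1 by omega, pow_succ, pow_orderOf_eq_one, one_mul]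
    rw [this]
    exact Subgroup.sq_mem_of_index_two hN _
  have hcomm : commutator Q ≤ N := by
    rw [commutator_def, commutator_le]
    intro a _ b _
    rw [commutatorElement_def]
    simp only [Subgroup.mul_mem_iff_of_index_two hN, inv_mem_iff]
    tauto
  set K := D.det.ker with hK
  have hle : commutator Q ≤ K := Abelianization.commutator_subset_ker _
  have hrel : Odd ((commutator Q).relIndex K) := by
    obtain ⟨r, hr, hQ⟩ := D.card_two
    obtain ⟨s, hs, hSL⟩ := card_sl_two_part (D := D) hq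
    have hidx : K.index = 2 ^ D.m := by
      have hsurj : Function.Surjective D.det := fun a => ⟨D.tt (Multiplicative.toAdd a, 0), by
        rw [Cen.tt, D.det_t, add_zero, ofAdd_toAdd]⟩
      rw [hK, Subgroup.index_ker, MonoidHom.range_eq_top.2 hsurj, Subgroup.card_top,
        Nat.card_congr Multiplicative.toAdd, Nat.card_zmod]
    have h1 := K.card_mul_index
    have h2 := card_mul_index ((commutator Q).subgroupOf K)
    rw [Nat.card_congr (subgroupOfEquivOfLe hle).toEquiv, Nat.card_congr eQ.toEquiv, hSL] at h2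
    rw [hidx, ← h2, hQ] at h1
    refine hr.of_dvd_nat ⟨s, ?_⟩
    rw [relIndex]
    refine (Nat.eq_of_mul_eq_mul_left (show 0 < 2 ^ (D.M + D.m) from pow_pos two_pos _) ?_).symm
    rw [← h1, pow_add]; ring
  have hKN : K ≤ N := by
    intro k hk
    haveI : ((commutator Q).subgroupOf K).Normal := Normal.subgroupOf inferInstance K
    have h := hcomm (mem_subgroupOf.1 (pow_index_mem ((commutator Q).subgroupOf K) ⟨k, hk⟩))
    rw [SubmonoidClass.coe_pow] at h
    obtain ⟨j, hj⟩ := hrel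
    rw [relIndex] at hj
    rw [hj, pow_succ, pow_mul] at h
    exact (N.mul_mem_cancel_left (pow_mem (Subgroup.sq_mem_of_index_two hN k) j)).1 h
  have he : D.e ∈ N := by
    have hk : D.e * (D.tt ((D.d : ZMod (2 ^ D.m)), 0))⁻¹ ∈ N := hKN (by
      rw [hK, MonoidHom.mem_ker, map_mul, map_inv, D.det_e, Cen.tt, D.det_t, add_zero,
        mul_inv_cancel])
    exact (N.mul_mem_cancel_right (inv_mem (ht _))).1 hk
  have htwo : ∀ g : Q, (∃ j : ℕ, orderOf g = 2 ^ j) → g ∈ N := by
    intro g hg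
    rcases D.cover g hg with ⟨p, hp⟩ | ⟨i, hi⟩
    · obtain ⟨a, ha⟩ := isConj_iff.1 hp.symm
      rw [← ha]
      exact Normal.conj_mem inferInstance _ (ht p) a
    · obtain ⟨a, ha⟩ := isConj_iff.1 hi.symm
      rw [← ha]
      exact Normal.conj_mem inferInstance _ (pow_mem he i) a
  have htop : N = ⊤ := eq_top_iff.2 fun g _ => by
    obtain ⟨y, hxy, -, hj, hy⟩ := xp_spec (p := 2) g
    rw [← hxy]
    exact mul_mem (htwo _ hj) (hodd _ (Nat.odd_iff.2 (Nat.two_dvd_ne_zero.1 hy)))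
  rw [htop, index_top] at hN
  exact absurd hN (by norm_num)

variable (A : Amb G D) (H : Subgroup G)

/-- The data of a subgroup controlling its centralizers of involutions. -/
theorem exists_sub {F : Type} [Field F] [Fintype F] (hq : D.q = Fintype.card F)
    (eQ : commutator Q ≃* Matrix.SpecialLinearGroup (Fin 2) F) (hQ : Cfsg.oddCore Q = ⊥)
    (hz : A.z ∈ H)
    (h1 : ∀ y ∈ H, ∀ y' ∈ H, orderOf y = 2 → orderOf y' = 2 → ∃ h ∈ H, h * y * h⁻¹ = y')
    (hcov : ∀ c ∈ A.C, ∃ h ∈ H ⊓ A.C, ∃ o ∈ Cfsg.centralizerPPrimeCore 2 A.z, c = h * o)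
    (S : Sylow 2 G) (hSH : (S : Subgroup G) ≤ H) (hSC : (S : Subgroup G) ≤ A.C) :
    ∃ B : Amb H D, Restr A H B := by
  classical
  haveI : Fact (Nat.Prime 2) := ⟨Nat.prime_two⟩
  haveI : (Cfsg.oddCore A.C).Normal := DGroup.normal_oddCore _
  -- the core lies in the kernel
  have hker : ∀ o ∈ Cfsg.oddCore A.C, A.π o = 1 := by
    intro o ho
    have hle : (Cfsg.oddCore A.C).map A.π ≤ Cfsg.oddCore Q :=
      DGroup.le_oddCore (Normal.map inferInstance _ A.surj)
        ((DGroup.odd_oddCore A.C).of_dvd_nat (card_map_dvd _ _))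
    rw [hQ] at hle
    exact mem_bot.1 (hle ⟨o, ho, rfl⟩)
  have hcov' : ∀ c : A.C, ∃ h : A.C, (h : G) ∈ H ∧ ∃ o : A.C, A.π o = 1 ∧ c = h * o := by
    intro c
    obtain ⟨h, hh, o, ⟨o', ho', rfl⟩, e⟩ := hcov c c.2
    exact ⟨⟨h, hh.2⟩, hh.1, o', hker o' ho', Subtype.ext e⟩
  -- move the abelian part into the subgroup
  have hP : IsPGroup 2 (Multiplicative D.Idx) := fun p => ⟨D.m, by
    rw [← ofAdd_toAdd p, ← ofAdd_nsmul, ← ofAdd_zero]
    congr 1
    have e : ∀ a : ZMod (2 ^ D.m), (2 ^ D.m) • a = 0 := fun a => by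
      rw [nsmul_eq_mul, ZMod.natCast_self, zero_mul]
    exact Prod.ext (e _) (e _)⟩
  obtain ⟨T, hT⟩ := (IsPGroup.of_surjective hP A.lift.rangeRestrict (MonoidHom.rangeRestrict_surjective _)).exists_le_sylow
  obtain ⟨c, hc⟩ := MulAction.exists_smul_eq A.C T (S.subtype hSC)
  obtain ⟨h₀, hh₀, o, ho, rfl⟩ := hcov' c
  have hlH : ∀ p, ((o * A.lift p * o⁻¹ : A.C) : G) ∈ H := by
    intro p
    have hm : (h₀ * o) * A.lift p * (h₀ * o)⁻¹ ∈ (S.subtype hSC : Subgroup A.C) := by
      rw [← hc]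
      exact smul_mem_pointwise_smul _ (MulAut.conj (h₀ * o)) _ (hT ⟨p, rfl⟩)
    have hm' : (((h₀ * o) * A.lift p * (h₀ * o)⁻¹ : A.C) : G) ∈ H := hSH (mem_subgroupOf.1 hm)
    rw [show o * A.lift p * o⁻¹ = h₀⁻¹ * ((h₀ * o) * A.lift p * (h₀ * o)⁻¹) * h₀ by group,
      coe_mul, coe_mul, InvMemClass.coe_inv]
    exact mul_mem (mul_mem (inv_mem hh₀) hm') hh₀
  have hπl : ∀ p, A.π (o * A.lift p * o⁻¹) = A.π (A.lift p) := fun p => by
    rw [map_mul, map_mul, map_inv, ho, one_mul, inv_one, mul_one]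
  have hfix : ((o * A.zC * o⁻¹ : A.C) : G) = A.z := by
    rw [show o * A.zC * o⁻¹ = A.zC from mul_inv_eq_iff_eq_mul.2 (A.zC_central o).symm.eq, A.coe_zC]
  -- the centralizer in the subgroup
  set zH : H := ⟨A.z, hz⟩ with hzH
  have hmem : ∀ {h : H}, h ∈ centralizer ({zH} : Set H) ↔ (h : G) ∈ A.C := by
    intro h
    rw [mem_centralizer_singleton_iff, mem_centralizer_singleton_iff]
    exact ⟨fun e => congrArg Subtype.val e, fun e => Subtype.ext e⟩
  let ι : centralizer ({zH} : Set H) →* A.C :=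
    (H.subtype.comp (centralizer ({zH} : Set H)).subtype).codRestrict A.C fun w => hmem.1 w.2
  have hι : Function.Injective ι := fun a b e => by
    have h : ((ι a : A.C) : G) = ((ι b : A.C) : G) := congrArg Subtype.val e
    exact Subtype.ext (Subtype.ext h)
  let πH := A.π.comp ι
  have hkH : Odd (Nat.card πH.ker) := A.ker_odd.of_dvd_nat (by
    rw [← card_map_of_injective (K := πH.ker) hι]
    exact card_dvd_of_le (by rintro _ ⟨w, hw, rfl⟩; exact hw))
  have hsurj : Function.Surjective πH := fun x => by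
    obtain ⟨c, rfl⟩ := A.surj x
    obtain ⟨h, hh, o', ho', rfl⟩ := hcov' c
    exact ⟨⟨⟨h, hh⟩, hmem.2 h.2⟩, by rw [map_mul, ho', mul_one]; rfl⟩
  let lH : Multiplicative D.Idx →* centralizer ({zH} : Set H) := MonoidHom.mk'
    (fun p => ⟨⟨_, hlH p⟩, hmem.2 (o * A.lift p * o⁻¹).2⟩)
    fun a b => Subtype.ext (Subtype.ext (by
      show ((o * A.lift (a * b) * o⁻¹ : A.C) : G) = ((o * A.lift a * o⁻¹ : A.C) : G) * ((o * A.lift b * o⁻¹ : A.C) : G)
      rw [← coe_mul, map_mul]; congr 1; group))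
  have hzz : orderOf zH = 2 := by rw [← Subgroup.orderOf_coe]; exact A.order_z
  have hone : ∀ w : H, orderOf w = 2 → IsConj w zH := fun w hw => by
    obtain ⟨h, hh, e⟩ := h1 w w.2 A.z hz (by rwa [Subgroup.orderOf_coe]) A.order_z
    exact isConj_iff.2 ⟨⟨h, hh⟩, Subtype.ext e⟩
  -- the rotation
  obtain ⟨gr, hgr⟩ := A.rot
  have hrot : ∃ g : H, ∀ p : D.Idx,
      g * (lH (Multiplicative.ofAdd p) : H) * g⁻¹ = lH (Multiplicative.ofAdd (D.rotI p)) := by
    set g' : G := (o : G) * gr * (o : G)⁻¹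
    have hg' : ∀ p, g' * ((lH (Multiplicative.ofAdd p) : H) : G) * g'⁻¹ =
        ((lH (Multiplicative.ofAdd (D.rotI p)) : H) : G) := fun p => by
      show g' * ((o * A.lift _ * o⁻¹ : A.C) : G) * g'⁻¹ = ((o * A.lift _ * o⁻¹ : A.C) : G)
      simp only [g', coe_mul, InvMemClass.coe_inv, ← hgr p]
      group
    have hzl : ((lH (Multiplicative.ofAdd (D.half, D.half)) : H) : G) = A.z := hfix
    set v := lH (Multiplicative.ofAdd (D.rotI (D.half, D.half)))
    have hv : g' * A.z * g'⁻¹ = ((v : H) : G) := by rw [← hzl]; exact hg' _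
    obtain ⟨h, hh, he⟩ := h1 A.z hz _ (v : H).2 A.order_z (by
      rw [← hv]; exact (MulEquiv.orderOf_eq (MulAut.conj g') _).trans A.order_z)
    have hcC : h⁻¹ * g' ∈ A.C := by
      rw [mem_centralizer_singleton_iff]
      calc h⁻¹ * g' * A.z = h⁻¹ * (g' * A.z * g'⁻¹) * g' := by group
        _ = h⁻¹ * (h * A.z * h⁻¹) * g' := by rw [hv, he]
        _ = _ := by group
    obtain ⟨h₂, hh₂, o₂, ho₂, he₂⟩ := hcov' ⟨_, hcC⟩
    have hge : g' = h * h₂ * (o₂ : G) := by
      have := congrArg Subtype.val he₂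
      rw [coe_mul] at this
      rw [mul_assoc, ← this, mul_inv_cancel_left]
    -- a second lift
    have hl₂ : ∀ p, ((o₂ * ι (lH p) * o₂⁻¹ : A.C) : G) ∈ H := fun p => by
      have e := hg' (Multiplicative.toAdd p)
      rw [ofAdd_toAdd, hge] at e
      show (o₂ : G) * ((lH p : H) : G) * (o₂ : G)⁻¹ ∈ H
      rw [show (o₂ : G) * ((lH p : H) : G) * (o₂ : G)⁻¹ =
        (h * (h₂ : G))⁻¹ * (h * h₂ * o₂ * ((lH p : H) : G) * (h * h₂ * o₂ : G)⁻¹) * (h * h₂) by group, e]
      exact mul_mem (mul_mem (inv_mem (mul_mem hh hh₂)) (SetLike.coe_mem _)) (mul_mem hh hh₂)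
    let f₂ : Multiplicative D.Idx →* centralizer ({zH} : Set H) := MonoidHom.mk'
      (fun p => ⟨⟨_, hl₂ p⟩, hmem.2 (o₂ * ι (lH p) * o₂⁻¹).2⟩)
      fun a b => Subtype.ext (Subtype.ext (by
        show ((o₂ * ι (lH (a * b)) * o₂⁻¹ : A.C) : G) =
          ((o₂ * ι (lH a) * o₂⁻¹ : A.C) : G) * ((o₂ * ι (lH b) * o₂⁻¹ : A.C) : G)
        rw [← coe_mul, map_mul, map_mul]; congr 1; group))
    obtain ⟨k, -, hk⟩ := exists_conj_ker πH hkH hP lH f₂ fun p => by
      show A.π (ι (lH p)) = A.π (o₂ * ι (lH p) * o₂⁻¹)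
      rw [map_mul A.π, map_mul A.π, map_inv, ho₂, one_mul, inv_one, mul_one]
    refine ⟨⟨h * h₂ * ((k : H) : G), mul_mem (mul_mem hh hh₂) (k : H).2⟩, fun p => Subtype.ext ?_⟩
    have hk' : ((k : H) : G) * ((lH (Multiplicative.ofAdd p) : H) : G) * ((k : H) : G)⁻¹ =
        (o₂ : G) * ((lH (Multiplicative.ofAdd p) : H) : G) * (o₂ : G)⁻¹ :=
      congrArg (fun w : centralizer ({zH} : Set H) => ((w : H) : G)) (hk (Multiplicative.ofAdd p))
    rw [← hg' p, hge]
    push_cast
    rw [show h * (h₂ : G) * ((k : H) : G) * ((lH (Multiplicative.ofAdd p) : H) : G) *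
        (h * (h₂ : G) * ((k : H) : G))⁻¹ = h * h₂ *
          (((k : H) : G) * ((lH (Multiplicative.ofAdd p) : H) : G) * ((k : H) : G)⁻¹) *
            (h * (h₂ : G))⁻¹ by group, hk']
    group
  obtain ⟨g₁, hg₁⟩ := hrot
  have hv2 : padicValNat 2 (Nat.card H) = D.M + D.m := by
    refine le_antisymm (le_of_le_of_eq ?_ A.card_two) ?_
    · exact (padicValNat_dvd_iff_le Nat.card_pos.ne').1 (pow_padicValNat_dvd.trans H.card_subgroup_dvd_card)
    · refine (padicValNat_dvd_iff_le Nat.card_pos.ne').1 ?_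
      rw [← A.card_two, ← Nat.factorization_def _ Nat.prime_two, ← S.card_eq_multiplicity]
      exact card_dvd_of_le hSH
  have hπH : ∀ p, πH (lH (Multiplicative.ofAdd p)) = D.tt p := fun p =>
    ((hπl _).trans (A.π_lift p))
  refine ⟨{ z := zH, order_z := hzz, π := πH, surj := hsurj, ker_odd := hkH, lift := lH,
            π_lift := hπH, lift_half := Subtype.ext hfix, rot := ⟨g₁, hg₁⟩, conj_z := hone,
            no_index_two := fun N hN => ?_, card_two := hv2 }, rfl, fun c h => rfl⟩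
  -- no subgroup of index two
  haveI := Subgroup.normal_of_index_eq_two hN
  have hM4 : 4 ≤ D.M + D.m := by rcases D.hmM with h | h <;> omega
  have hNev : 2 ∣ Nat.card N := by
    by_contra h
    have h2 := N.card_mul_index
    rw [hN] at h2
    rw [← h2, padicValNat.mul Nat.card_pos.ne' two_ne_zero, padicValNat.eq_zero_of_not_dvd h,
      padicValNat.self one_lt_two] at hv2
    omega
  obtain ⟨w, hw⟩ := exists_prime_orderOf_dvd_card' 2 hNev
  have hzN : ∀ u : H, orderOf u = 2 → u ∈ N := by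
    intro u hu
    obtain ⟨a, ha⟩ := isConj_iff.1 ((hone _ ((orderOf_coe w).trans hw)).trans (hone u hu).symm)
    rw [← ha]
    exact Normal.conj_mem inferInstance _ w.2 a
  have hlN : ∀ p, (lH (Multiplicative.ofAdd p) : H) ∈ N := by
    intro p
    have hr : ∀ q, (lH (Multiplicative.ofAdd (D.rotI q)) : H) ∈ N ↔
        (lH (Multiplicative.ofAdd q) : H) ∈ N := fun q => by
      rw [← hg₁ q]
      exact ⟨fun h => by have := Normal.conj_mem' inferInstance _ h g₁; simpa [mul_assoc] using this,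
        fun h => Normal.conj_mem inferInstance _ h g₁⟩
    have hsum : p + D.rotI p + D.rotI (D.rotI p) = 0 := by
      simp only [Cen.rotI]; ext <;> simp <;> abel
    by_contra hp
    have h2 : (lH (Multiplicative.ofAdd p) : H) * lH (Multiplicative.ofAdd (D.rotI p)) ∈ N := by
      rw [Subgroup.mul_mem_iff_of_index_two hN, hr]
    have h3 : (lH (Multiplicative.ofAdd (D.rotI (D.rotI p))) : H) ∈ N := by
      refine (N.mul_mem_cancel_left h2).1 ?_
      rw [← coe_mul, ← coe_mul, ← map_mul, ← map_mul, ← ofAdd_add, ← ofAdd_add, hsum]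
      simp
    exact hp ((hr _).1 ((hr _).1 h3))
  have hkN : πH.ker ≤ N.subgroupOf (centralizer ({zH} : Set H)) := by
    intro w hw
    obtain ⟨j, hj⟩ := odd_orderOf_of_mem_ker hkH hw
    have : w = (w ^ (j + 1)) ^ 2 := by
      rw [← pow_mul, show (j + 1) * 2 = orderOf w + 1 by omega, pow_succ, pow_orderOf_eq_one, one_mul]
    rw [this, mem_subgroupOf, SubmonoidClass.coe_pow]
    exact Subgroup.sq_mem_of_index_two hN _
  set N' := (N.subgroupOf (centralizer ({zH} : Set H))).map πH with hN'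
  have hidx : N'.index = N.relIndex (centralizer ({zH} : Set H)) := by
    rw [hN', index_map_eq _ hsurj hkN]; rfl
  have hd : N'.index = 1 ∨ N'.index = 2 := by
    have : N'.index ∣ 2 := hidx ▸ hN ▸ relIndex_dvd_index_of_normal N _
    exact (Nat.dvd_prime Nat.prime_two).1 this
  rcases hd with hd | hd
  · have hle : centralizer ({zH} : Set H) ≤ N := relIndex_eq_one.1 (hidx ▸ hd)
    have hdvd : Nat.card (S : Subgroup G) ∣ Nat.card N := by
      have h : (S : Subgroup G).subgroupOf H ≤ N := fun w hw => hle (hmem.2 (hSC hw))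
      rw [← Nat.card_congr (subgroupOfEquivOfLe hSH).toEquiv]
      exact card_dvd_of_le h
    rw [S.card_eq_multiplicity, Nat.factorization_def _ Nat.prime_two, A.card_two] at hdvd
    have h2 := N.card_mul_index
    rw [hN] at h2
    rw [← h2, padicValNat.mul Nat.card_pos.ne' two_ne_zero, padicValNat.self one_lt_two] at hv2
    have := (padicValNat_dvd_iff_le (p := 2) Nat.card_pos.ne').1 hdvd
    omega
  · refine top_of_index_two hq eQ N' hd fun p => ?_
    rw [← hπH p]
    exact mem_map_of_mem _ (hlN p)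

end Sub

end CfsgLib.OrderFormula.Weak
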