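import Cfsg.Agent.OrderFormula.Equations
import Cfsg.Agent.OrderFormula.Weak.Sub
import Cfsg.Agent.Blocks.Principal
import Cfsg.Agent.Char.Kernel

/-!
# Weakly embedded cores: restriction of the exceptional characters

The exceptional functions of the group restrict to those of the subgroup, so sums of exceptional
constituents restrict to the corresponding sums.
-/

set_option autoImplicit false
set_option linter.unusedSectionVars false
set_option linter.style.haveILetI false

namespace CfsgLib.OrderFormula.Weak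

open Cfsg Finset CfsgLib.Block CfsgLib.Block.Chr CfsgLib.Char CfsgLib.OrderFormula
  CfsgLib.OrderFormula.Coh CfsgLib.CentralizerDefect

universe u

attribute [local instance] Classical.propDecidable

section Split

variable {ι : Type*} [Fintype ι]

theorem dot_le_dot {d u v : ι → ℤ} (hd : ∀ i, 0 < d i) (h : ∀ i, u i ≤ v i) :
    dot d u ≤ dot d v :=
  sum_le_sum fun i _ => mul_le_mul_of_nonneg_left (h i) (hd i).le

theorem eq_of_le_of_dot_eq {d u v : ι → ℤ} (hd : ∀ i, 0 < d i) (h : ∀ i, u i ≤ v i)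
    (he : dot d u = dot d v) : u = v := funext fun i =>
  mul_left_cancel₀ (hd i).ne' ((sum_eq_sum_iff_of_le fun j _ =>
    mul_le_mul_of_nonneg_left (h j) (hd j).le).1 he i (mem_univ i))

theorem dot_single_deg [DecidableEq ι] (d : ι → ℤ) (i : ι) (s : ℤ) :
    dot d (Pi.single i s) = d i * s := by
  rw [dot, sum_eq_single i (fun l _ hl => by rw [Pi.single_eq_of_ne hl, mul_zero])
    (fun h => absurd (mem_univ i) h), Pi.single_eq_same]

/-- A decomposition of a difference of two units into a positive and a negative part. -/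
theorem split_le {d : ι → ℤ} (hd : ∀ i, 0 < d i) {u v a b : ι → ℤ} (ha : IsUnitVec a)
    (hb : IsUnitVec b) (hab : dot a b = 0) (hda : 0 < dot d a) (hdb : dot d b < 0)
    (h : u + v = a + b) (hu : ∀ i, 0 ≤ u i) (hv : ∀ i, v i ≤ 0) :
    (∀ i, a i ≤ u i) ∧ ∀ i, v i ≤ b i := by
  classical
  obtain ⟨i, s, hs, rfl⟩ := ha.exists_single
  obtain ⟨j, t, ht, rfl⟩ := hb.exists_single
  rw [dot_single_deg] at hda hdb
  obtain rfl : s = 1 := hs.resolve_right fun e => by subst e; have := hd i; omega
  obtain rfl : t = -1 := ht.resolve_left fun e => by subst e; have := hd j; omega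
  have hij : i ≠ j := fun e => by
    subst e
    rw [dot_single_deg, Pi.single_eq_same] at hab
    omega
  have key : ∀ k, u k + v k =
      (Pi.single i (1 : ℤ) : ι → ℤ) k + (Pi.single j (-1 : ℤ) : ι → ℤ) k := fun k => congrFun h k
  refine ⟨fun k => ?_, fun k => ?_⟩
  · by_cases hk : k = i
    · subst hk
      have := key k
      rw [Pi.single_eq_same, Pi.single_eq_of_ne hij] at this
      have := hv k
      rw [Pi.single_eq_same]; omega
    · rw [Pi.single_eq_of_ne hk]; exact hu k
  · by_cases hk : k = j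
    · subst hk
      have := key k
      rw [Pi.single_eq_same, Pi.single_eq_of_ne hij.symm] at this
      have := hu k
      rw [Pi.single_eq_same]; omega
    · rw [Pi.single_eq_of_ne hk]; exact hv k

end Split

theorem deg_pos {G : Type u} [Group G] [Fintype G] (χ : IrrCharacter G) : 0 < deg χ :=
  Int.natCast_pos.2 (irr_one χ).2

section Restriction

variable {G : Type u} [Group G] [Fintype G] [Fintype (IrrCharacter G)] (H : Subgroup G)
  [Fintype H] [Fintype (IrrCharacter H)]

theorem co_one : co (fun _ : G => (1 : ℂ)) = (Coh.one : IrrCharacter G → ℤ) := funext fun χ => by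
  have h := co_spec (isGeneralized_one (G := G)) χ
  have h0 := classInner_irr (oneIrr G) χ
  rw [oneIrr_coe] at h0
  rw [h0] at h
  rw [Coh.one, Pi.single_apply]
  have : ((co (fun _ : G => (1 : ℂ)) χ : ℤ) : ℂ) = ((if χ = oneIrr G then 1 else 0 : ℤ) : ℂ) := by
    rw [← h]
    by_cases e : χ = oneIrr G
    · rw [if_pos e.symm, if_pos e]; norm_num
    · rw [if_neg (Ne.symm e), if_neg e]; norm_num
  exact_mod_cast this

/-- The restriction of a character of `G`. -/
noncomputable def res1 (χ : IrrCharacter G) : H → ℂ := fun h => (χ : G → ℂ) h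

theorem isCharacter_res1 (χ : IrrCharacter G) : Cfsg.IsCharacter H (res1 H χ) :=
  IsCharacter.comp (IsIrrCharacter.isCharacter χ.2) H.subtype

theorem isGen_res1 (χ : IrrCharacter G) : IsGeneralizedCharacter H (res1 H χ) :=
  IsCharacter.isGeneralized (isCharacter_res1 H χ)

theorem co_res1_nonneg (χ : IrrCharacter G) (ψ : IrrCharacter H) : 0 ≤ co (res1 H χ) ψ := by
  obtain ⟨n, hn⟩ := IsCharacter.exists_classInner_eq_natCast (isCharacter_res1 H χ) ψ.2
  rw [co_spec (isGen_res1 H χ)] at hn
  have : co (res1 H χ) ψ = (n : ℤ) := by exact_mod_cast hn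
  omega

/-- The restriction of a vector. -/
noncomputable def resV (v : IrrCharacter G → ℤ) : IrrCharacter H → ℤ :=
  fun ψ => ∑ χ : IrrCharacter G, v χ * co (res1 H χ) ψ

theorem resV_add (u v : IrrCharacter G → ℤ) : resV H (u + v) = resV H u + resV H v :=
  funext fun ψ => by simp only [resV, Pi.add_apply, add_mul, sum_add_distrib]

theorem resV_sub (u v : IrrCharacter G → ℤ) : resV H (u - v) = resV H u - resV H v :=
  funext fun ψ => by simp only [resV, Pi.sub_apply, sub_mul, sum_sub_distrib]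

theorem resV_neg (v : IrrCharacter G → ℤ) : resV H (-v) = -resV H v :=
  funext fun ψ => by simp only [resV, Pi.neg_apply, neg_mul, sum_neg_distrib]

theorem resV_co {f : G → ℂ} (hf : IsGeneralizedCharacter G f) :
    resV H (co f) = co (fun h : H => f h) := funext fun ψ => by
  have h := co_spec (IsGeneralized.restrict hf H) ψ
  have e : (fun x : H => f x) = fun x => ∑ χ : IrrCharacter G, (co f χ : ℂ) * res1 H χ x :=
    funext fun x => apply_eq_sum hf x
  have e2 : classInner (fun x : H => f x) (ψ : H → ℂ) =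
      ∑ χ : IrrCharacter G, (co f χ : ℂ) * (co (res1 H χ) ψ : ℂ) := by
    rw [e, show (fun x : H => ∑ χ : IrrCharacter G, (co f χ : ℂ) * res1 H χ x) =
      ∑ χ : IrrCharacter G, (co f χ : ℂ) • res1 H χ from funext fun x => by simp [Finset.sum_apply],
      classInner_sum_left]
    refine sum_congr rfl fun χ _ => ?_
    rw [classInner_smul_left, co_spec (isGen_res1 H χ)]
  rw [h] at e2
  simp only [resV]
  exact_mod_cast e2.symm

theorem resV_one : resV H (Coh.one : IrrCharacter G → ℤ) = Coh.one := by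
  rw [← co_one, resV_co H isGeneralized_one, co_one]

theorem deg_resV (v : IrrCharacter G → ℤ) : dot deg (resV H v) = dot deg v := by
  have h : ∀ χ, dot deg (co (res1 H χ)) = deg χ := fun χ =>
    dot_deg_co (isGen_res1 H χ) (by rw [cast_deg]; rfl)
  simp only [dot, resV, mul_sum] at h ⊢
  rw [sum_comm]
  refine sum_congr rfl fun χ _ => ?_
  rw [← h χ, sum_mul]
  exact sum_congr rfl fun ψ _ => by ring

theorem valv_resV (v : IrrCharacter G → ℤ) (h : H) :
    Amb.valv (resV H v) h = Amb.valv v (h : G) := by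
  simp only [Amb.valv, resV, Int.cast_sum, Int.cast_mul, sum_mul]
  rw [sum_comm]
  refine sum_congr rfl fun χ _ => ?_
  rw [show (χ : G → ℂ) h = res1 H χ h from rfl, apply_eq_sum (isGen_res1 H χ), mul_sum]
  exact sum_congr rfl fun ψ _ => by ring

theorem resV_single (χ : IrrCharacter G) (s : ℤ) :
    resV H (Pi.single χ s) = s • co (res1 H χ) := funext fun ψ => by
  rw [resV, sum_eq_single χ (fun l _ hl => by rw [Pi.single_eq_of_ne hl, zero_mul])
    (fun h => absurd (mem_univ χ) h), Pi.single_eq_same]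
  rfl

theorem resV_unit_pos {v : IrrCharacter G → ℤ} (hv : IsUnitVec v) (hd : 0 < dot deg v) (ψ) :
    0 ≤ resV H v ψ := by
  obtain ⟨χ, s, hs, rfl⟩ := hv.exists_single
  rw [dot_single_deg] at hd
  obtain rfl : s = 1 := hs.resolve_right fun e => by subst e; have := deg_pos χ; omega
  rw [resV_single, one_smul]
  exact co_res1_nonneg H χ ψ

theorem resV_unit_neg {v : IrrCharacter G → ℤ} (hv : IsUnitVec v) (hd : dot deg v < 0) (ψ) :
    resV H v ψ ≤ 0 := by
  obtain ⟨χ, s, hs, rfl⟩ := hv.exists_single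
  rw [dot_single_deg] at hd
  obtain rfl : s = -1 := hs.resolve_left fun e => by subst e; have := deg_pos χ; omega
  rw [resV_single, neg_one_smul, Pi.neg_apply]
  have := co_res1_nonneg H χ ψ
  omega

end Restriction

section Functions

variable {G : Type u} [Group G] [Fintype G] {Q : Type u} [Group Q] [Fintype Q] {D : Cen Q}
  {A : Amb G D} {H : Subgroup G} [Fintype H] {B : Amb H D} (hR : Restr A H B)

include hR

/-- The induced functions restrict to the induced functions. -/
theorem Phi_restrict (φ : D.Idx → ℂ) (γ : D.EIdx → ℂ) :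
    (fun h : H => A.Phi φ γ h) = B.Phi φ γ := by
  funext h
  by_cases hex : ∃ h₀ : H, h₀⁻¹ * h * h₀ ∈ B.T
  · obtain ⟨h₀, hT⟩ := hex
    obtain ⟨c, hc, hE⟩ := hT
    have hmem : ((c : H) : G) ∈ A.C := hR.mem_C.1 c.2
    have hEA : A.E ⟨_, hmem⟩ := by rw [Amb.E, hR.π_eq c]; exact hE
    rw [← B.isClassFunction_Phi φ γ h h₀⁻¹, inv_inv, ← hc, B.Phi_apply φ γ hE,
      ← A.isClassFunction_Phi φ γ (h : G) ((h₀⁻¹ : H) : G),
      show ((h₀⁻¹ : H) : G) * (h : G) * ((h₀⁻¹ : H) : G)⁻¹ = ((c : H) : G) by rw [hc]; simp,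
      ← hR.π_eq c hmem]
    exact A.Phi_apply φ γ hEA
  · rw [B.Phi_eq_zero φ γ (g := h) fun x hx => hex ⟨x, hx⟩]
    refine A.Phi_eq_zero φ γ fun x hx => hex ?_
    obtain ⟨n, hn⟩ := Subgroup.mem_zpowers_iff.1 (A.z_mem_zpowers_of_T hx)
    have hu : x * A.z * x⁻¹ = (h : G) ^ n := by
      rw [← hn, ← conj_zpow]; group
    have ho : orderOf ((h : H) ^ n) = 2 := by
      rw [← Subgroup.orderOf_coe, SubgroupClass.coe_zpow, ← hu]
      exact (MulEquiv.orderOf_eq (MulAut.conj x) _).trans A.order_z
    obtain ⟨h₀, hh₀⟩ := isConj_iff.1 (B.conj_z _ ho).symm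
    refine ⟨h₀, ?_⟩
    have hz : B.z ∈ Subgroup.zpowers (h₀⁻¹ * h * h₀) := by
      refine ⟨n, ?_⟩
      show (h₀⁻¹ * h * h₀) ^ n = B.z
      have e : (h₀⁻¹ * h * h₀⁻¹⁻¹) ^ n = h₀⁻¹ * h ^ n * h₀⁻¹⁻¹ := conj_zpow
      rw [inv_inv] at e
      rw [e, ← hh₀]; group
    have hC : h₀⁻¹ * h * h₀ ∈ B.C := by
      obtain ⟨k, hk⟩ := Subgroup.mem_zpowers_iff.1 hz
      rw [Subgroup.mem_centralizer_singleton_iff, ← hk]
      exact ((Commute.refl _).zpow_right k).eq
    refine ⟨⟨_, hC⟩, rfl, B.E_iff.2 ?_⟩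
    obtain ⟨k, hk⟩ := Subgroup.mem_zpowers_iff.1 hz
    exact ⟨k, Subtype.ext (by rw [B.coe_zC, ← hk]; simp)⟩

variable [Fintype (IrrCharacter G)] [Fintype (IrrCharacter H)] {hP : PairVirtual D}
  (P : Shape (A.config hP)) (P₀ : Shape (B.config hP))

theorem res_AX (r : D.RIdx) : resV H P.A + resV H (P.X r) = P₀.A + P₀.X r := by
  have h := resV_co H (A.isGeneralized_eFun hP r.1)
  rw [show (fun x : H => A.eFun r.1 x) = B.eFun r.1 from Phi_restrict hR _ _,
    Amb.co_eFun_rep P r, Amb.co_eFun_rep P₀ r, resV_add, resV_add, resV_one] at h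
  exact add_left_cancel h

theorem res_Ub (j : D.JIdx) : resV H P.U + -resV H (P.b j) = P₀.U + -P₀.b j := by
  have h := resV_co H (A.isGeneralized_sFun hP j.2)
  rw [show (fun x : H => A.sFun j.1 x) = B.sFun j.1 from Phi_restrict hR _ _,
    Amb.co_sFun P j, Amb.co_sFun P₀ j, resV_sub, resV_sub, resV_one] at h
  rw [← sub_eq_add_neg, ← sub_eq_add_neg]
  exact sub_left_injective h

end Functions

end CfsgLib.OrderFormula.Weak
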