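import Cfsg.Agent.OrderFormula.Weak.Interface
import Cfsg.Agent.OrderFormula.Weak.Sub
import Cfsg.Agent.OrderFormula.Weak.Restrict
import Cfsg.Agent.OrderFormula.Weak.Regular
import Cfsg.Agent.OrderFormula.Weak.MinRep
import Cfsg.Agent.OrderFormula.InputsProof
import Cfsg.Agent.OrderFormula.Local
import Cfsg.Agent.Invol.FusionSimpleQuotient
import Cfsg.Agent.KGroup.Basic
import Cfsg.Agent.M11Out.Main

/-!
# Weakly embedded cores

The core of a weakly embedded subgroup lies in the core of the group, given the table of the known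
simple groups with semidihedral Sylow 2-subgroups.
-/

set_option autoImplicit false
set_option linter.unusedSectionVars false
set_option linter.style.haveILetI false

namespace CfsgLib.OrderFormula.Weak

open Cfsg Finset CfsgLib.Block CfsgLib.Block.Chr CfsgLib.Char CfsgLib.OrderFormula
  CfsgLib.OrderFormula.Coh CfsgLib.CentralizerDefect
open Subgroup (centralizer)

universe u

attribute [local instance] Classical.propDecidable

/-- The first part of the degree comparison: `b` is negative. -/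
theorem b_neg {q x b : ℤ} (hq : 3 ≤ q) (hE : (x + q ^ 2) * (b + q ^ 2) = q ^ 2 * (q ^ 2 - 1))
    (hxp : 0 < x → q ^ 3 - 1 ≤ x) (hxn : x < 0 → x ≤ -q ^ 3) (hx : x ≠ 0) : b < 0 := by
  have h9 : 9 ≤ q ^ 2 := by nlinarith
  have hq3 : 3 * q ^ 2 ≤ q ^ 3 := by nlinarith
  rcases lt_or_gt_of_ne hx with h | h
  · have := hxn h
    by_contra hb
    have h1 : 0 ≤ b + q ^ 2 := by omega
    have h2 : x + q ^ 2 < 0 := by omega
    nlinarith
  · have := hxp h
    by_contra hb
    have h1 : q ^ 2 ≤ b + q ^ 2 := by omega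
    nlinarith

/-- The second part of the degree comparison. -/
theorem deg_bound {q Y x b : ℤ} (hq : 3 ≤ q) (hY : Y = q ∨ Y = -q)
    (hE : (x + Y ^ 2) * (b + Y ^ 2) = Y ^ 2 * (Y ^ 2 - 1))
    (hxp : 0 < x → (Y = q → q ^ 3 - 1 ≤ x) ∧ (Y = -q → q ^ 3 ≤ x))
    (hxn : x < 0 → (Y = q → x ≤ -q ^ 3) ∧ (Y = -q → x ≤ -1 - q ^ 3)) (hx : x ≠ 0)
    (hb : b ≤ -(Y ^ 2 + Y + 1)) :
    -(Y ^ 2 + Y + 1) - b < 2 * q ∧ (Y = q → b = -(Y ^ 2 + Y + 1)) := by
  have h9 : 9 ≤ q ^ 2 := by nlinarith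
  have hq3 : 3 * q ^ 2 ≤ q ^ 3 := by nlinarith
  rcases hY with e | e <;> subst e
  · rcases lt_or_gt_of_ne hx with h | h
    · have h' := (hxn h).1 rfl
      have hm : -(b + Y ^ 2) ≤ Y + 1 := by
        by_contra hc
        have h1 : (Y ^ 3 - Y ^ 2) * (Y + 2) ≤ -(x + Y ^ 2) * -(b + Y ^ 2) :=
          mul_le_mul (by omega) (by omega) (by omega) (by omega)
        nlinarith
      exact ⟨by omega, fun _ => by omega⟩
    · exfalso
      have h' := (hxp h).1 rfl
      have h1 : b + Y ^ 2 ≤ 0 := by omega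
      have h2 : (x + Y ^ 2) * (b + Y ^ 2) ≤ 0 := mul_nonpos_of_nonneg_of_nonpos (by omega) h1
      nlinarith
  · refine ⟨?_, fun e => absurd e (by omega)⟩
    rw [neg_sq] at hE hb ⊢
    rcases lt_or_gt_of_ne hx with h | h
    · have h' := (hxn h).2 rfl
      have hm : -(b + q ^ 2) ≤ q := by
        by_contra hc
        have h1 : (q ^ 3 + 1 - q ^ 2) * (q + 1) ≤ -(x + q ^ 2) * -(b + q ^ 2) :=
          mul_le_mul (by omega) (by omega) (by omega) (by omega)
        nlinarith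
      omega
    · have h' := (hxp h).2 rfl
      have h1 : 0 < b + q ^ 2 := by
        by_contra hc
        have h2 : (x + q ^ 2) * (b + q ^ 2) ≤ 0 :=
          mul_nonpos_of_nonneg_of_nonpos (by omega) (by omega)
        nlinarith
      omega

section Kernel

variable {G : Type u} [Group G] [Fintype G] [Fintype (IrrCharacter G)] {H : Subgroup G} [Fintype H]
  [Fintype (IrrCharacter H)]

/-- A constituent restricting to a unit of the principal block, not constant at `z`. -/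
theorem core_le {z : G} (hone : ∀ w : G, orderOf w = 2 → IsConj w z)
    {M : Ideal AlgInt} [M.IsPrime] (hM : IsPModular 2 M) {v : IrrCharacter G → ℤ}
    {v₀ : IrrCharacter H → ℤ} (hv : IsUnitVec v) (hv₀ : Amb.InBlock M v₀)
    (hres : ∀ h : H, Amb.valv v (h : G) = Amb.valv v₀ h)
    (hne : Amb.valv v z ≠ (dot deg v : ℤ)) :
    (Cfsg.oddCore H).map H.subtype ≤ Cfsg.oddCore G := by
  have hval1 : Amb.valv v (1 : G) = (dot deg v : ℤ) := by
    simp only [Amb.valv, dot, Int.cast_sum, Int.cast_mul, cast_deg]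
    exact sum_congr rfl fun χ _ => mul_comm _ _
  obtain ⟨χ, s, hs, rfl⟩ := hv.exists_single
  have hχ := IsIrrCharacter.isCharacter χ.2
  have hsv : ∀ g, Amb.valv (Pi.single χ s) g = s * (χ : G → ℂ) g := fun g => by
    rw [Amb.valv]
    exact Amb.sum_single_mul (fun ψ : IrrCharacter G => (ψ : G → ℂ) g) χ s
  have hs0 : (s : ℂ) ≠ 0 := by
    rcases hs with rfl | rfl <;> norm_num
  have hK : kerSubgroup hχ ≤ Cfsg.oddCore G := by
    refine DGroup.le_oddCore (kerSubgroup_normal hχ) (Nat.not_even_iff_odd.1 fun hev => hne ?_)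
    obtain ⟨w, hw⟩ := exists_prime_orderOf_dvd_card' (G := kerSubgroup hχ) 2 (even_iff_two_dvd.1 hev)
    obtain ⟨t, ht⟩ := isConj_iff.1 (hone w (by rwa [Subgroup.orderOf_coe]))
    have hz : z ∈ kerSubgroup hχ := ht ▸ (kerSubgroup_normal hχ).conj_mem w w.2 t
    rw [← hval1, hsv, hsv, (mem_kerSubgroup hχ z).1 hz]
  refine le_trans ?_ hK
  rintro _ ⟨o, ho, rfl⟩
  rw [mem_kerSubgroup]
  have hker : ∀ ψ, v₀ ψ ≠ 0 → (ψ : H → ℂ) o = (ψ : H → ℂ) 1 := fun ψ hψ => by
    haveI : (Cfsg.oddCore H).Normal := DGroup.normal_oddCore H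
    exact blockOf_subset_normal hM (Cfsg.oddCore H)
      (by rw [← even_iff_two_dvd, Nat.not_even_iff_odd]; exact DGroup.odd_oddCore H)
      (χ := oneIrr H) (fun _ _ => rfl) (hv₀ ψ hψ) o ho
  have e : Amb.valv v₀ o = Amb.valv v₀ 1 := sum_congr rfl fun ψ _ => by
    by_cases hψ : v₀ ψ = 0
    · simp [hψ]
    · rw [hker ψ hψ]
  rw [← hres, ← hres, hsv, hsv, OneMemClass.coe_one] at e
  exact mul_left_cancel₀ hs0 e

/-- A small difference of characters vanishing at `z` is zero. -/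
theorem res_eq_of_small (χ : IrrCharacter G) (χ₀ : IrrCharacter H)
    (hle : 1 ≤ co (res1 H χ) χ₀) {z : H} (hz : (χ : G → ℂ) z = (χ₀ : H → ℂ) z)
    (hsmall : deg χ ≤ deg χ₀ ∨ ∀ (d : ℕ) (ρ : Representation ℂ H (Fin d → ℂ)),
      (d : ℤ) = deg χ - deg χ₀ → ρ z = 1) :
    ∀ h : H, (χ : G → ℂ) h = (χ₀ : H → ℂ) h := by
  set ψ : H → ℂ := res1 H χ - (χ₀ : H → ℂ) with hψdef
  have hgen : IsGeneralizedCharacter H ψ :=
    IsGeneralized.sub (isGen_res1 H χ) (IsIrrCharacter.isGeneralized χ₀.2)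
  have hψ : Cfsg.IsCharacter H ψ := by
    refine isCharacter_of_classInner_nat (IsGeneralized.isClassFunction hgen) fun φ hφ => ?_
    refine ⟨(co (res1 H χ) ⟨φ, hφ⟩ - if χ₀ = ⟨φ, hφ⟩ then 1 else 0).toNat, ?_⟩
    have e1 : classInner (res1 H χ) φ = (co (res1 H χ) ⟨φ, hφ⟩ : ℂ) :=
      co_spec (isGen_res1 H χ) ⟨φ, hφ⟩
    have e2 : classInner (χ₀ : H → ℂ) φ = if χ₀ = ⟨φ, hφ⟩ then 1 else 0 :=
      classInner_irr χ₀ ⟨φ, hφ⟩
    rw [hψdef, classInner_sub_left, e1, e2]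
    have hn : 0 ≤ co (res1 H χ) ⟨φ, hφ⟩ - if χ₀ = ⟨φ, hφ⟩ then (1 : ℤ) else 0 := by
      split_ifs with e
      · subst e; omega
      · have := co_res1_nonneg H χ ⟨φ, hφ⟩; omega
    rw [← Int.cast_natCast, Int.toNat_of_nonneg hn]
    split_ifs <;> simp
  have h1 : ψ 1 = ((deg χ - deg χ₀ : ℤ) : ℂ) := by
    rw [hψdef, Int.cast_sub, cast_deg, cast_deg]; rfl
  obtain ⟨n, ρ, hρ⟩ := hψ
  have hn : (n : ℤ) = deg χ - deg χ₀ := by
    have : ψ 1 = (n : ℂ) := by rw [← hρ, ρ.char_one, Module.finrank_fin_fun]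
    rw [h1] at this
    exact_mod_cast this.symm
  have hn0 : n = 0 := by
    rcases hsmall with h | h
    · omega
    · have hρz := h n ρ hn
      have h0 : ψ z = (n : ℂ) := by
        rw [← hρ, Representation.character, hρz, LinearMap.trace_one, Module.finrank_fin_fun]
      rw [hψdef, Pi.sub_apply, show res1 H χ z = (χ : G → ℂ) z from rfl, hz, sub_self] at h0
      exact_mod_cast h0.symm
  intro h
  have h0 := norm_character_le ρ h
  rw [hρ, Module.finrank_fin_fun, hn0, Nat.cast_zero, norm_le_zero_iff, hψdef, Pi.sub_apply,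
    sub_eq_zero] at h0
  exact h0

end Kernel

section Cases

variable {G : Type u} [Group G] [Fintype G] [Fintype (IrrCharacter G)] {Q : Type u} [Group Q]
  [Fintype Q] {D : Cen Q} {A : Amb G D} {H : Subgroup G} [Fintype H] [Fintype (IrrCharacter H)]
  {B : Amb H D} (hR : Restr A H B) {hP : PairVirtual D} (P : Shape (A.config hP))
  (P₀ : Shape (B.config hP)) {M : Ideal AlgInt} (hM : IsPModular 2 M)

include hR hM P P₀

theorem core_le_of_two_le (hm : 2 ≤ D.m) :
    (Cfsg.oddCore H).map H.subtype ≤ Cfsg.oddCore G := by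
  haveI : M.IsPrime := hM.2.1.isPrime
  have hI : A.Inputs := Main.hasInputs A hP
  have hI₀ : B.Inputs := Main.hasInputs B hP
  have hx := Amb.x_eq_of_two_le P hI hM hm
  have hx₀ := Amb.x_eq_of_two_le P₀ hI₀ hM hm
  have hY3 : 3 ≤ D.Y ∨ D.Y ≤ -3 := by
    rw [Cen.Y]; have := D.hq.2; rcases D.hε with e | e <;> rw [e] <;> omega
  obtain ⟨r⟩ : Nonempty D.RIdx := Fintype.card_pos_iff.1 (by have := D.card_RIdx.1; omega)
  have hsum := res_AX hR P P₀ r
  have dX : dot deg (P.X r) = -1 - dot deg P.A := P.deg_X r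
  have dX₀ : dot deg (P₀.X r) = -1 - dot deg P₀.A := P₀.deg_X r
  have hcube : 27 ≤ D.Y ^ 3 ∨ D.Y ^ 3 ≤ -27 := by
    rcases hY3 with h | h
    · have h2 : 9 ≤ D.Y ^ 2 := by nlinarith
      exact Or.inl (by nlinarith)
    · have h2 : 9 ≤ D.Y ^ 2 := by nlinarith
      exact Or.inr (by nlinarith [mul_nonneg (sub_nonneg.2 h2) (show 0 ≤ -3 - D.Y by omega)])
  have heq : resV H P.A = P₀.A := by
    rcases hcube with h | h
    · have hneg : dot deg P.A < 0 := by omega
      obtain ⟨-, h2⟩ := split_le (fun i => deg_pos (G := H) i) (P₀.unit_X r) P₀.unit_A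
        ((dot_comm _ _).trans (P₀.A_X r)) (by omega) (by omega)
        (by rw [add_comm, hsum, add_comm]) (resV_unit_pos H (P.unit_X r) (by omega))
        (resV_unit_neg H P.unit_A hneg)
      exact eq_of_le_of_dot_eq (fun i => deg_pos (G := H) i) h2 (by rw [deg_resV, hx, hx₀])
    · have hpos : 0 < dot deg P.A := by omega
      obtain ⟨h1, -⟩ := split_le (fun i => deg_pos (G := H) i) P₀.unit_A (P₀.unit_X r)
        (P₀.A_X r) (by omega) (by omega)
        hsum (resV_unit_pos H P.unit_A hpos) (resV_unit_neg H (P.unit_X r) (by omega))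
      exact (eq_of_le_of_dot_eq (fun i => deg_pos (G := H) i) h1 (by rw [deg_resV, hx, hx₀])).symm
  refine core_le A.conj_z hM P.unit_A (Amb.shape_inBlock P₀ hM).1
    (fun h => by rw [← valv_resV, heq]) ?_
  rw [Amb.val_A P hI hM, hx, ← Int.cast_neg]
  intro h
  have h' : -D.Y = -D.Y ^ 3 := by exact_mod_cast h
  have h2 : D.Y * (D.Y ^ 2 - 1) = 0 := by linear_combination h'
  rcases mul_eq_zero.1 h2 with e | e <;> rcases hY3 with h3 | h3 <;> nlinarith

theorem exists_odd_deg (hm : D.m = 1) {p e : ℕ} [Fact p.Prime] (he : 1 ≤ e)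
    (hq : D.q = p ^ e)
    (hreg : 3 * padicValNat p (Nat.card B.C) ≤ padicValNat p (Nat.card H) +
      2 * padicValNat p (Nat.card (centralizer ({B.tC} : Set B.C)))) :
    ∃ j : D.JIdx, ch j.1 D.half = -1 ∧ dot deg P₀.A = -D.Y ^ 3 ∧
      dot deg (P₀.b j) = -(D.Y ^ 2 + D.Y + 1) ∧
      (dot deg P.A + D.Y ^ 2) * (dot deg (P.b j) + D.Y ^ 2) = D.Y ^ 2 * (D.Y ^ 2 - 1) := by
  haveI : M.IsPrime := hM.2.1.isPrime
  have hI : A.Inputs := Main.hasInputs A hP
  have hI₀ : B.Inputs := Main.hasInputs B hP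
  obtain ⟨j, hj⟩ := Amb.exists_odd_exponent (D := D)
  have hY3 : 3 ≤ D.Y ∨ D.Y ≤ -3 := by
    rw [Cen.Y]; have := D.hq.2; rcases D.hε with e | e <;> rw [e] <;> omega
  have hx₀ := Amb.x_eq_of_regular P₀ hI₀ hM hm he hq hreg
  have dc : dot deg (P.c j) = -1 - dot deg P.A - dot deg (P.b j) := P.deg_c j
  have dc₀ : dot deg (P₀.c j) = -1 - dot deg P₀.A - dot deg (P₀.b j) := P₀.deg_c j
  have hc : dot deg (P.c j) ≠ 0 := (A.config hP).deg_unit_ne (P.unit_c j)
  have hc₀ : dot deg (P₀.c j) ≠ 0 := (B.config hP).deg_unit_ne (P₀.unit_c j)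
  obtain ⟨ho, hbx⟩ := Amb.oddEq P hI hM j hj
  obtain ⟨ho₀, hbx₀⟩ := Amb.oddEq P₀ hI₀ hM j hj
  have hE := Arith.fixedEq_odd (Y := D.Y) (x := dot deg P.A) (b := dot deg (P.b j))
    ((A.config hP).deg_unit_ne P.unit_A)
    ((A.config hP).deg_unit_ne (P.unit_b j))
    (show 1 + dot deg P.A + dot deg (P.b j) ≠ 0 by omega) hbx ho
  have hE₀ := Arith.fixedEq_odd (Y := D.Y) (x := dot deg P₀.A) (b := dot deg (P₀.b j))
    ((B.config hP).deg_unit_ne P₀.unit_A)
    ((B.config hP).deg_unit_ne (P₀.unit_b j))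
    (show 1 + dot deg P₀.A + dot deg (P₀.b j) ≠ 0 by omega) hbx₀ ho₀
  refine ⟨j, hj, hx₀, ?_, hE⟩
  rw [hx₀] at hE₀
  have h : (D.Y ^ 2 * (D.Y - 1)) * (dot deg (P₀.b j) + (D.Y ^ 2 + D.Y + 1)) = 0 := by
    linear_combination -hE₀
  have h0 : D.Y ^ 2 * (D.Y - 1) ≠ 0 := mul_ne_zero (pow_ne_zero 2 (by omega)) (by omega)
  have := (mul_eq_zero.1 h).resolve_left h0
  omega

theorem deg_A_bounds {q : ℤ} (hq : 3 ≤ q) (hx₀ : dot deg P₀.A = -D.Y ^ 3) :
    (0 < dot deg P.A → (D.Y = q → q ^ 3 - 1 ≤ dot deg P.A) ∧ (D.Y = -q → q ^ 3 ≤ dot deg P.A)) ∧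
    (dot deg P.A < 0 → (D.Y = q → dot deg P.A ≤ -q ^ 3) ∧
      (D.Y = -q → dot deg P.A ≤ -1 - q ^ 3)) := by
  obtain ⟨r⟩ : Nonempty D.RIdx := Fintype.card_pos_iff.1 (by have := D.card_RIdx.1; omega)
  have h27 : 27 ≤ q ^ 3 := by
    have h9 : 9 ≤ q ^ 2 := by nlinarith
    nlinarith
  have hpY : D.Y = q → D.Y ^ 3 = q ^ 3 := fun e => by rw [e]
  have hnY : D.Y = -q → D.Y ^ 3 = -q ^ 3 := fun e => by rw [e]; ring
  have dX : dot deg (P.X r) = -1 - dot deg P.A := P.deg_X r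
  have dX₀ : dot deg (P₀.X r) = -1 - dot deg P₀.A := P₀.deg_X r
  have hX : dot deg (P.X r) ≠ 0 := (A.config hP).deg_unit_ne (P.unit_X r)
  have hdH : ∀ i : IrrCharacter H, 0 < deg i := fun i => deg_pos i
  have hsum := res_AX hR P P₀ r
  refine ⟨fun h => ⟨fun eY => ?_, fun eY => ?_⟩, fun h => ⟨fun eY => ?_, fun eY => ?_⟩⟩
  · have := hpY eY
    obtain ⟨h1, -⟩ := split_le hdH (P₀.unit_X r) P₀.unit_A ((dot_comm _ _).trans (P₀.A_X r))
      (by omega) (by omega) (by rw [hsum, add_comm]) (resV_unit_pos H P.unit_A h)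
      (resV_unit_neg H (P.unit_X r) (by omega))
    have := dot_le_dot hdH h1
    rw [deg_resV] at this
    omega
  · have := hnY eY
    obtain ⟨h1, -⟩ := split_le hdH P₀.unit_A (P₀.unit_X r) (P₀.A_X r)
      (by omega) (by omega) hsum (resV_unit_pos H P.unit_A h)
      (resV_unit_neg H (P.unit_X r) (by omega))
    have := dot_le_dot hdH h1
    rw [deg_resV] at this
    omega
  · have := hpY eY
    obtain ⟨-, h2⟩ := split_le hdH (P₀.unit_X r) P₀.unit_A ((dot_comm _ _).trans (P₀.A_X r))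
      (by omega) (by omega) (by rw [add_comm, hsum, add_comm])
      (resV_unit_pos H (P.unit_X r) (by omega)) (resV_unit_neg H P.unit_A h)
    have := dot_le_dot hdH h2
    rw [deg_resV] at this
    omega
  · have := hnY eY
    obtain ⟨-, h2⟩ := split_le hdH P₀.unit_A (P₀.unit_X r) (P₀.A_X r)
      (by omega) (by omega) (by rw [add_comm, hsum])
      (resV_unit_pos H (P.unit_X r) (by omega)) (resV_unit_neg H P.unit_A h)
    have := dot_le_dot hdH h2
    rw [deg_resV] at this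
    omega

theorem b_le (j : D.JIdx) (hneg : dot deg (P.b j) < 0) (hneg₀ : dot deg (P₀.b j) < -1) :
    ∀ i, -P₀.b j i ≤ -resV H (P.b j) i := by
  have db : dot deg (P.b j) = dot deg P.U - 1 := P.deg_b j
  have db₀ : dot deg (P₀.b j) = dot deg P₀.U - 1 := P₀.deg_b j
  have hU : dot deg P.U ≠ 0 := (A.config hP).deg_unit_ne P.unit_U
  exact (split_le (fun i => deg_pos (G := H) i) (a := -P₀.b j) (b := P₀.U)
    (by simp only [IsUnitVec, dot_neg_left, dot_neg_right, neg_neg]; exact P₀.unit_b j) P₀.unit_U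
    (by rw [dot_neg_left, P₀.b_U, neg_zero]) (by rw [dot_neg_right]; omega) (by omega)
    (u := -resV H (P.b j)) (v := resV H P.U) (by rw [add_comm, res_Ub hR P P₀ j, add_comm])
    (fun i => by
      rw [Pi.neg_apply]
      have := resV_unit_neg H (P.unit_b j) hneg i
      omega)
    (resV_unit_neg H P.unit_U (by omega))).1

theorem core_le_of_regular (hm : D.m = 1) {p e : ℕ} [Fact p.Prime] (he : 1 ≤ e)
    (hq : D.q = p ^ e)
    (hreg : 3 * padicValNat p (Nat.card B.C) ≤ padicValNat p (Nat.card H) +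
      2 * padicValNat p (Nat.card (centralizer ({B.tC} : Set B.C))))
    (hrep : 5 ≤ D.q → ∀ (d : ℕ) (ρ : Representation ℂ H (Fin d → ℂ)), d < 2 * D.q → ρ B.z = 1) :
    (Cfsg.oddCore H).map H.subtype ≤ Cfsg.oddCore G := by
  haveI : M.IsPrime := hM.2.1.isPrime
  have hI : A.Inputs := Main.hasInputs A hP
  have hI₀ : B.Inputs := Main.hasInputs B hP
  obtain ⟨j, hj, hx₀, hb₀, hE⟩ := exists_odd_deg hR P P₀ hM hm he hq hreg
  have hq3 : (3 : ℤ) ≤ D.q := by have := D.hq.2; omega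
  have hYq : D.Y = (D.q : ℤ) ∨ D.Y = -(D.q : ℤ) := by
    rw [Cen.Y]; rcases D.hε with e | e <;> rw [e] <;> omega
  have hY2 : D.Y ^ 2 = (D.q : ℤ) ^ 2 := by rcases hYq with e | e <;> rw [e]; ring
  obtain ⟨hxp, hxn⟩ := deg_A_bounds hR P P₀ hM hq3 hx₀
  have hA : dot deg P.A ≠ 0 := (A.config hP).deg_unit_ne P.unit_A
  have hbneg : dot deg (P.b j) < 0 := by
    refine b_neg hq3 (by rw [← hY2]; exact hE) (fun h => ?_) (fun h => ?_) hA
    · have := hxp h
      rcases hYq with e | e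
      · exact this.1 e
      · have := this.2 e; omega
    · have := hxn h
      rcases hYq with e | e
      · exact this.1 e
      · have := this.2 e; omega
  have hYpos : 2 ≤ D.Y ^ 2 + D.Y + 1 := by
    rw [hY2]; rcases hYq with e | e <;> rw [e] <;> nlinarith
  have h1 := b_le hR P P₀ hM j hbneg (by omega)
  have hble : dot deg (P.b j) ≤ -(D.Y ^ 2 + D.Y + 1) := by
    have : dot deg (-P₀.b j) ≤ dot deg (-resV H (P.b j)) := dot_le_dot (fun i => deg_pos i) h1
    rw [dot_neg_right, dot_neg_right, deg_resV, hb₀] at this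
    omega
  obtain ⟨hlt, heqY⟩ := deg_bound hq3 hYq hE hxp hxn hA hble
  -- the constituents
  obtain ⟨χ, s, hs, hbχ⟩ := (P.unit_b j).exists_single
  obtain ⟨χ₀, t, ht, hbχ₀⟩ := (P₀.unit_b j).exists_single
  obtain rfl : s = -1 := hs.resolve_left fun es => by
    rw [hbχ, es, dot_single_deg] at hbneg; have := deg_pos χ; omega
  obtain rfl : t = -1 := ht.resolve_left fun et => by
    rw [hbχ₀, et, dot_single_deg] at hb₀; have := deg_pos χ₀; omega
  have hd : deg χ - deg χ₀ = -(D.Y ^ 2 + D.Y + 1) - dot deg (P.b j) := by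
    rw [← hb₀, hbχ, hbχ₀, dot_single_deg, dot_single_deg]; ring
  have hle : 1 ≤ co (res1 H χ) χ₀ := by
    have := h1 χ₀
    rw [hbχ₀, hbχ, resV_single, neg_one_smul, Pi.single_eq_same,
      Pi.neg_apply] at this
    omega
  have hvb : Amb.valv (P.b j) A.z = (D.Y : ℂ) := ((Amb.val_bc P hI hM j).1 hj).1
  have hvb₀ : Amb.valv (P₀.b j) B.z = (D.Y : ℂ) := ((Amb.val_bc P₀ hI₀ hM j).1 hj).1
  have hz : (χ : G → ℂ) (B.z : H) = (χ₀ : H → ℂ) B.z := by
    rw [hR.z_eq]
    have e1 := hvb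
    have e2 := hvb₀
    rw [hbχ, Amb.valv, Amb.sum_single_mul] at e1
    rw [hbχ₀, Amb.valv, Amb.sum_single_mul] at e2
    push_cast at e1 e2
    linear_combination -e1 + e2
  have hfun := res_eq_of_small χ χ₀ hle hz (by
    by_cases eY : D.Y = (D.q : ℤ)
    · exact Or.inl (by have := heqY eY; omega)
    · refine Or.inr fun d ρ hdρ => hrep ?_ d ρ (by omega)
      obtain ⟨k, -, hk⟩ := D.hY.1 hm
      have hM3 : 3 ≤ D.M := by rcases D.hmM with ⟨-, h, -⟩ | ⟨h, -⟩ <;> omega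
      obtain ⟨M', hM'⟩ : ∃ M', D.M - 1 = M' + 2 := ⟨D.M - 3, by omega⟩
      rw [hM', show (2 : ℤ) ^ (M' + 2) * k = 4 * (2 ^ M' * k) by ring] at hk
      have hYneg := hYq.resolve_left eY
      rw [Cen.Y] at hYneg
      omega)
  refine core_le A.conj_z hM (P.unit_b j) ((Amb.shape_inBlock P₀ hM).2.2.1 j)
    (fun h => ?_) ?_
  · rw [hbχ, hbχ₀, Amb.valv, Amb.valv, Amb.sum_single_mul, Amb.sum_single_mul, hfun h]
  · rw [hvb]
    intro h
    have h' : D.Y = dot deg (P.b j) := by exact_mod_cast h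
    rcases hYq with e | e <;> nlinarith

end Cases

section Top

/-- An almost simple group over `M₁₁` is `M₁₁`. -/
theorem top_of_m11 {E : Type u} [Group E] [Finite E] (hO : Cfsg.oddCore E = ⊥) (L : Subgroup E)
    [L.Normal] (hLo : Odd L.index) [IsSimpleGroup L] (hna : ¬ IsMulCommutative L)
    (e : L ≃* Cfsg.Spor.M11) : L = ⊤ := by
  have hbot : Subgroup.centralizer (L : Set E) = ⊥ := by
    set C := Subgroup.centralizer (L : Set E)
    have hCL : C ⊓ L = ⊥ := by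
      rcases (inferInstance : ((C ⊓ L).subgroupOf L).Normal).eq_bot_or_eq_top with h | h
      · rw [Subgroup.subgroupOf_eq_bot] at h
        exact eq_bot_iff.2 fun g hg => h.le_bot ⟨hg, hg.2⟩
      · exfalso
        refine hna ⟨⟨fun a b => Subtype.ext ?_⟩⟩
        have ha : a ∈ (C ⊓ L).subgroupOf L := h ▸ Subgroup.mem_top a
        exact ((Subgroup.mem_centralizer_iff.1 (Subgroup.mem_subgroupOf.1 ha).1) b b.2).symm
    have hC : Odd (Nat.card C) := by
      refine hLo.of_dvd_nat ?_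
      have hinj : Function.Injective ((QuotientGroup.mk' L).comp C.subtype) := by
        refine (injective_iff_map_eq_one _).2 fun c hc => Subtype.ext ?_
        have : (c : E) ∈ C ⊓ L := ⟨c.2, (QuotientGroup.eq_one_iff _).1 hc⟩
        rw [hCL] at this
        exact Subgroup.mem_bot.1 this
      rw [Subgroup.index_eq_card, Nat.card_congr (MonoidHom.ofInjective hinj).toEquiv]
      exact Subgroup.card_subgroup_dvd_card _
    exact eq_bot_iff.2 (hO ▸ DGroup.le_oddCore inferInstance hC)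
  have hinn : Cfsg.Inn Cfsg.Spor.M11 = ⊤ := by
    rw [← Subgroup.index_eq_one, Subgroup.index_eq_card]
    exact CfsgLib.M11Out.card_out
  refine eq_top_iff.2 fun g _ => ?_
  obtain ⟨m, hm⟩ : e.symm.trans ((MulAut.conjNormal g).trans e) ∈ Cfsg.Inn Cfsg.Spor.M11 :=
    hinn ▸ Subgroup.mem_top _
  have hl : ((e.symm m : L) : E)⁻¹ * g ∈ Subgroup.centralizer (L : Set E) := by
    rw [Subgroup.mem_centralizer_iff]
    intro x hx
    have h1 := congrArg (fun a => e.symm a) (DFunLike.congr_fun hm (e ⟨x, hx⟩))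
    simp only [MulAut.conj_apply, MulEquiv.trans_apply, MulEquiv.symm_apply_apply, map_mul,
      map_inv] at h1
    have h2 := congrArg Subtype.val h1
    simp only [Subgroup.coe_mul, InvMemClass.coe_inv, MulAut.conjNormal_apply] at h2
    calc x * (((e.symm m : L) : E)⁻¹ * g)
        = ((e.symm m : L) : E)⁻¹ * (((e.symm m : L) : E) * x * ((e.symm m : L) : E)⁻¹) * g := by
          group
      _ = ((e.symm m : L) : E)⁻¹ * g * x := by rw [h2]; group
  rw [hbot, Subgroup.mem_bot, inv_mul_eq_one] at hl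
  exact hl ▸ (e.symm m).2

/-- The statement of S3119 from the table. -/
theorem weakly_embedded (hT : TableQD.{u}) {G : Type u} [Group G] [Finite G] (S : Sylow 2 G)
    (hS : Cfsg.IsQuasiDihedral (S : Subgroup G) ∨ Cfsg.IsWreathed (S : Subgroup G))
    (h2 : ∀ N : Subgroup G, N.index ≠ 2) (H : Subgroup G) (hev : ∃ y ∈ H, orderOf y = 2)
    (h1 : ∀ y ∈ H, ∀ y' ∈ H, orderOf y = 2 → orderOf y' = 2 → ∃ h ∈ H, h * y * h⁻¹ = y')
    (hcov : ∀ y ∈ H, orderOf y = 2 → ∀ c ∈ centralizer ({y} : Set G),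
      ∃ h ∈ H ⊓ centralizer ({y} : Set G), ∃ o ∈ Cfsg.centralizerPPrimeCore 2 y, c = h * o)
    (hK : Cfsg.IsCompositionKGroup H) (hM11 : ¬ Cfsg.Spor.IsoM11 (H ⧸ Cfsg.oddCore H)) :
    (Cfsg.oddCore H).map H.subtype ≤ Cfsg.oddCore G := by
  classical
  haveI : Fact (Nat.Prime 2) := ⟨Nat.prime_two⟩
  haveI : Fintype G := Fintype.ofFinite G
  haveI : Fintype H := Fintype.ofFinite H
  obtain ⟨y, hy, hoy⟩ := hev
  obtain ⟨S', hSH, hyS, hyc, hS'⟩ := exists_sylow_le S hS h2 H hy hoy (hcov y hy hoy)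
  obtain ⟨Q, iQ, iFQ, D, A, F, iF, iFF, hAz, hq, hP, -, hm2, hm1, -, hQ, ⟨eQ⟩⟩ :=
    AmbExists.exists_amb_of_local_core (fun S W => Local.exists_cen_wreathed S W)
      (fun S W => Local.exists_cen_qd S W) S' hS' h2 hoy hyS hyc
  obtain ⟨B, hR⟩ := exists_sub A H hq eQ hQ (hAz.symm ▸ hy) h1
    (fun c hc => by
      have hc' : c ∈ centralizer ({y} : Set G) := hAz ▸ hc
      obtain ⟨h, hh, o, ho, e⟩ := hcov y hy hoy c hc'
      exact ⟨h, by rw [Amb.C, hAz]; exact hh, o, by rw [hAz]; exact ho, e⟩)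
    S' hSH (fun s hs => by
      rw [Subgroup.mem_centralizer_singleton_iff, hAz]; exact hyc s hs)
  letI := irrFintype (G := G)
  letI := irrFintype (G := H)
  obtain ⟨M, hM⟩ := exists_isPModular Nat.prime_two
  obtain ⟨P⟩ := A.nonempty_shape hP
  obtain ⟨P₀⟩ := B.nonempty_shape hP
  rcases hS' with hqd | hwr
  swap
  · exact core_le_of_two_le hR P P₀ hM (hm2 hwr)
  -- the semidihedral case
  haveI : (Cfsg.oddCore H).Normal := DGroup.normal_oddCore H
  set π := QuotientGroup.mk' (Cfsg.oddCore H) with hπdef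
  have hπ : Function.Surjective π := QuotientGroup.mk'_surjective _
  obtain ⟨T, eT, -⟩ := AmbExists.exists_sylow_core S' H hSH
  have hTqd : Cfsg.IsQuasiDihedral (T : Subgroup (H ⧸ Cfsg.oddCore H)) :=
    InvolPattern.isQuasiDihedral_congr eT hqd
  have hN2 : ∀ N : Subgroup (H ⧸ Cfsg.oddCore H), N.index ≠ 2 := fun N hN =>
    B.no_index_two (N.comap π) (by rw [Subgroup.index_comap_of_surjective _ hπ, hN])
  obtain ⟨L, hLn, hLo, hLs, hLna⟩ := CfsgLib.FusionSimple.exists_simple_normal LocalB.oddCore_quotient hN2 T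
    (Or.inl hTqd)
  haveI := hLn
  haveI := hLs
  have hmemL : ∀ (w : H ⧸ Cfsg.oddCore H), (∃ j : ℕ, orderOf w = 2 ^ j) → w ∈ L := by
    rintro w ⟨j, hj⟩
    refine (QuotientGroup.eq_one_iff w).1 (orderOf_eq_one_iff.1 ?_)
    have hd : orderOf (w : (H ⧸ Cfsg.oddCore H) ⧸ L) ∣ 2 ^ j :=
      hj ▸ orderOf_map_dvd (QuotientGroup.mk' L) w
    have hd2 : orderOf (w : (H ⧸ Cfsg.oddCore H) ⧸ L) ∣ L.index := by
      rw [Subgroup.index_eq_card]; exact orderOf_dvd_natCard _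
    exact Nat.eq_one_of_dvd_coprimes ((Nat.coprime_two_left.2 hLo).pow_left j) hd hd2
  have hTL : (T : Subgroup (H ⧸ Cfsg.oddCore H)) ≤ L := fun w hw => hmemL w (by
    obtain ⟨j, hj⟩ := IsPGroup.iff_orderOf.1 T.2 ⟨w, hw⟩
    exact ⟨j, by rw [← hj, Subgroup.orderOf_mk]⟩)
  have hLqd : Cfsg.IsQuasiDihedral ((T.subtype hTL : Sylow 2 L) : Subgroup L) :=
    InvolPattern.isQuasiDihedral_congr (Subgroup.subgroupOfEquivOfLe hTL).symm hTqd
  -- the preimage
  let φ : L.comap π →* L := π.subgroupComap L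
  have hφ : Function.Surjective φ := MonoidHom.subgroupComap_surjective_of_surjective _ _ hπ
  have hker : Odd (Nat.card φ.ker) := by
    refine (DGroup.odd_oddCore H).of_dvd_nat ?_
    rw [← Subgroup.card_map_of_injective (K := φ.ker) (L.comap π).subtype_injective]
    refine Subgroup.card_dvd_of_le ?_
    rintro _ ⟨w, hw, rfl⟩
    exact (QuotientGroup.eq_one_iff _).1 (congrArg Subtype.val hw)
  have eL : (L.comap π) ⧸ φ.ker ≃* L := QuotientGroup.quotientKerEquivOfSurjective φ hφ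
  have hknown : Cfsg.IsKnownSimple' L := by
    refine CfsgLib.KGroup.isKnownSimple'_of_mulEquiv eL ?_
    haveI := eL.isSimpleGroup
    exact hK (L.comap π) (Subgroup.Normal.isSubnormal inferInstance) φ.ker inferInstance
      (CfsgLib.KGroup.not_isMulCommutative_of_mulEquiv eL hLna)
  rcases hT hLna hknown (T.subtype hTL) hLqd with ⟨p, e, hD⟩ | ⟨⟨e11⟩⟩
  swap
  · exfalso
    have htop := top_of_m11 LocalB.oddCore_quotient L hLo hLna e11
    exact hM11 ⟨(Subgroup.topEquiv.symm.trans (MulEquiv.subgroupCongr htop.symm)).trans e11⟩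
  haveI := Fact.mk hD.prime
  let SH : Sylow 2 H := S'.subtype hSH
  obtain ⟨hFc, hreg⟩ := regular_of_dim3 B SH
    (InvolPattern.isQuasiDihedral_congr (Subgroup.subgroupOfEquivOfLe hSH).symm hqd) hQ
    (hq ▸ D.hq.1) eQ hLo hD
  refine core_le_of_regular hR P P₀ hM (hm1 hqd) hD.one_le (hq.trans hFc) hreg fun h5 d ρ hd => ?_
  have hzL : B.z ∈ L.comap π := hmemL _ (by
    obtain ⟨i, -, hi⟩ := (Nat.dvd_prime_pow Nat.prime_two).1
      ((orderOf_map_dvd π B.z).trans (by rw [B.order_z, pow_one]) : orderOf (π B.z) ∣ 2 ^ 1)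
    exact ⟨i, hi⟩)
  rw [hq, hFc] at h5 hd
  exact minrep hLna hD h5 φ hφ hker (ρ.comp (L.comap π).subtype) hd
    (z := ⟨B.z, hzL⟩) (by rw [Subgroup.orderOf_mk]; exact B.order_z)

end Top

end CfsgLib.OrderFormula.Weak
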