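import Cfsg.Agent.OrderFormula.Weak.TableLie
import Cfsg.Agent.OrderFormula.Weak.Spor.Main
import Cfsg.Agent.OrderFormula.Weak.Dim3

/-!
# The known simple groups with semidihedral Sylow 2-subgroups
-/

set_option autoImplicit false

namespace CfsgLib.OrderFormula.Weak

open Cfsg

universe u

/-- The known simple groups with semidihedral Sylow 2-subgroups. -/
theorem tableQD : TableQD.{u} := by
  intro K _ _ _ hK hk S hS
  rcases (by simpa only [Cfsg.IsKnownSimple', or_assoc] using hk : _) with h | h | h | h | h | h | h | h | h | h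
  all_goals first
    | exact Or.inr (Spor26.table_spor_all hK h S hS)
    | skip
  all_goals
    rcases table_lie hK (by tauto) S hS with ⟨F, iF, iFF, hodd, ⟨f⟩⟩ | ⟨F, iF, iFF, q, hF, hq, ⟨f⟩⟩
    · exact Or.inl (dim3_psl hodd f)
    · exact Or.inl (dim3_psu hF hq f)

end CfsgLib.OrderFormula.Weak
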