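import Cfsg.Agent.OrderFormula.Weak.WitnessBasic
import Cfsg.Agent.TwoRankThree.Classical
import Cfsg.Agent.CTwoAbelian.Linear
import Cfsg.Agent.S2235
import Cfsg.Agent.S2236
import Cfsg.Agent.S2237

/-!
# Classical groups: witnesses against semidihedral Sylow 2-subgroups
-/

set_option autoImplicit false
set_option linter.style.haveILetI false
set_option linter.unusedSectionVars false

namespace CfsgLib.OrderFormula.Weak

open Matrix Subgroup
open scoped MatrixGroups

variable {F : Type} [Field F]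

/-- A witness in a central quotient. -/
theorem witness_quot_four {H : Type*} [Group H] {a b : H} (hab : Commute a b) (ha : a ^ 4 = 1)
    (ha2 : a ^ 2 ∉ center H) (hb : b ^ 2 ∈ center H) (hb1 : b ∉ center H)
    (hne : b⁻¹ * a ^ 2 ∉ center H) : TwoWitness (H ⧸ center H) := by
  refine witness_of_four (a := (a : H ⧸ center H)) (b := (b : H ⧸ center H)) ?_ ?_
    (hab.map (QuotientGroup.mk' _)) ?_ ?_ ?_
  · rw [← QuotientGroup.mk_pow, ha, QuotientGroup.mk_one]
  · rwa [← QuotientGroup.mk_pow, Ne, QuotientGroup.eq_one_iff]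
  · rwa [← QuotientGroup.mk_pow, QuotientGroup.eq_one_iff]
  · rwa [Ne, QuotientGroup.eq_one_iff]
  · rwa [← QuotientGroup.mk_pow, Ne, QuotientGroup.eq]

/-! ### Linear and unitary groups of degree at least four -/

/-- Two commuting quarter turns. -/
def jjMat : SL(4, F) := ⟨!![0, -1, 0, 0; 1, 0, 0, 0; 0, 0, 0, -1; 0, 0, 1, 0], by
  simp [Matrix.det_succ_row_zero, Fin.sum_univ_succ, Fin.succAbove]⟩

/-- Weight vectors of the diagonal four-group. -/
def wdiag (v : Fin 3 → ZMod 2) (i : ℕ) : ZMod 2 :=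
  if i = 0 then v 0 else if i = 1 then v 1 else if i = 2 then v 2 else
    if i = 3 then v 0 + v 1 + v 2 else 0

theorem wdiag_sum {n : ℕ} (v : Fin 3 → ZMod 2) : ∑ i : Fin (n + 4), wdiag v i = 0 := by
  rw [Fin.sum_univ_succ, Fin.sum_univ_succ, Fin.sum_univ_succ, Fin.sum_univ_succ,
    Finset.sum_eq_zero (fun i _ => by simp [wdiag]), add_zero]
  have : ∀ a b c : ZMod 2, a + (b + (c + (a + b + c))) = 0 := by decide
  simp only [Fin.val_succ, Fin.val_zero, wdiag]
  simpa using this (v 0) (v 1) (v 2)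

/-- The sign of a parity. -/
def sgnF (x : ZMod 2) : F := if x = 0 then 1 else -1

theorem sgnF_add (x y : ZMod 2) : (sgnF (x + y) : F) = sgnF x * sgnF y := by
  have h : ∀ z : ZMod 2, z = 0 ∨ z = 1 := by decide
  have h11 : (1 + 1 : ZMod 2) = 0 := rfl
  rcases h x with rfl | rfl <;> rcases h y with rfl | rfl <;> simp [sgnF, h11]

theorem sgnF_sum {ι : Type*} (s : Finset ι) (w : ι → ZMod 2) :
    ∏ i ∈ s, (sgnF (w i) : F) = sgnF (∑ i ∈ s, w i) := by
  refine Finset.cons_induction (by simp [sgnF]) (fun a s ha ih => ?_) s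
  rw [Finset.prod_cons, Finset.sum_cons, ih, sgnF_add]

theorem witness_diag {n : ℕ} (h2 : (2 : F) ≠ 0) (hn : 5 ≤ n) {H : Type*} [Group H]
    (ι : H →* SL(n, F)) (hι : Function.Injective ι)
    (hscal : ∀ h ∈ center H, ∃ r : F, (ι h).1 = r • (1 : Matrix (Fin n) (Fin n) F))
    (hmem : ∀ (d : Fin n → F) (hd : (diagonal d).det = 1), (∀ i, d i = 1 ∨ d i = -1) →
      (⟨diagonal d, hd⟩ : SL(n, F)) ∈ ι.range) :
    TwoWitness (H ⧸ center H) := by
  obtain ⟨k, rfl⟩ : ∃ k, n = k + 4 := ⟨n - 4, by omega⟩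
  let d : (Fin 3 → ZMod 2) → Fin (k + 4) → F := fun v i => sgnF (wdiag v i)
  have hd : ∀ v, (diagonal (d v)).det = 1 := fun v => by
    rw [det_diagonal, sgnF_sum, wdiag_sum]
    simp [sgnF]
  choose f hf using fun v => hmem (d v) (hd v) (fun i => by simp only [d, sgnF]; split_ifs <;> simp)
  refine Or.inl (CfsgLib.TwoRankThree.of_add_mod_center f (fun v w => ?_) (fun v hv => ?_)
    CfsgLib.TwoRankThree.zmod_pi_add_self CfsgLib.TwoRankThree.zmod_pi_card)
  · refine hι (Subtype.ext ?_)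
    rw [map_mul, hf, hf, hf]
    show diagonal (d (v + w)) = diagonal (d v) * diagonal (d w)
    rw [diagonal_mul_diagonal]
    refine congrArg _ (funext fun i => ?_)
    simp only [d, ← sgnF_add]
    refine congrArg _ ?_
    simp only [wdiag, Pi.add_apply]
    split_ifs <;> first | rfl | simp [add_add_add_comm] | abel
  · obtain ⟨r, hr⟩ := hscal _ hv
    rw [hf] at hr
    have he : ∀ i : Fin (k + 4), d v i = r := fun i => by
      have := congrFun (congrFun hr i) i
      simpa using this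
    have hr1 : r = 1 := by rw [← he ⟨4, by omega⟩]; simp [d, wdiag, sgnF]
    have key : ∀ x : ZMod 2, (sgnF x : F) = 1 → x = 0 := fun x hx => by
      by_contra h0
      rw [sgnF, if_neg h0] at hx
      exact h2 (by linear_combination -hx)
    funext j
    fin_cases j
    · exact key _ ((he ⟨0, by omega⟩).trans hr1)
    · exact key _ ((he ⟨1, by omega⟩).trans hr1)
    · exact key _ ((he ⟨2, by omega⟩).trans hr1)

theorem witness_four_dim (h2 : (2 : F) ≠ 0) {H : Type*} [Group H]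
    (ι : H →* SL(4, F)) (hι : Function.Injective ι)
    (hscal : ∀ h ∈ center H, ∃ r : F, (ι h).1 = r • (1 : Matrix (Fin 4) (Fin 4) F))
    (hcen : ∀ h : H, (ι h).1 = -1 → h ∈ center H)
    (hA : (CfsgLib.CTwoAbelian.qA : SL(4, F)) ∈ ι.range) (hJ : (jjMat : SL(4, F)) ∈ ι.range) :
    TwoWitness (H ⧸ center H) := by
  obtain ⟨a, ha⟩ := hA
  obtain ⟨b, hb⟩ := hJ
  have h4 := (CfsgLib.CTwoAbelian.q_rels (F := F) h2).1
  have e2 : (ι (a ^ 2)).1 = !![-1, 0, 0, 0; 0, -1, 0, 0; 0, 0, 1, 0; 0, 0, 0, 1] := by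
    rw [map_pow, ha, pow_two]
    show (CfsgLib.CTwoAbelian.qA : SL(4, F)).1 * (CfsgLib.CTwoAbelian.qA : SL(4, F)).1 = _
    ext i j
    fin_cases i <;> fin_cases j <;>
      simp [CfsgLib.CTwoAbelian.qA, Matrix.mul_apply, Fin.sum_univ_four]
  refine witness_quot_four (a := a) (b := b) ?_ ?_ ?_ ?_ ?_ ?_
  · refine hι (Subtype.ext ?_)
    rw [map_mul, map_mul, ha, hb]
    show (CfsgLib.CTwoAbelian.qA : SL(4, F)).1 * (jjMat : SL(4, F)).1 =
      (jjMat : SL(4, F)).1 * (CfsgLib.CTwoAbelian.qA : SL(4, F)).1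
    ext i j
    fin_cases i <;> fin_cases j <;>
      simp [CfsgLib.CTwoAbelian.qA, jjMat, Matrix.mul_apply, Fin.sum_univ_four]
  · refine hι ?_
    rw [map_pow, ha, h4, map_one]
  · intro hc
    obtain ⟨r, hr⟩ := hscal _ hc
    rw [e2] at hr
    have p := congrFun (congrFun hr 0) 0
    have p' := congrFun (congrFun hr 2) 2
    simp at p p'
    exact h2 (by linear_combination p' - p)
  · refine hcen _ ?_
    rw [map_pow, hb, pow_two]
    show (jjMat : SL(4, F)).1 * (jjMat : SL(4, F)).1 = -1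
    ext i j
    fin_cases i <;> fin_cases j <;> simp [jjMat, Matrix.mul_apply, Fin.sum_univ_four]
  · intro hc
    obtain ⟨r, hr⟩ := hscal _ hc
    rw [hb] at hr
    have p := congrFun (congrFun hr 1) 0
    simp [jjMat] at p
  · intro hc
    obtain ⟨r, hr⟩ := hscal _ hc
    have e : (ι (a ^ 2)).1 = (ι b).1 * (r • (1 : Matrix (Fin 4) (Fin 4) F)) := by
      rw [← hr]
      show _ = (ι b * ι (b⁻¹ * a ^ 2)).1
      rw [← map_mul, mul_inv_cancel_left]
    rw [e2, hb] at e
    have p := congrFun (congrFun e 0) 0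
    simp [jjMat, Matrix.mul_apply, Fin.sum_univ_four] at p

theorem witness_psl {n : ℕ} (h2 : (2 : F) ≠ 0) (hn : 4 ≤ n) :
    TwoWitness (Matrix.ProjectiveSpecialLinearGroup (Fin n) F) := by
  have hs : ∀ h ∈ center SL(n, F), ∃ r : F, (h : SL(n, F)).1 = r • (1 : Matrix (Fin n) (Fin n) F) :=
    fun h hh => by
      obtain ⟨r, -, hr⟩ := Matrix.SpecialLinearGroup.mem_center_iff.mp hh
      exact ⟨r, by rw [← hr, Matrix.scalar_apply, Matrix.smul_one_eq_diagonal]⟩
  rcases eq_or_lt_of_le hn with rfl | h5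
  · refine witness_four_dim h2 (MonoidHom.id _) Function.injective_id hs ?_ ⟨_, rfl⟩ ⟨_, rfl⟩
    intro h e
    replace e : h.1 = -1 := e
    refine Subgroup.mem_center_iff.2 fun B => Subtype.ext ?_
    show B.1 * h.1 = h.1 * B.1
    rw [e, mul_neg, neg_mul, mul_one, one_mul]
  · exact witness_diag h2 h5 (MonoidHom.id _) Function.injective_id hs fun d hd _ => ⟨_, rfl⟩

theorem witness_psu [Fintype F] {n q : ℕ} (h2 : (2 : F) ≠ 0) (hF : Fintype.card F = q ^ 2)
    (hq : Odd q) (hn : 4 ≤ n) : TwoWitness (Cfsg.PSU n F q) := by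
  have hF' : Nat.card F = q ^ 2 := by rw [Nat.card_eq_fintype_card, hF]
  have hs : ∀ h ∈ center (Cfsg.SU n F q),
      ∃ r : F, ((Cfsg.SU n F q).subtype h).1 = r • (1 : Matrix (Fin n) (Fin n) F) :=
    fun h hh => (CfsgLib.Unitary.mem_center_SU_iff hF' (by omega)).mp hh
  rcases eq_or_lt_of_le hn with rfl | h5
  · refine witness_four_dim h2 (Cfsg.SU 4 F q).subtype Subtype.val_injective hs ?_ ?_ ?_
    · intro h e
      refine (CfsgLib.Unitary.mem_center_SU_iff hF' (by omega)).mpr ⟨-1, ?_⟩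
      have e' : (h : SL(4, F)).1 = -1 := e
      exact e'.trans (neg_one_smul F _).symm
    · refine ⟨⟨_, fun u v => ?_⟩, rfl⟩
      show Cfsg.hermForm 4 F q ((CfsgLib.CTwoAbelian.qA : SL(4, F)).1 *ᵥ u)
        ((CfsgLib.CTwoAbelian.qA : SL(4, F)).1 *ᵥ v) = _
      simp [CfsgLib.CTwoAbelian.qA, Cfsg.hermForm, Matrix.mulVec, dotProduct, Fin.sum_univ_four,
        hq.neg_pow]
      ring
    · refine ⟨⟨_, fun u v => ?_⟩, rfl⟩
      show Cfsg.hermForm 4 F q ((jjMat : SL(4, F)).1 *ᵥ u) ((jjMat : SL(4, F)).1 *ᵥ v) = _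
      simp [jjMat, Cfsg.hermForm, Matrix.mulVec, dotProduct, Fin.sum_univ_four, hq.neg_pow]
      ring
  · refine witness_diag h2 h5 (Cfsg.SU n F q).subtype Subtype.val_injective hs fun d hd hpm => ?_
    refine ⟨⟨⟨diagonal d, hd⟩, fun u v => ?_⟩, rfl⟩
    show Cfsg.hermForm n F q (diagonal d *ᵥ u) (diagonal d *ᵥ v) = _
    simp only [Cfsg.hermForm, mulVec_diagonal]
    refine Finset.sum_congr rfl fun i _ => ?_
    rcases hpm i with e | e <;> rw [e]
    · rw [one_mul, one_mul]
    · rw [neg_one_mul, neg_one_mul, hq.neg_pow, neg_mul_neg]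

/-- A transvection group and an element of order four in `U₃(4)`. -/
theorem witness_psu_three_even [Fintype F] [CharP F 2] {q : ℕ} (hF : Fintype.card F = q ^ 2)
    (hq : 3 ≤ q) (hpp : IsPrimePow q) : TwoWitness (Cfsg.PSU 3 F q) := by
  have hF' : Nat.card F = q ^ 2 := by rw [Nat.card_eq_fintype_card, hF]
  obtain ⟨φ, hφ⟩ := CfsgLib.Chev.exists_frob hpp hF two_pos
  obtain ⟨g, hg⟩ := CfsgLib.Unitary.exists_trace_eq hF' (μ := 1) (one_pow q)
  rw [← hφ] at hg
  have h2 : (2 : F) = 0 := CharTwo.two_eq_zero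
  obtain ⟨⟨t, ht⟩, ht0, ht1⟩ : ∃ t : {x : F // x ^ q = x}, t.1 ≠ 0 ∧ t.1 ≠ 1 := by
    classical
    by_contra hno
    simp only [not_exists, not_and, ne_eq, not_not] at hno
    have hsub : Nat.card {x : F // x ^ q = x} ≤ Nat.card ({0, 1} : Set F) :=
      Nat.card_le_card_of_injective (fun x => ⟨x.1, by
        by_cases h : x.1 = 0
        · simp [h]
        · simp [hno x h]⟩) fun x y h => Subtype.ext (Subtype.mk.inj h)
    rw [CfsgLib.Invol.U3Center.card_fixed hF', Nat.card_coe_set_eq, Set.ncard_pair zero_ne_one] at hsub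
    omega
  let N : Matrix (Fin 3) (Fin 3) F := !![1 + g, g, 1; g, 1 + g, 1; 1, 1, 1]
  let M : F → Matrix (Fin 3) (Fin 3) F := fun s => !![1 + s, s, 0; s, 1 + s, 0; 0, 0, 1]
  have hNN : N * N = M 1 := by
    ext i j
    fin_cases i <;> fin_cases j <;> simp [N, M, Matrix.mul_apply, Fin.sum_univ_three] <;>
      first | linear_combination (g + g * g) * h2 | linear_combination (g * g + g + 1) * h2 |
        linear_combination h2 | linear_combination (1 + g) * h2 | linear_combination g * h2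
  have hMM : ∀ s, M s * M s = 1 := fun s => by
    ext i j
    fin_cases i <;> fin_cases j <;> simp [M, Matrix.mul_apply, Fin.sum_univ_three] <;>
      first | linear_combination (s + s * s) * h2 | linear_combination (s + s ^ 2) * h2
  have hdN : N.det = 1 := by
    have h1 : N.det * N.det = 1 := by
      rw [← det_mul, hNN]
      exact CfsgLib.TwoRankThree.det_eq_one_of_sq (hMM 1)
    have h3 : (N.det - 1) * (N.det - 1) = 0 := by linear_combination h1 + (1 - N.det) * h2
    exact sub_eq_zero.mp (mul_self_eq_zero.mp h3)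
  have hN : (⟨N, hdN⟩ : SL(3, F)) ∈ Cfsg.SU 3 F q := fun u v => by
    show Cfsg.hermForm 3 F q (N *ᵥ u) (N *ᵥ v) = _
    simp [N, Cfsg.hermForm, Matrix.mulVec, dotProduct, Fin.sum_univ_three, ← hφ, map_add, map_mul,
      map_one]
    linear_combination (u 0 + u 1) * (φ (v 0) + φ (v 1)) * hg +
      ((u 0 + u 1) * (φ (v 0) + φ (v 1)) + (u 0 + u 1) * φ (v 2) + u 2 * (φ (v 0) + φ (v 1)) +
        (g * (u 0 + u 1) + u 2) * (φ g * (φ (v 0) + φ (v 1)) + φ (v 2))) * h2
  have hM : (⟨M t, CfsgLib.TwoRankThree.det_eq_one_of_sq (hMM t)⟩ : SL(3, F)) ∈ Cfsg.SU 3 F q :=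
    fun u v => by
    show Cfsg.hermForm 3 F q (M t *ᵥ u) (M t *ᵥ v) = _
    have hφt : φ t = t := (hφ t).trans ht
    simp [M, Cfsg.hermForm, Matrix.mulVec, dotProduct, Fin.sum_univ_three, ← hφ, map_add, map_mul,
      map_one, hφt]
    linear_combination (t + t * t) * (u 0 + u 1) * (φ (v 0) + φ (v 1)) * h2
  let a : Cfsg.SU 3 F q := ⟨_, hN⟩
  let b : Cfsg.SU 3 F q := ⟨_, hM⟩
  have hsc : ∀ h : Cfsg.SU 3 F q, h ∈ center (Cfsg.SU 3 F q) →
      ∃ r : F, h.1.1 = r • (1 : Matrix (Fin 3) (Fin 3) F) :=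
    fun h hh => (CfsgLib.Unitary.mem_center_SU_iff hF' (by norm_num)).mp hh
  refine witness_quot_four (a := a) (b := b) ?_ ?_ ?_ ?_ ?_ ?_
  · refine Subtype.ext (Subtype.ext ?_)
    show N * M t = M t * N
    ext i j
    fin_cases i <;> fin_cases j <;> simp [N, M, Matrix.mul_apply, Fin.sum_univ_three] <;> first | ring1 | linear_combination t * h2 | linear_combination -t * h2
  · refine Subtype.ext (Subtype.ext ?_)
    show (⟨N, hdN⟩ : SL(3, F)).1 ^ 4 = 1
    rw [show 4 = 2 * 2 from rfl, pow_mul, pow_two N, hNN, pow_two, hMM]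
  · intro hc
    obtain ⟨r, hr⟩ := hsc _ hc
    rw [pow_two] at hr
    replace hr : N * N = r • (1 : Matrix (Fin 3) (Fin 3) F) := hr
    rw [hNN] at hr
    have p := congrFun (congrFun hr 0) 1
    simp [M] at p
  · rw [show b ^ 2 = 1 from Subtype.ext (Subtype.ext (by
      show M t ^ 2 = 1
      rw [pow_two, hMM]))]
    exact one_mem _
  · intro hc
    obtain ⟨r, hr⟩ := hsc _ hc
    have p : M t 0 1 = (r • (1 : Matrix (Fin 3) (Fin 3) F)) 0 1 := congrFun (congrFun hr 0) 1
    simp [M] at p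
    exact ht0 p
  · intro hc
    obtain ⟨r, hr⟩ := hsc _ hc
    have e : M 1 = M t * (r • (1 : Matrix (Fin 3) (Fin 3) F)) := by
      rw [← hr, ← hNN, ← pow_two]
      exact (congrArg (fun x : Cfsg.SU 3 F q => x.1.1) (mul_inv_cancel_left b (a ^ 2))).symm
    have p := congrFun (congrFun e 2) 2
    have p' := congrFun (congrFun e 0) 1
    simp [M, Matrix.mul_apply, Fin.sum_univ_three] at p p'
    rw [← p, mul_one] at p'
    exact ht1 p'.symm

/-! ### Symplectic groups -/

theorem witness_psp {m : ℕ} (h2 : (2 : F) ≠ 0) (hm : 2 ≤ m) : TwoWitness (Cfsg.PSp m F) := by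
  set i0 : Fin m := ⟨0, by omega⟩
  set i1 : Fin m := ⟨1, by omega⟩
  have h01 : i0 ≠ i1 := by simp [i0, i1]
  set E : Matrix (Fin m) (Fin m) F := diagonal fun i => if i = i0 then 1 else 0 with hEdef
  set D : Matrix (Fin m) (Fin m) F := diagonal fun i => if i = i0 then 0 else 1 with hDdef
  set N : Matrix (Fin m) (Fin m) F := diagonal fun i => if i = i0 then -1 else 1 with hNdef
  have hEE : E * E = E := by rw [hEdef, diagonal_mul_diagonal]; congr 1; funext i; split_ifs <;> simp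
  have hDD : D * D = D := by rw [hDdef, diagonal_mul_diagonal]; congr 1; funext i; split_ifs <;> simp
  have hED : E * D = 0 := by
    rw [hEdef, hDdef, diagonal_mul_diagonal, ← diagonal_zero]; congr 1; funext i; split_ifs <;> simp
  have hDE : D * E = 0 := by
    rw [hEdef, hDdef, diagonal_mul_diagonal, ← diagonal_zero]; congr 1; funext i; split_ifs <;> simp
  have hsum : D + E = 1 := by
    rw [hEdef, hDdef, diagonal_add, ← diagonal_one]; congr 1; funext i; split_ifs <;> simp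
  have hsub : D - E = N := by
    rw [hEdef, hDdef, hNdef, diagonal_sub]; congr 1; funext i; split_ifs <;> simp
  have hNN : N * N = 1 := by
    rw [hNdef, diagonal_mul_diagonal, ← diagonal_one]; congr 1; funext i; split_ifs <;> simp
  let A : Matrix (Fin m ⊕ Fin m) (Fin m ⊕ Fin m) F := fromBlocks D (-E) E D
  let B : Matrix (Fin m ⊕ Fin m) (Fin m ⊕ Fin m) F := fromBlocks 0 (-1) 1 0
  have hA : A ∈ symplecticGroup (Fin m) F := by
    rw [SymplecticGroup.mem_iff, Matrix.J, fromBlocks_multiply, fromBlocks_transpose,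
      fromBlocks_multiply, transpose_neg, show Dᵀ = D from diagonal_transpose _,
      show Eᵀ = E from diagonal_transpose _]
    simp [hEE, hDD, hED, hDE, hsum]
    rw [← neg_add, add_comm, hsum]
  have hB : B ∈ symplecticGroup (Fin m) F := by
    rw [SymplecticGroup.mem_iff, Matrix.J, fromBlocks_multiply, fromBlocks_transpose,
      fromBlocks_multiply]
    simp
  let a : symplecticGroup (Fin m) F := ⟨A, hA⟩
  let b : symplecticGroup (Fin m) F := ⟨B, hB⟩
  have hAA : A * A = fromBlocks N 0 0 N := by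
    show fromBlocks D (-E) E D * fromBlocks D (-E) E D = _
    rw [fromBlocks_multiply]
    simp [hEE, hDD, hED, hDE, ← hsub, sub_eq_add_neg, add_comm]
  let S : Matrix (Fin m) (Fin m) F := Matrix.single i0 i1 1 + Matrix.single i1 i0 1
  have hU : ∀ T : Matrix (Fin m) (Fin m) F, Tᵀ = T →
      (fromBlocks 1 T 0 1 : Matrix (Fin m ⊕ Fin m) (Fin m ⊕ Fin m) F) ∈ symplecticGroup (Fin m) F := by
    intro T hT
    rw [SymplecticGroup.mem_iff, Matrix.J, fromBlocks_multiply, fromBlocks_transpose,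
      fromBlocks_multiply, hT]
    simp
  have hS : Sᵀ = S := by
    simp only [S, transpose_add, Matrix.transpose_single]
    abel
  have hcomm : ∀ (x : symplecticGroup (Fin m) F) (T : Matrix (Fin m) (Fin m) F), Tᵀ = T →
      x ∈ center (symplecticGroup (Fin m) F) → x.1 * fromBlocks 1 T 0 1 = fromBlocks 1 T 0 1 * x.1 :=
    fun x T hT hx => (congrArg Subtype.val (Subgroup.mem_center_iff.mp hx ⟨_, hU T hT⟩)).symm
  refine witness_quot_four (a := a) (b := b) ?_ ?_ ?_ ?_ ?_ ?_
  · refine Subtype.ext ?_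
    show fromBlocks D (-E) E D * fromBlocks 0 (-1) 1 0 = fromBlocks 0 (-1) 1 0 * fromBlocks D (-E) E D
    rw [fromBlocks_multiply, fromBlocks_multiply]
    simp
  · refine Subtype.ext ?_
    show A ^ 4 = 1
    rw [show 4 = 2 * 2 from rfl, pow_mul, pow_two A, hAA, pow_two, fromBlocks_multiply]
    simp [hNN]
  · intro hc
    have h := hcomm _ S hS hc
    replace h : A ^ 2 * fromBlocks 1 S 0 1 = fromBlocks 1 S 0 1 * A ^ 2 := h
    rw [pow_two, hAA, fromBlocks_multiply, fromBlocks_multiply] at h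
    have h12 := (Matrix.fromBlocks_inj.mp h).2.1
    simp only [Matrix.zero_mul, Matrix.mul_one, Matrix.one_mul, Matrix.mul_zero, add_zero,
      zero_add] at h12
    have p := congrFun (congrFun h12 i0) i1
    rw [hNdef, diagonal_mul, mul_diagonal] at p
    simp [S, Matrix.single, h01, h01.symm] at p
    exact h2 (by linear_combination -p)
  · refine Subgroup.mem_center_iff.2 fun x => Subtype.ext ?_
    have e : B * B = -1 := by
      show fromBlocks 0 (-1) 1 0 * fromBlocks 0 (-1) 1 0 = (-1 : Matrix (Fin m ⊕ Fin m) (Fin m ⊕ Fin m) F)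
      rw [fromBlocks_multiply, ← fromBlocks_one, fromBlocks_neg]
      simp
    show x.1 * B ^ 2 = B ^ 2 * x.1
    rw [pow_two, e, mul_neg, neg_mul, mul_one, one_mul]
  · intro hc
    have h := hcomm _ 1 transpose_one hc
    replace h : B * fromBlocks 1 1 0 1 = fromBlocks 1 1 0 1 * B := h
    simp only [B, fromBlocks_multiply] at h
    have h11 := (Matrix.fromBlocks_inj.mp h).1
    simp at h11
    exact one_ne_zero (congrFun (congrFun h11.symm i0) i0 |>.trans (by simp))
  · intro hc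
    have h := hcomm _ 1 transpose_one hc
    have e : (b⁻¹ * a ^ 2 : symplecticGroup (Fin m) F).1 = fromBlocks 0 N (-N) 0 := by
      have h' : b * (⟨_, SetLike.coe_mem (b⁻¹ * a ^ 2)⟩ : symplecticGroup (Fin m) F) = a ^ 2 :=
        mul_inv_cancel_left b (a ^ 2)
      have h'' : B * (b⁻¹ * a ^ 2 : symplecticGroup (Fin m) F).1 = A ^ 2 := congrArg Subtype.val h'
      have hBi : fromBlocks 0 1 (-1) 0 * B = (1 : Matrix (Fin m ⊕ Fin m) (Fin m ⊕ Fin m) F) := by
        simp only [B, fromBlocks_multiply, ← fromBlocks_one]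
        simp
      calc _ = fromBlocks 0 1 (-1) 0 * (B * (b⁻¹ * a ^ 2 : symplecticGroup (Fin m) F).1) := by
            rw [← Matrix.mul_assoc, hBi, Matrix.one_mul]
        _ = _ := by
            rw [h'', pow_two, hAA, fromBlocks_multiply]
            simp
    rw [e, fromBlocks_multiply, fromBlocks_multiply] at h
    have h11 := (Matrix.fromBlocks_inj.mp h).1
    simp at h11
    have p := congrFun (congrFun h11 i1) i1
    simp [hNdef, h01.symm] at p

/-! ### Orthogonal groups -/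

theorem witness_pOmega [Fintype F] {ι : Type} [Fintype ι] [DecidableEq ι]
    {Q : QuadraticForm F (ι → F)} (hQ : (QuadraticMap.polarBilin Q).Nondegenerate)
    (hn : 5 ≤ Module.finrank F (ι → F)) {r : ℕ} (hr : 4 ≤ r) (h2 : (2 : F) ≠ 0)
    (h : Cfsg.PRankAtLeast 2 r ↥(Cfsg.Omega F ⇑Q)) : TwoWitness (Cfsg.POmega F ⇑Q) := by
  have hz : Nat.card (center ↥(Cfsg.Omega F ⇑Q)) ≤ 2 := by
    rw [Nat.card_congr (Subgroup.centerCongr (CfsgLib.Quad.omegaEquiv Q)).toEquiv]
    by_cases hneg : CfsgLib.Quad.negIso Q ∈ commutator (CfsgLib.Quad.oGroup Q)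
    · rw [CfsgLib.Quad.card_center_omega_two hQ hn h2 hneg]
    · rw [CfsgLib.Quad.card_center_omega_one hQ hn (Or.inr hneg)]; norm_num
  obtain ⟨A, hA, hA2, hcard⟩ := h
  left
  set f := QuotientGroup.mk' (center ↥(Cfsg.Omega F ⇑Q))
  refine ⟨A.map f, ⟨⟨?_⟩⟩, ?_, ?_⟩
  · rintro ⟨_, x, hx, rfl⟩ ⟨_, y, hy, rfl⟩
    have e : x * y = y * x := congrArg Subtype.val (hA.is_comm.comm ⟨x, hx⟩ ⟨y, hy⟩)
    exact Subtype.ext (by simp only [Subgroup.coe_mul]; rw [← map_mul, ← map_mul, e])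
  · rintro _ ⟨x, hx, rfl⟩
    rw [← map_pow, hA2 x hx, map_one]
  · have hk : Nat.card (f.ker.subgroupOf A) ≤ 2 := by
      refine le_trans ?_ hz
      rw [QuotientGroup.ker_mk']
      exact Nat.card_le_card_of_injective (fun x => (⟨x.1.1, x.2⟩ : center ↥(Cfsg.Omega F ⇑Q)))
        fun x y e => Subtype.ext (Subtype.ext (congrArg (fun z => z.1) e))
    have he := (f.ker.subgroupOf A).card_mul_index
    rw [show (f.ker.subgroupOf A).index = Nat.card (A.map f) from Subgroup.relIndex_ker A f] at he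
    have h16 : 16 ≤ Nat.card A := le_trans (Nat.pow_le_pow_right two_pos hr) hcard
    have := Nat.mul_le_mul_right (Nat.card (A.map f)) hk
    rw [he] at this
    show 8 ≤ Nat.card (A.map f)
    omega

theorem witness_omega_odd [Fintype F] (hodd : Odd (Fintype.card F)) (h2 : (2 : F) ≠ 0) {m : ℕ}
    (hm : 3 ≤ m) : TwoWitness (Cfsg.POmega F (Cfsg.quadFormOdd m F)) := by
  have h := (Cfsg.Agent.S2235.result (F := F) hodd m (by omega)).1
  rw [← CfsgLib.Quad.oddQ_coe] at h ⊢
  exact witness_pOmega (CfsgLib.Quad.oddQ_nondeg h2 m)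
    (by simp only [Module.finrank_pi, Fintype.card_option, Fintype.card_sum, Fintype.card_fin]; omega)
    (by omega : 4 ≤ 2 * m) h2 h

theorem witness_omega_plus [Fintype F] (hodd : Odd (Fintype.card F)) (h2 : (2 : F) ≠ 0) {m : ℕ}
    (hm : 4 ≤ m) : TwoWitness (Cfsg.POmega F (Cfsg.quadFormPlus m F)) := by
  have h := Cfsg.Agent.S2236.result (F := F) rfl hodd m (by omega)
  have hpar : Fintype.card F ^ m % 4 = 1 ∨ Fintype.card F ^ m % 4 = 3 := by
    have := Nat.odd_iff.mp (hodd.pow (n := m))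
    omega
  have hfin : 5 ≤ Module.finrank F (Fin m ⊕ Fin m → F) := by simp; omega
  rcases hpar with e | e
  · have h := (h.1 e).1
    rw [← CfsgLib.Quad.plusQ_coe] at h ⊢
    exact witness_pOmega (CfsgLib.Quad.plusQ_nondeg m) hfin (by omega : 4 ≤ 2 * m - 1) h2 h
  · have h := (h.2 e).1
    rw [← CfsgLib.Quad.plusQ_coe] at h ⊢
    exact witness_pOmega (CfsgLib.Quad.plusQ_nondeg m) hfin (by omega : 4 ≤ 2 * m - 2) h2 h

theorem witness_omega_minus [Fintype F] (hodd : Odd (Fintype.card F)) (h2 : (2 : F) ≠ 0) {m : ℕ}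
    (hm : 4 ≤ m) (a b : F)
    (hab : ∀ z₁ z₂ : F, z₁ ^ 2 + a * z₁ * z₂ + b * z₂ ^ 2 = 0 → z₁ = 0 ∧ z₂ = 0) :
    TwoWitness (Cfsg.POmega F (Cfsg.quadFormMinus (m - 1) F a b)) := by
  have h := Cfsg.Agent.S2237.result (F := F) rfl hodd m (by omega) a b hab
  have hpar : Fintype.card F ^ m % 4 = 1 ∨ Fintype.card F ^ m % 4 = 3 := by
    have := Nat.odd_iff.mp (hodd.pow (n := m))
    omega
  rcases hpar with e | e
  · have h := (h.2 e).1
    rw [← CfsgLib.Quad.minusQ_coe] at h ⊢
    exact witness_pOmega (CfsgLib.Quad.minusQ_nondeg hab (m - 1))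
      (by simp; omega) (by omega : 4 ≤ 2 * m - 2) h2 h
  · have h := (h.1 e).1
    rw [← CfsgLib.Quad.minusQ_coe] at h ⊢
    exact witness_pOmega (CfsgLib.Quad.minusQ_nondeg hab (m - 1))
      (by simp; omega) (by omega : 4 ≤ 2 * m - 1) h2 h

end CfsgLib.OrderFormula.Weak
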