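import Cfsg.Agent.OrderFormula.Weak.WitnessBasic
import Cfsg.Agent.TwoRankThree.Chev
import Cfsg.Agent.TwoRankThree.Classical
import Cfsg.Agent.Chev.G2OddCent
import Cfsg.Agent.Chev.ReeSylow
import Cfsg.Agent.SplitBN.Exceptional

/-!
# No exceptional group of Lie type has semidihedral Sylow 2-subgroups

Three sign elements of the torus, or in `G₂` and `³D₄` two commuting elements of order four in
the centralizer of an involution.
-/

set_option autoImplicit false
set_option linter.style.haveILetI false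
set_option linter.unusedSectionVars false

namespace CfsgLib.OrderFormula.Weak

open Cfsg.Lie Matrix CfsgLib.Chev CfsgLib.Chev.Tab CfsgLib.SplitBN
open scoped MatrixGroups

/-- The sign attached to a parity. -/
def sgnU (F : Type*) [Field F] (x : ZMod 2) : Fˣ := if x = 0 then 1 else -1

theorem sgnU_add {F : Type*} [Field F] (x y : ZMod 2) : sgnU F (x + y) = sgnU F x * sgnU F y := by
  have h : ∀ z : ZMod 2, z = 0 ∨ z = 1 := by decide
  have h11 : (1 + 1 : ZMod 2) = 0 := rfl
  rcases h x with rfl | rfl <;> rcases h y with rfl | rfl <;> simp [sgnU, h11]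

theorem sgnU_zero {F : Type*} [Field F] : sgnU F 0 = 1 := rfl

theorem sgnU_eq_one {F : Type*} [Field F] (h2 : (2 : F) ≠ 0) {x : ZMod 2} (h : sgnU F x = 1) :
    x = 0 := by
  by_contra hx
  rw [sgnU, if_neg hx] at h
  have := congrArg Units.val h
  simp at this
  exact h2 (by linear_combination -this)

theorem sgnU_zpow {F : Type*} [Field F] (x : ZMod 2) (k : ℤ) :
    sgnU F x ^ k = sgnU F (x * (k : ZMod 2)) := by
  fin_cases x
  · show sgnU F 0 ^ k = sgnU F (0 * (k : ZMod 2))
    rw [zero_mul, sgnU_zero, _root_.one_zpow]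
  · show sgnU F 1 ^ k = sgnU F (1 * (k : ZMod 2))
    rw [one_mul, sgnU, if_neg one_ne_zero]
    rcases Int.even_or_odd k with hk | hk
    · rw [hk.neg_one_zpow, (ZMod.intCast_eq_zero_iff_even).2 hk, sgnU_zero]
    · rw [hk.neg_one_zpow, (ZMod.intCast_eq_one_iff_odd).2 hk, sgnU, if_neg one_ne_zero]

section Torus

variable {D : ChevalleyDatum} {T : Tab D} (G : T.Good) {F : Type} [Field F]

/-- The parities of the combination `v` of the bit vectors `bs`. -/
def wbit (bs : Fin 3 → ℕ) (v : Fin 3 → ZMod 2) (i : ℕ) : ZMod 2 :=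
  ∑ j, if Nat.testBit (bs j) i then v j else 0

/-- The torus element of the combination `v`. -/
def cTor (D : ChevalleyDatum) (F : Type) [Field F] (bs : Fin 3 → ℕ) (v : Fin 3 → ZMod 2) :
    Fin D.rank → Fˣ := fun i => sgnU F (wbit bs v i)

/-- No combination is killed by all fundamental roots. -/
def IndepBits (T : Tab D) (bs : Fin 3 → ℕ) : Prop :=
  ∀ v : Fin 3 → ZMod 2, v ≠ 0 → ∃ k : Fin D.rank,
    ∑ i : Fin D.rank, wbit bs v i * ((T.cart i (D.simple k) : ℤ) : ZMod 2) = 1

include G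

theorem rank_three_torus (h2 : (2 : F) ≠ 0) {bs : Fin 3 → ℕ} (hbs : IndepBits T bs)
    {H : Subgroup (GL D.Idx F)} (hH : ∀ v, T.hT F (cTor D F bs v) ∈ H) :
    Cfsg.PRankAtLeast 2 3 H := by
  refine CfsgLib.TwoRankThree.of_add (fun v => (⟨_, hH v⟩ : H)) (fun v w => ?_) (fun v hv => ?_)
    CfsgLib.TwoRankThree.zmod_pi_add_self CfsgLib.TwoRankThree.zmod_pi_card
  · refine Subtype.ext ?_
    show T.hT F _ = T.hT F _ * T.hT F _
    rw [← map_mul]
    refine congrArg _ (funext fun i => ?_)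
    rw [Pi.mul_apply, cTor, cTor, cTor, ← sgnU_add]
    refine congrArg _ ?_
    simp only [wbit, Pi.add_apply, ← Finset.sum_add_distrib]
    refine Finset.sum_congr rfl fun j _ => ?_
    split_ifs <;> simp
  · by_contra h0
    obtain ⟨k, hk⟩ := hbs v h0
    have h1 := (G.full.hT_eq_one_iff _).mp (congrArg Subtype.val hv) k k.isLt
    have e : T.chi (F := F) (D.simple k) (cTor D F bs v) =
        sgnU F (∑ i : Fin D.rank, wbit bs v i * ((T.cart i (D.simple k) : ℤ) : ZMod 2)) := by
      show ∏ i : Fin D.rank, cTor D F bs v i ^ T.cart i (D.simple k) = _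
      simp only [cTor, sgnU_zpow]
      refine Finset.cons_induction (by simp [sgnU_zero]) (fun a s ha ih => ?_) Finset.univ
      rw [Finset.prod_cons, Finset.sum_cons, ih, sgnU_add]
    rw [e, hk] at h1
    exact one_ne_zero (sgnU_eq_one h2 h1)

theorem rank_three_chev (h2 : (2 : F) ≠ 0) {bs : Fin 3 → ℕ} (hbs : IndepBits T bs) :
    Cfsg.PRankAtLeast 2 3 (D.group F) :=
  rank_three_torus G h2 hbs fun _ =>
    G.diagonal_le_group (by rw [G.full.diagonal_eq_range]; exact ⟨_, rfl⟩)

end Torus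

theorem indF4 : IndepBits F4Data.tab ![1, 2, 4] := by unfold IndepBits; decide +kernel
theorem indE6 : IndepBits E6Data.tab ![2, 8, 33] := by unfold IndepBits; decide +kernel
theorem indE7 : IndepBits E7Data.tab ![2, 8, 1] := by unfold IndepBits; decide +kernel
theorem indE8 : IndepBits E8Data.tab ![1, 2, 4] := by unfold IndepBits; decide +kernel

theorem orbitBits : ∀ (v : Fin 3 → ZMod 2) (i : Fin 6),
    wbit ![2, 8, 33] v ((![5, 1, 4, 3, 2, 0] : Fin 6 → Fin 6) i) = wbit ![2, 8, 33] v i := by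
  decide +kernel

theorem witness_twistedE6 {K : Type} [Field K] [Fintype K] (h2 : (2 : K) ≠ 0) {q : ℕ}
    (hq : IsPrimePow q) (hK : Fintype.card K = q ^ 2) : TwoWitness (twistedE6 K q) := by
  have hodd : Odd q := by
    have h : Odd (Fintype.card K) := by
      refine Nat.odd_iff.mpr (FiniteField.odd_card_of_char_ne_two fun h => h2 ?_)
      haveI := ringChar.of_eq h
      exact CharTwo.two_eq_zero
    rw [hK] at h
    exact Nat.Odd.of_mul_left (by rwa [pow_two] at h)
  obtain ⟨C⟩ := E6Tw.exists_ctx hq hK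
  refine Or.inl (rank_three_torus good_E6 h2 indE6 fun v => ?_)
  rw [← C.grp_eq]
  refine C.A.torus_le (C.A.hT_mem_torus (C.mem_Cσ.mpr fun i => ?_))
  show sgnU K (wbit _ v _) = sgnU K (wbit _ v i) ^ q
  rw [orbitBits v i, sgnU]
  split_ifs
  · rw [one_pow]
  · rw [hodd.neg_one_pow]

section G2

theorem eN_sq {F : Type*} [Field F] :
    (RankOne.eN : SL(2, F)) * RankOne.eN = RankOne.eH (-1) := by
  ext i j
  fin_cases i <;> fin_cases j <;>
    simp [RankOne.coe_eN, RankOne.coe_eH, Matrix.SpecialLinearGroup.coe_mul, Matrix.mul_apply,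
      Fin.sum_univ_two, inv_neg]

theorem witness_g2 {F : Type} [Field F] (h2 : (2 : F) ≠ 0) : TwoWitness (chevG2.group F) := by
  obtain ⟨hz, hz1⟩ := G2Odd.eH_neg_one h2
  set φ : SL(2, F) →* ↥(chevG2.group F) :=
    (G2Odd.φ₁ F).codRestrict _ (good_G2.hom_mem_group G2Odd.i0) with hφ
  set ψ : SL(2, F) →* ↥(chevG2.group F) := (G2Odd.φ₂ F).codRestrict _ fun b =>
    mul_mem (mul_mem G2Odd.w_mem (good_G2.hom_mem_group G2Odd.i1 b)) (inv_mem G2Odd.w_mem)
  have hinj : Function.Injective φ := fun a b e =>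
    good_G2.hom_injective InvolData.scG2 G2Odd.i0 (congrArg Subtype.val e)
  have hcm : ∀ a b, Commute (φ a) (ψ b) := fun a b => Subtype.ext (G2Odd.commute a b).eq
  have hsq : (φ RankOne.eN) ^ 2 = φ (RankOne.eH (-1)) := by rw [← map_pow, pow_two, eN_sq]
  have hsq' : (ψ RankOne.eN) ^ 2 = φ (RankOne.eH (-1)) := by
    rw [← map_pow, pow_two, eN_sq]
    exact Subtype.ext (G2Odd.φ₂_eH.trans G2Odd.φ₁_eH.symm)
  have hnc : ∀ g : SL(2, F), ψ RankOne.eN = φ g → g = 1 ∨ g = RankOne.eH (-1) := fun g e =>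
    G2Odd.central_eq fun b => hinj (by
      rw [map_mul, map_mul, ← e]
      exact (hcm b RankOne.eN).eq.symm)
  have hN : (RankOne.eN : SL(2, F)) ≠ 1 ∧ (RankOne.eN : SL(2, F)) ≠ RankOne.eH (-1) := by
    constructor <;> intro e <;> have := congrArg (fun g : SL(2, F) => g 0 1) e <;>
      simp [RankOne.coe_eN, RankOne.coe_eH] at this
  refine witness_of_pair (a := φ RankOne.eN) (a' := ψ RankOne.eN) ?_ ?_ (hcm _ _)
    (hsq'.trans hsq.symm) ?_ ?_
  · rw [show 4 = 2 * 2 from rfl, pow_mul, hsq, ← map_pow, pow_two, hz, map_one]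
  · rw [hsq]
    exact fun e => hz1 (hinj (e.trans (map_one φ).symm))
  · intro e
    exact (hnc _ e).elim hN.1 hN.2
  · intro e
    rw [← map_inv] at e
    rcases hnc _ e with h | h
    · exact hN.1 (inv_eq_one.mp h)
    · exact hN.2 (by rw [← inv_inv (RankOne.eN : SL(2, F)), h, inv_eq_of_mul_eq_one_left hz])

end G2

section D4

/-- Parity masks of `D₄`. -/
def maskD4 : List ℕ := [2, 13, 2, 2]

theorem cmaskD4 : D4Data.tab.chkMask maskD4 = true := by decide +kernel

theorem stpD4 : stp 4 maskD4 1 (stp 4 maskD4 0 (stp 4 maskD4 2 (stp 4 maskD4 3 2))) = 13 := by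
  decide +kernel

theorem commD4 : [chevD4.simple 0, negR chevD4 (chevD4.simple 0), chevD4.simple 2,
      negR chevD4 (chevD4.simple 2), chevD4.simple 3, negR chevD4 (chevD4.simple 3)].all
    (fun a => D4Data.tab.chkCommute 0 a 23 && D4Data.tab.chkCommute 0 a 0) = true := by
  decide +kernel

theorem orthD4 : [((0 : ℕ), (2 : ℕ)), (0, 3), (2, 3)].all (fun p =>
    [chevD4.simple p.1, negR chevD4 (chevD4.simple p.1)].all fun a =>
      [chevD4.simple p.2, negR chevD4 (chevD4.simple p.2)].all fun b =>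
        D4Data.tab.chkCommute 0 a b) = true := by decide +kernel

theorem reflD4 : D4Data.tab.reflT 3 14 = D4Data.tab.reflT 3 (chevD4.simple 1) ∧
    D4Data.tab.reflT 1 (D4Data.tab.reflT 0 (D4Data.tab.reflT 2 (D4Data.tab.reflT 3
      (chevD4.simple 1)))) = 23 ∧
    D4Data.tab.reflT 1 (D4Data.tab.reflT 0 (D4Data.tab.reflT 2 (D4Data.tab.reflT 3
      (negR chevD4 (chevD4.simple 1))))) = 0 := by decide +kernel

variable {F : Type} [Field F]

/-- Nodes of `D₄`. -/
abbrev nd (i : ℕ) (h : i < 4 := by norm_num) : Fin chevD4.rank := ⟨i, h⟩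

/-- The square root of the central involution in the three outer nodes. -/
noncomputable def outerN (F : Type) [Field F] : GL chevD4.Idx F :=
  good_D4.full.ns F 0 * good_D4.full.ns F 2 * good_D4.full.ns F 3

/-- The element moving the middle node to the highest root. -/
noncomputable def toTop (F : Type) [Field F] : GL chevD4.Idx F :=
  good_D4.full.ns F 1 * outerN F

/-- The reflection of the highest root. -/
noncomputable def topN (F : Type) [Field F] : GL chevD4.Idx F :=
  toTop F * good_D4.full.ns F 1 * (toTop F)⁻¹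

theorem toTop_conj (s : ℕ) (hs : s < chevD4.nroots) (t : F) :
    ∃ u, toTop F * good_D4.full.x s t * (toTop F)⁻¹ = good_D4.full.x
      (D4Data.tab.reflT 1 (D4Data.tab.reflT 0 (D4Data.tab.reflT 2 (D4Data.tab.reflT 3 s)))) u := by
  have h3 := good_D4.full.ns_conj (i := 3) (s := s) (by decide) hs t
  obtain ⟨hs3, -⟩ := good_D4.full.reflT_spec (i := 3) (by decide) hs
  have h2 := good_D4.full.ns_conj (i := 2) (by decide) hs3 ((D4Data.tab.sgn 3 s : F) * t)
  obtain ⟨hs2, -⟩ := good_D4.full.reflT_spec (i := 2) (by decide) hs3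
  rw [← h3] at h2
  have h0 := good_D4.full.ns_conj (i := 0) (by decide) hs2
    ((D4Data.tab.sgn 2 (D4Data.tab.reflT 3 s) : F) * ((D4Data.tab.sgn 3 s : F) * t))
  obtain ⟨hs0, -⟩ := good_D4.full.reflT_spec (i := 0) (by decide) hs2
  rw [← h2] at h0
  have h1 := good_D4.full.ns_conj (i := 1) (by decide) hs0
    ((D4Data.tab.sgn 0 (D4Data.tab.reflT 2 (D4Data.tab.reflT 3 s)) : F) *
      ((D4Data.tab.sgn 2 (D4Data.tab.reflT 3 s) : F) * ((D4Data.tab.sgn 3 s : F) * t)))
  rw [← h0] at h1
  exact ⟨_, by rw [← h1, toTop, outerN]; group⟩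

theorem commute_outer {s : ℕ} (hs : s = 23 ∨ s = 0) (t : F) :
    Commute (outerN F) (good_D4.full.x s t) := by
  have h : ∀ k : Fin chevD4.rank, (k : ℕ) = 0 ∨ (k : ℕ) = 2 ∨ (k : ℕ) = 3 →
      Commute (good_D4.full.ns F k) (good_D4.full.x s t) := by
    intro k hk
    refine good_D4.ns_commute (a := k) rfl rfl (fun u => good_D4.x_commute Nat.cast_zero ?_ u t)
      (fun u => good_D4.x_commute Nat.cast_zero ?_ u t)
    · have := List.all_eq_true.mp commD4 (chevD4.simple k) (by
        rcases hk with e | e | e <;> rw [e] <;> simp)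
      rw [Bool.and_eq_true] at this
      rcases hs with rfl | rfl
      exacts [this.1, this.2]
    · have := List.all_eq_true.mp commD4 (negR chevD4 (chevD4.simple k)) (by
        rcases hk with e | e | e <;> rw [e] <;> simp)
      rw [Bool.and_eq_true] at this
      rcases hs with rfl | rfl
      exacts [this.1, this.2]
  exact ((h (nd 0) (Or.inl rfl)).mul_left (h (nd 2) (Or.inr (Or.inl rfl)))).mul_left
    (h (nd 3) (Or.inr (Or.inr rfl)))

theorem outerN_sq : outerN F * outerN F = D4Data.tab.hT F (cbit chevD4 F 13) := by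
  have hc : ∀ i j : Fin chevD4.rank, ((i : ℕ), (j : ℕ)) ∈ [((0 : ℕ), (2 : ℕ)), (0, 3), (2, 3)] →
      Commute (good_D4.full.ns F i) (good_D4.full.ns F j) := by
    intro i j hij
    have := List.all_eq_true.mp orthD4 _ hij
    simp only [List.all_cons, List.all_nil, Bool.and_true, Bool.and_eq_true] at this
    obtain ⟨⟨p, q⟩, p', q'⟩ := this
    exact good_D4.ns_commute (a := i) rfl rfl
      (fun u => (good_D4.ns_commute (a := j) rfl rfl
        (fun w => (good_D4.x_commute Nat.cast_zero p u w).symm)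
        (fun w => (good_D4.x_commute Nat.cast_zero q u w).symm)).symm)
      (fun u => (good_D4.ns_commute (a := j) rfl rfl
        (fun w => (good_D4.x_commute Nat.cast_zero p' u w).symm)
        (fun w => (good_D4.x_commute Nat.cast_zero q' u w).symm)).symm)
  have c02 := hc (nd 0) (nd 2) (by decide)
  have c03 := hc (nd 0) (nd 3) (by decide)
  have c23 := hc (nd 2) (nd 3) (by decide)
  have sq : ∀ a c : GL chevD4.Idx F, Commute a c → a * c * (a * c) = a * a * (c * c) :=
    fun a c h => h.symm.mul_mul_mul_comm a c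
  have e : outerN F * outerN F = good_D4.full.ns F (nd 0 : ℕ) * good_D4.full.ns F (nd 0 : ℕ) *
      (good_D4.full.ns F (nd 2 : ℕ) * good_D4.full.ns F (nd 2 : ℕ)) *
      (good_D4.full.ns F (nd 3 : ℕ) * good_D4.full.ns F (nd 3 : ℕ)) := by
    rw [show outerN F = good_D4.full.ns F (nd 0 : ℕ) * good_D4.full.ns F (nd 2 : ℕ) *
      good_D4.full.ns F (nd 3 : ℕ) from rfl, sq _ _ (c03.mul_left c23), sq _ _ c02]
  rw [e, good_D4.full.ns_sq (nd 0).isLt, good_D4.full.ns_sq (nd 2).isLt,
    good_D4.full.ns_sq (nd 3).isLt]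
  rw [show (-1 : F) = ((-1 : Fˣ) : F) from rfl, ← good_D4.full.hT_single, ← good_D4.full.hT_single,
    ← good_D4.full.hT_single, ← map_mul, ← map_mul]
  refine congrArg _ (funext fun i => ?_)
  obtain ⟨i, hi⟩ := i
  have hi4 : i < 4 := hi
  interval_cases i <;> simp [cbit, nd, Pi.mulSingle, Function.update, Fin.ext_iff, show Nat.testBit 13 0 = true by decide, show Nat.testBit 13 1 = false by decide, show Nat.testBit 13 2 = true by decide, show Nat.testBit 13 3 = true by decide]

theorem topN_sq : topN F * topN F = D4Data.tab.hT F (cbit chevD4 F 13) := by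
  have hb : (Pi.mulSingle (nd 1) (-1 : Fˣ)) = cbit chevD4 F 2 := by
    funext i
    revert i
    show ∀ i : Fin 4, _
    intro i
    fin_cases i <;> simp [cbit] <;> rfl
  have h1 : good_D4.full.ns F 1 * good_D4.full.ns F 1 = D4Data.tab.hT F (cbit chevD4 F 2) := by
    rw [good_D4.full.ns_sq (nd 1).isLt, ← hb, good_D4.full.hT_single]
    rfl
  have step : ∀ (j : Fin chevD4.rank) (b : ℕ),
      good_D4.full.ns F j * D4Data.tab.hT F (cbit chevD4 F b) =
        D4Data.tab.hT F (cbit chevD4 F (stp 4 maskD4 j b)) * good_D4.full.ns F j := fun j b => by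
    rw [good_D4.ns_hT_eq, ← Good.cbit_stp cmaskD4]
    rfl
  have e : toTop F * D4Data.tab.hT F (cbit chevD4 F 2) =
      D4Data.tab.hT F (cbit chevD4 F 13) * toTop F := by
    rw [← stpD4]
    simp only [toTop, outerN, mul_assoc]
    rw [step (nd 3)]
    rw [← mul_assoc (good_D4.full.ns F 2), step (nd 2), mul_assoc]
    rw [← mul_assoc (good_D4.full.ns F 0), step (nd 0), mul_assoc]
    rw [← mul_assoc (good_D4.full.ns F 1), step (nd 1), mul_assoc]
  rw [topN, show toTop F * good_D4.full.ns F 1 * (toTop F)⁻¹ *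
    (toTop F * good_D4.full.ns F 1 * (toTop F)⁻¹) =
    toTop F * (good_D4.full.ns F 1 * good_D4.full.ns F 1) * (toTop F)⁻¹ by group, h1, e,
    mul_inv_cancel_right]

theorem topN_outer : Commute (topN F) (outerN F) := by
  obtain ⟨-, r23, r0⟩ := reflD4
  have hlt : chevD4.simple 1 < chevD4.nroots ∧ negR chevD4 (chevD4.simple 1) < chevD4.nroots := by
    decide +kernel
  have hx : ∀ t, Commute (outerN F) (toTop F * good_D4.full.x (chevD4.simple 1) t * (toTop F)⁻¹) :=
    fun t => by
      obtain ⟨u, hu⟩ := toTop_conj (chevD4.simple 1) hlt.1 t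
      rw [hu, r23]
      exact commute_outer (Or.inl rfl) u
  have hy : ∀ t, Commute (outerN F)
      (toTop F * good_D4.full.x (negR chevD4 (chevD4.simple 1)) t * (toTop F)⁻¹) :=
    fun t => by
      obtain ⟨u, hu⟩ := toTop_conj _ hlt.2 t
      rw [hu, r0]
      exact commute_outer (Or.inr rfl) u
  refine (Commute.symm ?_)
  have e : topN F = (toTop F * good_D4.full.x (chevD4.simple 1) 1 * (toTop F)⁻¹) *
      (toTop F * good_D4.full.x (negR chevD4 (chevD4.simple 1)) (-1⁻¹) * (toTop F)⁻¹) *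
      (toTop F * good_D4.full.x (chevD4.simple 1) 1 * (toTop F)⁻¹) := by
    rw [topN, show good_D4.full.ns F 1 = good_D4.full.x (chevD4.simple 1) (1 : F) *
      good_D4.full.x (negR chevD4 (chevD4.simple 1)) (-1⁻¹) *
      good_D4.full.x (chevD4.simple 1) 1 from rfl]
    group
  rw [e]
  exact ((hx _).mul_right (hy _)).mul_right (hx _)

theorem topN_not_central : ¬ Commute (topN F)
    (toTop F * good_D4.full.x (chevD4.simple 1) 1 * (toTop F)⁻¹) := by
  intro h
  have h' : good_D4.full.ns F (nd 1) * good_D4.full.x (chevD4.simple (nd 1)) 1 *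
      (good_D4.full.ns F (nd 1))⁻¹ = good_D4.full.x (chevD4.simple (nd 1)) 1 := by
    have := h.eq
    rw [topN] at this
    have e : toTop F * (good_D4.full.ns F 1 * good_D4.full.x (chevD4.simple 1) (1 : F)) * (toTop F)⁻¹ =
        toTop F * (good_D4.full.x (chevD4.simple 1) (1 : F) * good_D4.full.ns F 1) * (toTop F)⁻¹ := by
      calc _ = toTop F * good_D4.full.ns F 1 * (toTop F)⁻¹ *
            (toTop F * good_D4.full.x (chevD4.simple 1) (1 : F) * (toTop F)⁻¹) := by group
        _ = _ := this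
        _ = _ := by group
    show good_D4.full.ns F 1 * good_D4.full.x (chevD4.simple 1) (1 : F) *
      (good_D4.full.ns F 1)⁻¹ = _
    rw [mul_inv_eq_iff_eq_mul]
    exact mul_left_cancel (mul_right_cancel e)
  rw [good_D4.ns_conj_x] at h'
  have h1 : good_D4.full.x (chevD4.simple (nd 1)) (1 : F) = 1 := good_D4.pos_inf_neg
    (good_D4.x_mem_pos (good_D4.pos_simp (nd 1)) 1)
    (h' ▸ good_D4.x_mem_neg (by decide +kernel) (by unfold IsPos; decide +kernel) _)
  exact one_ne_zero (good_D4.x_eq_one (good_D4.full.simple_lt (nd 1).isLt) h1)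

theorem witness_twistedD4 {K : Type} [Field K] [Fintype K] (h2 : (2 : K) ≠ 0) {q : ℕ}
    (hq : IsPrimePow q) (hK : Fintype.card K = q ^ 3) : TwoWitness (twistedD4 K q) := by
  obtain ⟨C⟩ := D4Tw.exists_ctx hq hK
  have hJ : ∀ (J : Fin D4Tw.orbs.length) (L : List (Fin chevD4.rank)),
      good_D4.oJ D4Tw.orbs J = L → (L.map fun i : Fin chevD4.rank =>
        good_D4.full.ns K i).prod ∈ twistedD4 K q := fun J L hL => by
    rw [← C.grp_eq, ← good_D4.nw_eq, ← hL]
    exact C.A.n_mem J
  have m1 : good_D4.full.ns K 1 ∈ twistedD4 K q := by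
    simpa using hJ ⟨0, by decide⟩ [nd 1] rfl
  have mo : outerN K ∈ twistedD4 K q := by
    simpa [outerN, mul_assoc] using hJ ⟨1, by decide⟩ [nd 0, nd 2, nd 3] rfl
  have mg : toTop K ∈ twistedD4 K q := mul_mem m1 mo
  have mt : topN K ∈ twistedD4 K q := mul_mem (mul_mem mg m1) (inv_mem mg)
  have hz1 : D4Data.tab.hT K (cbit chevD4 K 13) ≠ 1 := fun h => by
    have := (good_D4.full.hT_eq_one_iff _).mp h (nd 1) (nd 1).isLt
    rw [Good.chi_cbit cmaskD4, if_pos (by decide +kernel)] at this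
    have := congrArg Units.val this
    simp at this
    exact h2 (by linear_combination -this)
  have hz2 : D4Data.tab.hT K (cbit chevD4 K 13) * D4Data.tab.hT K (cbit chevD4 K 13) = 1 := by
    rw [← map_mul, show cbit chevD4 K 13 * cbit chevD4 K 13 = 1 from funext fun i => by
      simp only [Pi.mul_apply, cbit, Pi.one_apply]; split_ifs <;> simp, map_one]
  have hco : Commute (outerN K) (toTop K * good_D4.full.x (chevD4.simple 1) 1 * (toTop K)⁻¹) := by
    obtain ⟨u, hu⟩ := toTop_conj (F := K) (chevD4.simple 1) (by decide +kernel) 1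
    rw [hu, reflD4.2.1]
    exact commute_outer (Or.inl rfl) u
  refine witness_of_pair (a := (⟨_, mt⟩ : ↥(twistedD4 K q))) (a' := ⟨_, mo⟩) ?_ ?_
    (Subtype.ext topN_outer.eq) ?_ ?_ ?_
  · refine Subtype.ext ?_
    show topN K ^ 4 = 1
    rw [show 4 = 2 * 2 from rfl, pow_mul, pow_two (topN K), topN_sq, pow_two, hz2]
  · intro h
    have h' : topN K ^ 2 = 1 := congrArg Subtype.val h
    rw [pow_two, topN_sq] at h'
    exact hz1 h'
  · refine Subtype.ext ?_
    show outerN K ^ 2 = topN K ^ 2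
    rw [pow_two, pow_two, topN_sq, outerN_sq]
  · intro h
    have h' : outerN K = topN K := congrArg Subtype.val h
    exact topN_not_central (h' ▸ hco)
  · intro h
    have h' : outerN K = (topN K)⁻¹ := congrArg Subtype.val h
    exact topN_not_central (Commute.inv_left_iff.mp (h' ▸ hco))

end D4

theorem witness_ree {G : Type*} [Group G] (h : IsoRee G) : TwoWitness G := by
  obtain ⟨K, _, _, m, hm, hK, ⟨e⟩⟩ := h
  obtain ⟨C⟩ := G2Tw.exists_ctx hK
  haveI : Fact (Nat.Prime 2) := ⟨Nat.prime_two⟩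
  obtain ⟨S⟩ := (inferInstance : Nonempty (Sylow 2 (G2Tw.RG K m)))
  refine TwoWitness.of_equiv e (Or.inl ⟨S, C.sylow_comm S, fun x hx => ?_, (C.sylow_two S).1.ge⟩)
  rw [pow_two]
  exact (C.sylow_two S).2 x hx

/-- No group on the exceptional list has semidihedral Sylow 2-subgroups. -/
theorem witness_exceptional {G : Type*} [Group G] (h : Cfsg.IsExceptionalLieType G) :
    TwoWitness G := by
  have hchar : ∀ {F : Type} [Field F], (2 : F) = 0 → CharP F 2 := fun h =>
    (CharP.charP_iff_prime_eq_zero Nat.prime_two).mpr (by exact_mod_cast h)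
  rcases h with h | h | h | h | h | h | h | h | h | h | h
  · obtain ⟨F, iF, iFin, hF, ⟨e⟩⟩ := h
    by_cases h2 : (2 : F) = 0
    · haveI := hchar h2
      exact Or.inl (CfsgLib.TwoRankThree.exceptional ⟨F, iF, iFin, hchar h2, Or.inl ⟨hF, ⟨e⟩⟩⟩)
    · exact TwoWitness.of_equiv e (witness_g2 h2)
  · obtain ⟨F, iF, iFin, ⟨e⟩⟩ := h
    by_cases h2 : (2 : F) = 0
    · haveI := hchar h2
      exact Or.inl (CfsgLib.TwoRankThree.exceptional ⟨F, iF, iFin, hchar h2, Or.inr (Or.inl ⟨e⟩)⟩)
    · exact TwoWitness.of_equiv e (Or.inl (rank_three_chev good_F4 h2 indF4))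
  · obtain ⟨F, iF, iFin, ⟨e⟩⟩ := h
    by_cases h2 : (2 : F) = 0
    · haveI := hchar h2
      exact Or.inl (CfsgLib.TwoRankThree.exceptional ⟨F, iF, iFin, hchar h2, Or.inr (Or.inr (Or.inl ⟨e⟩))⟩)
    · exact TwoWitness.of_equiv e (Or.inl (rank_three_chev good_E6 h2 indE6))
  · obtain ⟨F, iF, iFin, ⟨e⟩⟩ := h
    by_cases h2 : (2 : F) = 0
    · haveI := hchar h2
      exact Or.inl (CfsgLib.TwoRankThree.exceptional
        ⟨F, iF, iFin, hchar h2, Or.inr (Or.inr (Or.inr (Or.inl ⟨e⟩)))⟩)
    · exact TwoWitness.of_equiv e (Or.inl (rank_three_chev good_E7 h2 indE7))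
  · obtain ⟨F, iF, iFin, ⟨e⟩⟩ := h
    by_cases h2 : (2 : F) = 0
    · haveI := hchar h2
      exact Or.inl (CfsgLib.TwoRankThree.exceptional
        ⟨F, iF, iFin, hchar h2, Or.inr (Or.inr (Or.inr (Or.inr ⟨e⟩)))⟩)
    · exact TwoWitness.of_equiv e (Or.inl (rank_three_chev good_E8 h2 indE8))
  · obtain ⟨K, iF, iFin, q, hq, hK, ⟨e⟩⟩ := h
    by_cases h2 : (2 : K) = 0
    · haveI := hchar h2
      exact Or.inl (CfsgLib.TwoRankThree.twisted ⟨K, iF, iFin, hchar h2, q, hq, Or.inl ⟨hK, ⟨e⟩⟩⟩)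
    · exact TwoWitness.of_equiv e (witness_twistedE6 h2 hq hK)
  · obtain ⟨K, iF, iFin, q, hq, hK, ⟨e⟩⟩ := h
    by_cases h2 : (2 : K) = 0
    · haveI := hchar h2
      exact Or.inl (CfsgLib.TwoRankThree.twisted ⟨K, iF, iFin, hchar h2, q, hq, Or.inr ⟨hK, ⟨e⟩⟩⟩)
    · exact TwoWitness.of_equiv e (witness_twistedD4 h2 hq hK)
  · exact Or.inl (CfsgLib.TwoRankThree.suzuki h)
  · exact witness_ree h
  · exact Or.inl (CfsgLib.TwoRankThree.ree h)
  · exact Or.inl (CfsgLib.TwoRankThree.tits h)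

end CfsgLib.OrderFormula.Weak
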