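import Cfsg.Agent.OrderFormula.Weak.WitnessBasic
import Cfsg.Agent.Dickson.SylowTwo
import Cfsg.Agent.Classical.PSLTwoSub
import Cfsg.Agent.S0243
import Mathlib.GroupTheory.Perm.Sign
import Mathlib.GroupTheory.SpecificGroups.Alternating

/-!
# Alternating groups and two dimensional linear groups: no semidihedral Sylow 2-subgroups
-/

set_option autoImplicit false
set_option linter.style.haveILetI false

namespace CfsgLib.OrderFormula.Weak

open Cfsg Subgroup
open scoped MatrixGroups

universe u v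

/-- A semidihedral Sylow subgroup makes the order divisible by `16`. -/
theorem not_qd_of_not_dvd {G : Type u} [Group G] [Finite G] (h : ¬ 16 ∣ Nat.card G) (S : Sylow 2 G) :
    ¬ Cfsg.IsQuasiDihedral (S : Subgroup G) := by
  rintro ⟨n, hn, hc, -⟩
  refine h (dvd_trans ?_ (Subgroup.card_subgroup_dvd_card (S : Subgroup G)))
  rw [hc, show 16 = 2 ^ 4 from rfl]
  exact pow_dvd_pow 2 (by omega)

/-- No dihedral group is semidihedral. -/
theorem not_qd_dihedral {S : Type u} [Group S] [Finite S] {m : ℕ} (e : S ≃* DihedralGroup m) :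
    ¬ Cfsg.IsQuasiDihedral S := by
  intro hS
  obtain ⟨D⟩ := CfsgLib.QD.exists_data hS
  have hrot : ∀ g : S, orderOf g = 4 → ∃ i, e g = DihedralGroup.r i := by
    intro g hg
    rcases h : e g with i | i
    · exact ⟨i, rfl⟩
    · rw [← e.orderOf_eq g, h, DihedralGroup.orderOf_sr] at hg
      omega
  obtain ⟨i, hi⟩ := hrot _ D.orderOf_w
  obtain ⟨j, hj⟩ := hrot _ ((D.refl_four_iff (i := 1)).mpr (by norm_num))
  have hc : Commute D.w (D.x ^ (1 : ℤ) * D.y) := by
    refine e.injective ?_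
    rw [map_mul e D.w, map_mul e (D.x ^ (1 : ℤ) * D.y), hi, hj, DihedralGroup.r_mul_r,
      DihedralGroup.r_mul_r, add_comm]
  have hw : D.w * D.w ≠ 1 := by rw [D.w_sq]; exact D.z_ne_one
  have hyy := D.w_sq
  rcases D.refl_centralizer hc with h | h | h | h
  · exact hw (by rw [h, one_mul])
  · exact hw (by rw [h, D.z_sq])
  · exact D.ne_rot 1 (2 * (D.q : ℤ)) h.symm
  · refine D.ne_rot (4 * (D.q : ℤ) + 1) (2 * (D.q : ℤ)) ?_
    rw [show D.x ^ (2 * (D.q : ℤ)) = D.w from rfl, h, zpow_add, mul_assoc]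
    rfl

theorem not_qd_psl_two {G : Type u} [Group G] [Finite G] {F : Type} [Field F] [Fintype F]
    (hodd : Odd (Fintype.card F))
    (e : G ≃* Matrix.ProjectiveSpecialLinearGroup (Fin 2) F) (S : Sylow 2 G) :
    ¬ Cfsg.IsQuasiDihedral (S : Subgroup G) := by
  rw [← Nat.card_eq_fintype_card] at hodd
  by_cases h8 : 8 ∣ Nat.card F - 1 ∨ 8 ∣ Nat.card F + 1
  · haveI : Fact (Nat.Prime 2) := ⟨Nat.prime_two⟩
    classical
    set T := S.mapSurjective (f := e.toMonoidHom) e.surjective with hT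
    obtain ⟨n, -, ⟨d⟩⟩ := CfsgLib.Dickson.exists_sylow_two_dihedral hodd h8 T
    exact not_qd_dihedral ((e.subgroupMap (S : Subgroup G)).trans d)
  · refine not_qd_of_not_dvd (fun h16 => h8 ?_) S
    rw [Nat.card_congr e.toEquiv] at h16
    have h2 := Nat.mul_dvd_mul_left 2 h16
    rw [CfsgLib.Linear.PSLTwo.two_mul_card_psl F hodd] at h2
    have hcop : Nat.Coprime 32 (Nat.card F) :=
      Nat.Coprime.pow_left 5 (Nat.coprime_two_left.mpr hodd)
    have h3 : 32 ∣ Nat.card F ^ 2 - 1 := hcop.dvd_of_dvd_mul_left h2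
    obtain ⟨r, hr, k, hk⟩ : ∃ r < 8, ∃ k, Nat.card F = 8 * k + r :=
      ⟨_, Nat.mod_lt _ (by norm_num), _, (Nat.div_add_mod _ 8).symm⟩
    rw [hk] at h3 hodd ⊢
    rw [Nat.odd_iff] at hodd
    interval_cases r <;> first | omega | skip
    · exfalso
      rw [show (8 * k + 3) ^ 2 - 1 = 16 * (4 * k * k + 3 * k) + 8 by ring_nf; omega] at h3
      omega
    · exfalso
      rw [show (8 * k + 5) ^ 2 - 1 = 16 * (4 * k * k + 5 * k + 1) + 8 by ring_nf; omega] at h3
      omega

/-- The translations of the space of order eight. -/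
def translHom : Multiplicative (Fin 3 → ZMod 2) →* Equiv.Perm (Fin 3 → ZMod 2) where
  toFun v := Equiv.addLeft v.toAdd
  map_one' := by ext; simp
  map_mul' a b := by ext; simp [add_assoc]

theorem sign_transl : ∀ v : Fin 3 → ZMod 2,
    Equiv.Perm.sign (Equiv.addLeft v : Equiv.Perm (Fin 3 → ZMod 2)) = 1 := by decide +kernel

theorem witness_alternating {n : ℕ} (hn : 8 ≤ n) : TwoWitness (alternatingGroup (Fin n)) := by
  let f : (Fin 3 → ZMod 2) ≃ {i : Fin n // (i : ℕ) < 8} :=
    Fintype.equivOfCardEq (by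
      simp only [Fintype.card_fun, ZMod.card, Fintype.card_fin]
      rw [Fintype.card_congr
        ({ toFun := fun i => ⟨i.1, i.2⟩
           invFun := fun i => ⟨⟨i, by omega⟩, i.2⟩
           left_inv := fun _ => rfl
           right_inv := fun _ => rfl } : {i : Fin n // (i : ℕ) < 8} ≃ Fin 8), Fintype.card_fin]
      norm_num)
  let φ : Multiplicative (Fin 3 → ZMod 2) →* Equiv.Perm (Fin n) :=
    (Equiv.Perm.extendDomainHom f).comp translHom
  have hφ : ∀ v, φ v ∈ alternatingGroup (Fin n) := fun v => by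
    rw [Equiv.Perm.mem_alternatingGroup]
    show Equiv.Perm.sign ((Equiv.addLeft v.toAdd).extendDomain f) = 1
    rw [Equiv.Perm.sign_extendDomain, sign_transl]
  have hinj : Function.Injective φ := by
    refine (Equiv.Perm.extendDomainHom_injective f).comp fun a b h => ?_
    have := congrArg (fun p : Equiv.Perm (Fin 3 → ZMod 2) => p 0) h
    simpa [translHom] using this
  refine Or.inl (CfsgLib.TwoRankThree.of_hom (φ.codRestrict _ hφ)
    (fun a b h => hinj (congrArg Subtype.val h))
    (fun a => ?_) ?_)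
  · rw [pow_two]
    exact CfsgLib.TwoRankThree.zmod_pi_add_self a.toAdd
  · exact CfsgLib.TwoRankThree.zmod_pi_card.trans_eq (Nat.card_congr Multiplicative.ofAdd)

theorem not_qd_alternating {G : Type u} [Group G] [Finite G] {n : ℕ} (hn : 5 ≤ n)
    (e : G ≃* alternatingGroup (Fin n)) (S : Sylow 2 G) :
    ¬ Cfsg.IsQuasiDihedral (S : Subgroup G) := by
  rcases Nat.lt_or_ge n 8 with h | h
  · refine not_qd_of_not_dvd (fun h16 => ?_) S
    rw [Nat.card_congr e.toEquiv] at h16
    haveI : Nontrivial (Fin n) := Fin.nontrivial_iff_two_le.mpr (by omega)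
    have h2 := Nat.mul_dvd_mul_left 2 h16
    rw [two_mul_nat_card_alternatingGroup, Nat.card_perm, Nat.card_fin] at h2
    interval_cases n <;> simp [Nat.factorial] at h2
  · exact not_qd_of_witness (TwoWitness.of_equiv e (witness_alternating h)) S

theorem not_dvd_psl_small {F : Type} [Field F] [Fintype F] {n : ℕ}
    (h : n = 2 ∧ Fintype.card F = 4 ∨ n = 3 ∧ Fintype.card F = 2) :
    ¬ 16 ∣ Nat.card (Matrix.ProjectiveSpecialLinearGroup (Fin n) F) := by
  rcases h with ⟨rfl, hF⟩ | ⟨rfl, hF⟩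
  · have := Cfsg.Agent.S0243.result hF 2 (by norm_num)
    norm_num [Fin.prod_univ_two] at this
    omega
  · have := Cfsg.Agent.S0243.result hF 3 (by norm_num)
    norm_num [Fin.prod_univ_three] at this
    omega

end CfsgLib.OrderFormula.Weak
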