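import Cfsg.Agent.OrderFormula.Weak.TableExc
import Cfsg.Agent.OrderFormula.Weak.TableSmall
import Cfsg.Agent.OrderFormula.Weak.TableClassical

/-!
# Alternating and Lie type groups with semidihedral Sylow 2-subgroups

Among them only `L₃(q)` and `U₃(q)`, `q` odd, can have semidihedral Sylow 2-subgroups.
-/

set_option autoImplicit false
set_option linter.style.haveILetI false

namespace CfsgLib.OrderFormula.Weak

open Cfsg Subgroup

universe u

theorem table_lie {K : Type u} [Group K] [Finite K] [IsSimpleGroup K] (hK : ¬ IsMulCommutative K)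
    (h : Cfsg.IsPrimeCyclic K ∨ Cfsg.IsAlternating K ∨ Cfsg.IsPSL K ∨ Cfsg.IsPSp K ∨ Cfsg.IsPSU K ∨
      Cfsg.IsPOmegaOdd K ∨ Cfsg.IsPOmegaPlus K ∨ Cfsg.IsPOmegaMinus K ∨ Cfsg.IsExceptionalLieType K)
    (S : Sylow 2 K) (hS : Cfsg.IsQuasiDihedral (S : Subgroup K)) :
    (∃ (F : Type) (_ : Field F) (_ : Fintype F), Odd (Fintype.card F) ∧
      Nonempty (K ≃* Matrix.ProjectiveSpecialLinearGroup (Fin 3) F)) ∨
    (∃ (F : Type) (_ : Field F) (_ : Fintype F) (q : ℕ), Fintype.card F = q ^ 2 ∧ Odd q ∧
      Nonempty (K ≃* Cfsg.PSU 3 F q)) := by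
  have hchar : ∀ {F : Type} [Field F], (2 : F) = 0 → CharP F 2 := fun h =>
    (CharP.charP_iff_prime_eq_zero Nat.prime_two).mpr (by exact_mod_cast h)
  have hodd : ∀ {F : Type} [Field F] [Fintype F], (2 : F) ≠ 0 → Odd (Fintype.card F) := by
    intro F _ _ h2
    refine Nat.odd_iff.mpr (FiniteField.odd_card_of_char_ne_two fun h => h2 ?_)
    haveI := ringChar.of_eq h
    exact CharTwo.two_eq_zero
  have kill : TwoWitness K → False := fun w => not_qd_of_witness w S hS
  rcases h with h | h | h | h | h | h | h | h | h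
  · haveI : Fact (Nat.card K).Prime := ⟨h⟩
    haveI : IsCyclic K := isCyclic_of_prime_card rfl
    exact (hK (inferInstance : IsMulCommutative K)).elim
  · obtain ⟨n, hn, ⟨e⟩⟩ := h
    exact absurd hS (not_qd_alternating hn e S)
  · obtain ⟨F, iF, iFin, n, hn, hq, ⟨e⟩⟩ := h
    by_cases h2 : (2 : F) = 0
    · haveI := hchar h2
      obtain ⟨f, hf, hf'⟩ := CfsgLib.TwoRankThree.card_eq_two_pow (F := F)
      by_cases hsmall : n = 2 ∧ Fintype.card F = 4 ∨ n = 3 ∧ Fintype.card F = 2
      · refine absurd hS (not_qd_of_not_dvd ?_ S)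
        rw [Nat.card_congr e.toEquiv]
        exact not_dvd_psl_small hsmall
      · obtain ⟨k, rfl⟩ : ∃ k, n = k + 1 := ⟨n - 1, by omega⟩
        refine (kill (TwoWitness.of_equiv e (Or.inl (CfsgLib.TwoRankThree.psl k ?_)))).elim
        rw [hf', ← pow_mul]
        refine le_trans (le_of_eq (show 8 = 2 ^ 3 by norm_num)) (Nat.pow_le_pow_right two_pos ?_)
        rcases Nat.lt_or_ge k 3 with hk | hk
        · interval_cases k
          · omega
          · have h4 : 4 ≤ 2 ^ f := hf' ▸ hq rfl
            have : f ≠ 1 := by rintro rfl; norm_num at h4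
            have : f ≠ 2 := by rintro rfl; exact hsmall (Or.inl ⟨rfl, by rw [hf']; norm_num⟩)
            omega
          · have : f ≠ 1 := by rintro rfl; exact hsmall (Or.inr ⟨rfl, by rw [hf']; norm_num⟩)
            omega
        · calc 3 ≤ k := hk
            _ ≤ f * k := Nat.le_mul_of_pos_left k hf
    · rcases Nat.lt_or_ge n 4 with h4 | h4
      · interval_cases n
        · exact absurd hS (not_qd_psl_two (hodd h2) e S)
        · exact Or.inl ⟨F, iF, iFin, hodd h2, ⟨e⟩⟩
      · exact (kill (TwoWitness.of_equiv e (witness_psl h2 h4))).elim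
  · obtain ⟨F, iF, iFin, m, hm, -, ⟨e⟩⟩ := h
    refine (kill (TwoWitness.of_equiv e ?_)).elim
    by_cases h2 : (2 : F) = 0
    · haveI := hchar h2
      exact Or.inl (CfsgLib.TwoRankThree.psp m hm)
    · exact witness_psp h2 hm
  · obtain ⟨F, iF, iFin, n, q, hF, hn, hnq, ⟨e⟩⟩ := h
    by_cases h2 : (2 : F) = 0
    · haveI := hchar h2
      refine (kill (TwoWitness.of_equiv e ?_)).elim
      rcases eq_or_lt_of_le hn with rfl | hn4
      · obtain ⟨f, hf, hf'⟩ := CfsgLib.TwoRankThree.card_eq_two_pow (F := F)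
        have hpp : IsPrimePow q := by
          have : IsPrimePow (q ^ 2) := by
            rw [← hF, hf']
            exact (Nat.prime_two.isPrimePow).pow (by omega)
          exact (isPrimePow_pow_iff two_ne_zero).mp this
        have := hpp.two_le
        have : q ≠ 2 := fun h => hnq ⟨rfl, h⟩
        exact witness_psu_three_even hF (by omega) hpp
      · exact Or.inl (CfsgLib.TwoRankThree.psu hF hn (fun h => absurd h (by omega)))
    · have hq : Odd q := by
        have := hodd h2
        rw [hF, pow_two] at this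
        exact Nat.Odd.of_mul_left this
      rcases eq_or_lt_of_le hn with rfl | hn4
      · exact Or.inr ⟨F, iF, iFin, q, hF, hq, ⟨e⟩⟩
      · exact (kill (TwoWitness.of_equiv e (witness_psu h2 hF hq hn4))).elim
  · obtain ⟨F, iF, iFin, m, hm, ho, ⟨e⟩⟩ := h
    refine (kill (TwoWitness.of_equiv e (witness_omega_odd ho ?_ hm))).elim
    exact fun h => by
      haveI := hchar h
      have := FiniteField.even_card_of_char_two (F := F) (ringChar.eq F 2)
      rw [Nat.odd_iff] at ho
      omega
  · obtain ⟨F, iF, iFin, m, hm, ⟨e⟩⟩ := h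
    refine (kill (TwoWitness.of_equiv e ?_)).elim
    by_cases h2 : (2 : F) = 0
    · haveI := hchar h2
      exact Or.inl (CfsgLib.TwoRankThree.omegaPlus m hm)
    · exact witness_omega_plus (hodd h2) h2 hm
  · obtain ⟨F, iF, iFin, m, a, b, hm, hab, ⟨e⟩⟩ := h
    refine (kill (TwoWitness.of_equiv e ?_)).elim
    by_cases h2 : (2 : F) = 0
    · haveI := hchar h2
      exact Or.inl (CfsgLib.TwoRankThree.omegaMinus (m - 1) (by omega) a b hab)
    · exact witness_omega_minus (hodd h2) h2 hm a b hab
  · exact (kill (witness_exceptional h)).elim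

end CfsgLib.OrderFormula.Weak
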