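import Cfsg.Agent.OrderFormula.Weak.WitnessBasic
import Cfsg.Agent.Invol.CentralizerPattern

/-!
# Witnesses against semidihedral Sylow 2-subgroups: three commuting involutions
-/

set_option autoImplicit false
set_option linter.unusedSectionVars false

namespace CfsgLib.OrderFormula.Weak

open Cfsg Subgroup

universe u

section Three

variable {G : Type u} [Group G] {x y z : G}

/-- The seven conditions that make three commuting involutions independent. -/
def Indep (x y z : G) : Prop :=
  x ≠ 1 ∧ y ≠ 1 ∧ z ≠ 1 ∧ x ≠ y ∧ x ≠ z ∧ y ≠ z ∧ z ≠ x * y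

/-- Three independent commuting involutions give a witness. -/
theorem witness_of_three (hx : x * x = 1) (hy : y * y = 1) (hz : z * z = 1) (hxy : Commute x y)
    (hxz : Commute x z) (hyz : Commute y z) (h : Indep x y z) : TwoWitness G := by
  obtain ⟨h1, h2, h3, h4, h5, h6, h7⟩ := h
  refine Or.inl ?_
  let p : G → ZMod 2 → G := fun w a => if a = 0 then 1 else w
  have key : ∀ w : G, w * w = 1 → ∀ a b : ZMod 2, p w (a + b) = p w a * p w b := by
    intro w hw a b
    have hc : ∀ c : ZMod 2, c = 0 ∨ c = 1 := by decide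
    rcases hc a with rfl | rfl <;> rcases hc b with rfl | rfl <;>
      simp [p, hw, show (1 : ZMod 2) + 1 = 0 from rfl]
  have hcp : ∀ v w : G, Commute v w → ∀ a b : ZMod 2, Commute (p v a) (p w b) := by
    intro v w hvw a b
    simp only [p]
    split_ifs <;> first | exact Commute.one_left _ | exact Commute.one_right _ | exact hvw
  refine CfsgLib.TwoRankThree.of_add (V := Fin 3 → ZMod 2)
    (fun v => p x (v 0) * p y (v 1) * p z (v 2)) (fun v w => ?_) (fun v hv => ?_)
    CfsgLib.TwoRankThree.zmod_pi_add_self CfsgLib.TwoRankThree.zmod_pi_card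
  · simp only [Pi.add_apply, key x hx, key y hy, key z hz]
    have e1 := (hcp y x hxy.symm (v 1) (w 0)).eq
    have e2 := (hcp z x hxz.symm (v 2) (w 0)).eq
    have e3 := (hcp z y hyz.symm (v 2) (w 1)).eq
    calc p x (v 0) * p x (w 0) * (p y (v 1) * p y (w 1)) * (p z (v 2) * p z (w 2))
        = p x (v 0) * (p x (w 0) * p y (v 1)) * (p y (w 1) * p z (v 2)) * p z (w 2) := by group
      _ = p x (v 0) * (p y (v 1) * p x (w 0)) * (p z (v 2) * p y (w 1)) * p z (w 2) := by rw [e1, e3]
      _ = p x (v 0) * p y (v 1) * (p x (w 0) * p z (v 2)) * (p y (w 1) * p z (w 2)) := by group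
      _ = p x (v 0) * p y (v 1) * (p z (v 2) * p x (w 0)) * (p y (w 1) * p z (w 2)) := by rw [e2]
      _ = _ := by group
  · have hc : ∀ c : ZMod 2, c = 0 ∨ c = 1 := by decide
    have cancel : ∀ {a b : G}, b * b = 1 → a * b = 1 → a = b := fun {a b} hb h =>
      (eq_inv_of_mul_eq_one_left h).trans (inv_eq_of_mul_eq_one_left hb)
    rcases hc (v 0) with e0 | e0 <;> rcases hc (v 1) with e1 | e1 <;> rcases hc (v 2) with e2 | e2 <;>
      simp only [p, e0, e1, e2, if_true, one_ne_zero, if_false, one_mul, mul_one] at hv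
    · funext i; fin_cases i <;> assumption
    · exact absurd hv h3
    · exact absurd hv h2
    · exact absurd (cancel hz hv) h6
    · exact absurd hv h1
    · exact absurd (cancel hz hv) h5
    · exact absurd (cancel hy hv) h4
    · exact absurd (cancel hz hv).symm h7

/-- In a group with semidihedral Sylow 2-subgroups three commuting involutions are dependent. -/
theorem dependent_of_qd [Finite G] (S : Sylow 2 G) (hS : Cfsg.IsQuasiDihedral (S : Subgroup G))
    (hx : x * x = 1) (hy : y * y = 1) (hz : z * z = 1) (hxy : Commute x y) (hxz : Commute x z)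
    (hyz : Commute y z) : x = 1 ∨ y = 1 ∨ z = 1 ∨ x = y ∨ x = z ∨ y = z ∨ z = x * y := by
  by_contra h
  simp only [not_or] at h
  exact not_qd_of_witness (witness_of_three hx hy hz hxy hxz hyz h) S hS

end Three

/-- Transport of semidihedral Sylow 2-subgroups to an isomorphic group. -/
theorem exists_qd_of_equiv {K : Type u} [Group K] [Finite K] {P : Type*} [Group P] (e : K ≃* P)
    (S : Sylow 2 K) (hS : Cfsg.IsQuasiDihedral (S : Subgroup K)) :
    Finite P ∧ ∃ T : Sylow 2 P, Cfsg.IsQuasiDihedral (T : Subgroup P) :=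
  ⟨Finite.of_equiv K e.toEquiv, S.mapSurjective (f := e.toMonoidHom) e.surjective,
    InvolPattern.isQuasiDihedral_congr
      ((S : Subgroup K).equivMapOfInjective e.toMonoidHom e.injective) hS⟩

end CfsgLib.OrderFormula.Weak
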