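import Cfsg.Agent.OrderFormula.Weak.TableSporBasic
import Cfsg.Agent.CTwoAbelian.Presented
import Cfsg.Agent.KGroup.Basic

/-!
# The Fischer groups and the two monsters have no semidihedral Sylow 2-subgroups

With three commuting nodes dependent, two joined nodes coincide and the presentation collapses.
-/

set_option autoImplicit false
set_option linter.unusedSectionVars false
set_option maxRecDepth 100000

namespace CfsgLib.OrderFormula.Weak

open Cfsg Cfsg.Spor CfsgLib.CTwoAbelian

universe u

section Cox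

variable {α : Type} [DecidableEq α] {edges : List (α × ℕ × α)} {extra : List (FreeGroup α)}

/-- Add the nodes forced to equal those of `P`. -/
def grow (edges : List (α × ℕ × α)) (P : List α) : List α :=
  P ++ (coxNodes edges).filter fun u =>
    (P.any fun v => coxLabel edges u v == 3) && (P.any fun w => coxLabel edges u w == 2)

/-- Add the nodes joined to those of `P`. -/
def growAb (edges : List (α × ℕ × α)) (P : List α) : List α :=
  P ++ (coxNodes edges).filter fun u => P.any fun v => coxLabel edges u v == 3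

theorem grow_sound {P : List α} {c : CoxPresented α edges extra}
    (hP : ∀ v ∈ P, v ∈ coxNodes edges ∧ gn (edges := edges) (extra := extra) v = c) :
    ∀ v ∈ grow edges P, v ∈ coxNodes edges ∧ gn (edges := edges) (extra := extra) v = c := by
  intro u hu
  rcases List.mem_append.1 hu with h | h
  · exact hP u h
  · simp only [List.mem_filter, Bool.and_eq_true, List.any_eq_true, beq_iff_eq] at h
    obtain ⟨hn, ⟨v, hv, h3⟩, w, hw, h2⟩ := h
    exact ⟨hn, (gn_step ⟨⟨hn, (hP v hv).1, (hP w hw).1⟩, h3, h2⟩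
      ((hP v hv).2.trans (hP w hw).2.symm)).trans (hP v hv).2⟩

theorem growAb_sound {P : List α} {c : Abelianization (CoxPresented α edges extra)}
    (hP : ∀ v ∈ P, v ∈ coxNodes edges ∧
      Abelianization.of (gn (edges := edges) (extra := extra) v) = c) :
    ∀ v ∈ growAb edges P, v ∈ coxNodes edges ∧
      Abelianization.of (gn (edges := edges) (extra := extra) v) = c := by
  intro u hu
  rcases List.mem_append.1 hu with h | h
  · exact hP u h
  · simp only [List.mem_filter, List.any_eq_true, beq_iff_eq] at h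
    obtain ⟨hn, v, hv, h3⟩ := h
    exact ⟨hn, (ab_eq ⟨⟨hn, (hP v hv).1⟩, h3⟩).trans (hP v hv).2⟩

/-- Two equal joined nodes collapse a connected graph. -/
theorem collapse {v w : α} (k : ℕ) (hv : v ∈ coxNodes edges) (hw : w ∈ coxNodes edges)
    (e : gn (edges := edges) (extra := extra) w = gn v)
    (hall : ∀ x : α, x ∈ (grow edges)^[k] [w, v]) :
    IsMulCommutative (CoxPresented α edges extra) := by
  refine comm_of_gn_eq (c := gn v) fun x => ?_
  have h : ∀ n, ∀ u ∈ (grow edges)^[n] [w, v],
      u ∈ coxNodes edges ∧ gn (edges := edges) (extra := extra) u = gn v := by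
    intro n
    induction n with
    | zero =>
      intro u hu
      simp only [Function.iterate_zero, id, List.mem_cons, List.not_mem_nil, or_false] at hu
      rcases hu with rfl | rfl
      exacts [⟨hw, e⟩, ⟨hv, rfl⟩]
    | succ n ih =>
      rw [Function.iterate_succ_apply']
      exact grow_sound ih
  exact (h k x (hall x)).2

/-- A node joined to a trivial node is trivial. -/
theorem eq_of_one {w x : α} (hw : w ∈ coxNodes edges) (hx : x ∈ coxNodes edges)
    (h3 : coxLabel edges w x = 3) (e : gn (edges := edges) (extra := extra) x = 1) :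
    gn (edges := edges) (extra := extra) w = gn x :=
  eq_of_comm_three (gn_sq w hw) (gn_sq x hx) (gn_rel w x hw hx h3) (by rw [e, one_mul, mul_one])

/-- A node joined to a node equal to one commuting with it. -/
theorem eq_of_eq {w x y : α} (hw : w ∈ coxNodes edges) (hx : x ∈ coxNodes edges)
    (hy : y ∈ coxNodes edges) (h3 : coxLabel edges w x = 3) (h2 : coxLabel edges w y = 2)
    (e : gn (edges := edges) (extra := extra) x = gn y) :
    gn (edges := edges) (extra := extra) w = gn x :=
  gn_step ⟨⟨hw, hx, hy⟩, h3, h2⟩ e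

/-- A node joined to a product of nodes commuting with it. -/
theorem eq_of_prod {w z : α} (hw : w ∈ coxNodes edges) (hz : z ∈ coxNodes edges)
    (h3 : coxLabel edges w z = 3) {g : CoxPresented α edges extra}
    (hg : Commute (gn (edges := edges) (extra := extra) w) g)
    (e : gn (edges := edges) (extra := extra) z = g) :
    gn (edges := edges) (extra := extra) w = gn z :=
  eq_of_comm_three (gn_sq w hw) (gn_sq z hz) (gn_rel w z hw hz h3) (by rw [e]; exact hg.eq)

/-- The pattern of three nodes with private neighbours. -/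
def Pattern (edges : List (α × ℕ × α)) (x y z a b c : α) : Prop :=
  (x ∈ coxNodes edges ∧ y ∈ coxNodes edges ∧ z ∈ coxNodes edges) ∧
  (a ∈ coxNodes edges ∧ b ∈ coxNodes edges ∧ c ∈ coxNodes edges) ∧
  (coxLabel edges x y = 2 ∧ coxLabel edges x z = 2 ∧ coxLabel edges y z = 2) ∧
  (coxLabel edges a x = 3 ∧ coxLabel edges a y = 2 ∧ coxLabel edges a z = 2) ∧
  (coxLabel edges b y = 3 ∧ coxLabel edges b x = 2 ∧ coxLabel edges b z = 2) ∧
  (coxLabel edges c z = 3 ∧ coxLabel edges c x = 2 ∧ coxLabel edges c y = 2)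

instance (edges : List (α × ℕ × α)) (x y z a b c : α) : Decidable (Pattern edges x y z a b c) := by
  unfold Pattern; infer_instance

/-- Dependent nodes give two equal joined nodes. -/
theorem joined_of_dep {x y z a b c : α} (hp : Pattern edges x y z a b c)
    (h : gn (edges := edges) (extra := extra) x = 1 ∨ gn (edges := edges) (extra := extra) y = 1 ∨
      gn (edges := edges) (extra := extra) z = 1 ∨
      gn (edges := edges) (extra := extra) x = gn y ∨ gn (edges := edges) (extra := extra) x = gn z ∨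
      gn (edges := edges) (extra := extra) y = gn z ∨
      gn (edges := edges) (extra := extra) z = gn x * gn y) :
    gn (edges := edges) (extra := extra) a = gn x ∨ gn (edges := edges) (extra := extra) b = gn y ∨
      gn (edges := edges) (extra := extra) c = gn z := by
  obtain ⟨⟨hx, hy, hz⟩, ⟨ha, hb, hc⟩, -, ⟨a3, a2, a2'⟩, ⟨b3, -, b2'⟩, c3, c2, c2'⟩ := hp
  rcases h with h | h | h | h | h | h | h
  · exact Or.inl (eq_of_one ha hx a3 h)
  · exact Or.inr (Or.inl (eq_of_one hb hy b3 h))
  · exact Or.inr (Or.inr (eq_of_one hc hz c3 h))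
  · exact Or.inl (eq_of_eq ha hx hy a3 a2 h)
  · exact Or.inl (eq_of_eq ha hx hz a3 a2' h)
  · exact Or.inr (Or.inl (eq_of_eq hb hy hz b3 b2' h))
  · exact Or.inr (Or.inr (eq_of_prod hc hz c3
      ((show Commute (gn c) (gn x) from gn_comm c x hc hx c2).mul_right (gn_comm c y hc hy c2')) h))

/-- A presented group with the pattern has no semidihedral Sylow 2-subgroup. -/
theorem comm_of_qd [Finite (CoxPresented α edges extra)] {x y z a b c : α}
    (hp : Pattern edges x y z a b c) (T : Sylow 2 (CoxPresented α edges extra))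
    (hT : Cfsg.IsQuasiDihedral (T : Subgroup (CoxPresented α edges extra))) (k : ℕ)
    (hall : (∀ u, u ∈ (grow edges)^[k] [a, x]) ∧ (∀ u, u ∈ (grow edges)^[k] [b, y]) ∧
      ∀ u, u ∈ (grow edges)^[k] [c, z]) :
    IsMulCommutative (CoxPresented α edges extra) := by
  have hp' := hp
  obtain ⟨⟨hx, hy, hz⟩, ⟨ha, hb, hc⟩, ⟨cxy, cxz, cyz⟩, -⟩ := hp'
  rcases joined_of_dep hp (dependent_of_qd T hT (gn_sq x hx) (gn_sq y hy) (gn_sq z hz)
    (gn_comm x y hx hy cxy) (gn_comm x z hx hz cxz) (gn_comm y z hy hz cyz)) with h | h | h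
  · exact collapse k hx ha h hall.1
  · exact collapse k hy hb h hall.2.1
  · exact collapse k hz hc h hall.2.2

/-- The twisted form in a subgroup containing the products with a fourth node. -/
theorem comm_of_qd_twisted {H : Subgroup (CoxPresented α edges extra)} [Finite H] {x y z a b c m : α}
    (hp : Pattern edges x y z a b c) (hm : m ∈ coxNodes edges ∧
      coxLabel edges x m = 2 ∧ coxLabel edges y m = 2 ∧ coxLabel edges z m = 2 ∧
      coxLabel edges a m = 2 ∧ coxLabel edges b m = 2 ∧ coxLabel edges c m = 2)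
    (hxH : gn x * gn m ∈ H) (hyH : gn y * gn m ∈ H) (hzH : gn z * gn m ∈ H) (T : Sylow 2 H)
    (hT : Cfsg.IsQuasiDihedral (T : Subgroup H)) (k : ℕ)
    (hall : (∀ u, u ∈ (grow edges)^[k] [a, x]) ∧ (∀ u, u ∈ (grow edges)^[k] [b, y]) ∧
      ∀ u, u ∈ (grow edges)^[k] [c, z]) :
    IsMulCommutative (CoxPresented α edges extra) := by
  have hp' := hp
  obtain ⟨⟨hx, hy, hz⟩, ⟨ha, hb, hc⟩, ⟨cxy, cxz, cyz⟩, ⟨a3, a2, a2'⟩, ⟨b3, b2, b2'⟩, c3, c2, c2'⟩ :=
    hp'
  obtain ⟨hm, xm, ym, zm, am, bm, cm⟩ := hm
  have sm := gn_sq (extra := extra) m hm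
  have C : ∀ {u v : α}, u ∈ coxNodes edges → v ∈ coxNodes edges → coxLabel edges u v = 2 →
      Commute (gn (edges := edges) (extra := extra) u) (gn v) := fun hu hv h => gn_comm _ _ hu hv h
  have sq : ∀ {u : α} (hu : u ∈ coxNodes edges) (hum : coxLabel edges u m = 2) (h : gn u * gn m ∈ H),
      (⟨_, h⟩ : H) * ⟨_, h⟩ = 1 := fun {u} hu hum h => Subtype.ext (by
    show gn u * gn m * (gn u * gn m) = 1
    rw [show gn u * gn m * (gn u * gn m) = gn u * (gn m * gn u) * gn m by group,
      ← (C hu hm hum).eq, ← mul_assoc, gn_sq u hu, one_mul, sm])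
  have cc : ∀ {u v : α} (hu : u ∈ coxNodes edges) (hv : v ∈ coxNodes edges)
      (huv : coxLabel edges u v = 2) (hum : coxLabel edges u m = 2) (hvm : coxLabel edges v m = 2)
      (h : gn u * gn m ∈ H) (h' : gn v * gn m ∈ H), Commute (⟨_, h⟩ : H) ⟨_, h'⟩ :=
    fun {u v} hu hv huv hum hvm _ _ => Subtype.ext
      ((((C hu hv huv).mul_right (C hu hm hum)).mul_left
        ((C hv hm hvm).symm.mul_right (Commute.refl _))).eq)
  have key : gn (edges := edges) (extra := extra) a = gn x ∨
      gn (edges := edges) (extra := extra) b = gn y ∨ gn (edges := edges) (extra := extra) c = gn z := by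
    have minv : (gn (edges := edges) (extra := extra) m)⁻¹ = gn m := inv_eq_of_mul_eq_one_right sm
    rcases dependent_of_qd T hT (sq hx xm hxH) (sq hy ym hyH) (sq hz zm hzH)
      (cc hx hy cxy xm ym hxH hyH) (cc hx hz cxz xm zm hxH hzH) (cc hy hz cyz ym zm hyH hzH)
      with h | h | h | h | h | h | h
    all_goals replace h := congrArg Subtype.val h
    · exact Or.inl (eq_of_eq ha hx hm a3 am
        ((eq_inv_of_mul_eq_one_left h).trans minv))
    · exact Or.inr (Or.inl (eq_of_eq hb hy hm b3 bm
        ((eq_inv_of_mul_eq_one_left h).trans minv)))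
    · exact Or.inr (Or.inr (eq_of_eq hc hz hm c3 cm
        ((eq_inv_of_mul_eq_one_left h).trans minv)))
    · exact Or.inl (eq_of_eq ha hx hy a3 a2 (mul_right_cancel h))
    · exact Or.inl (eq_of_eq ha hx hz a3 a2' (mul_right_cancel h))
    · exact Or.inr (Or.inl (eq_of_eq hb hy hz b3 b2' (mul_right_cancel h)))
    · refine Or.inr (Or.inr (eq_of_prod hc hz c3 (g := gn x * gn m * gn y) ?_ ?_))
      · exact ((C hc hx c2).mul_right (C hc hm cm)).mul_right (C hc hy c2')
      · refine mul_right_cancel (b := gn m) ?_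
        rw [show gn z * gn m = gn x * gn m * (gn y * gn m) from h]
        group
  rcases key with h | h | h
  · exact collapse k hx ha h hall.1
  · exact collapse k hy hb h hall.2.1
  · exact collapse k hz hc h hall.2.2

/-- Products of two nodes of a connected graph lie in the commutator subgroup. -/
theorem mul_mem_comm {r : α} (k : ℕ) (hr : r ∈ coxNodes edges)
    (hall : ∀ u : α, u ∈ (growAb edges)^[k] [r]) (u v : α) :
    gn (edges := edges) (extra := extra) u * gn v ∈ commutator (CoxPresented α edges extra) := by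
  have h : ∀ n, ∀ w ∈ (growAb edges)^[n] [r], w ∈ coxNodes edges ∧
      Abelianization.of (gn (edges := edges) (extra := extra) w) = Abelianization.of (gn r) := by
    intro n
    induction n with
    | zero =>
      intro w hw
      simp only [Function.iterate_zero, id, List.mem_singleton] at hw
      subst hw
      exact ⟨hr, rfl⟩
    | succ n ih =>
      rw [Function.iterate_succ_apply']
      exact growAb_sound ih
  exact mul_mem_commutator (h k v (hall v)).1 ((h k u (hall u)).2.trans (h k v (hall v)).2.symm)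

end Cox

theorem fi22_not_qd {K : Type u} [Group K] [Finite K] (hK : ¬ IsMulCommutative K)
    (h : Spor.IsoFi22 K) (S : Sylow 2 K) : ¬ Cfsg.IsQuasiDihedral (S : Subgroup K) := by
  intro hS
  obtain ⟨e⟩ := h
  obtain ⟨hf, T, hT⟩ := exists_qd_of_equiv e S hS
  refine CfsgLib.KGroup.not_isMulCommutative_of_mulEquiv e.symm hK ?_
  exact comm_of_qd (x := Fi22.Gen.a) (y := Fi22.Gen.g) (z := Fi22.Gen.i) (a := Fi22.Gen.b)
    (b := Fi22.Gen.f) (c := Fi22.Gen.h) (by decide) T hT 9
    ⟨fun u => by cases u <;> decide, fun u => by cases u <;> decide, fun u => by cases u <;> decide⟩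

theorem fi23_not_qd {K : Type u} [Group K] [Finite K] (hK : ¬ IsMulCommutative K)
    (h : Spor.IsoFi23 K) (S : Sylow 2 K) : ¬ Cfsg.IsQuasiDihedral (S : Subgroup K) := by
  intro hS
  obtain ⟨e⟩ := h
  obtain ⟨hf, T, hT⟩ := exists_qd_of_equiv e S hS
  refine CfsgLib.KGroup.not_isMulCommutative_of_mulEquiv e.symm hK ?_
  exact comm_of_qd (x := Fi23.Gen.a) (y := Fi23.Gen.j) (z := Fi23.Gen.i) (a := Fi23.Gen.b)
    (b := Fi23.Gen.g) (c := Fi23.Gen.h) (by decide) T hT 10
    ⟨fun u => by cases u <;> decide, fun u => by cases u <;> decide, fun u => by cases u <;> decide⟩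

theorem baby_not_qd {K : Type u} [Group K] [Finite K] (hK : ¬ IsMulCommutative K)
    (h : Spor.IsoB K) (S : Sylow 2 K) : ¬ Cfsg.IsQuasiDihedral (S : Subgroup K) := by
  intro hS
  obtain ⟨e⟩ := h
  obtain ⟨hf, T, hT⟩ := exists_qd_of_equiv e S hS
  refine CfsgLib.KGroup.not_isMulCommutative_of_mulEquiv e.symm hK ?_
  exact comm_of_qd (x := BabyMonster.Gen.t1) (y := BabyMonster.Gen.t8) (z := BabyMonster.Gen.t11)
    (a := BabyMonster.Gen.t2) (b := BabyMonster.Gen.t7) (c := BabyMonster.Gen.t10) (by decide) T hT 11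
    ⟨fun u => by cases u <;> decide, fun u => by cases u <;> decide, fun u => by cases u <;> decide⟩

theorem fi24'_not_qd {K : Type u} [Group K] [Finite K] (hK : ¬ IsMulCommutative K)
    (h : Spor.IsoFi24' K) (S : Sylow 2 K) : ¬ Cfsg.IsQuasiDihedral (S : Subgroup K) := by
  intro hS
  obtain ⟨e⟩ := h
  obtain ⟨hf, T, hT⟩ := exists_qd_of_equiv e S hS
  refine CfsgLib.KGroup.not_isMulCommutative_of_mulEquiv e.symm hK ?_
  have hmem := mul_mem_comm (edges := Fi24.edges) (extra := Fi24.extra) (r := Fi24.Gen.d) 8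
    (by decide) (fun u => by cases u <;> decide)
  have hc := comm_of_qd_twisted (x := Fi24.Gen.l) (y := Fi24.Gen.j) (z := Fi24.Gen.i)
    (a := Fi24.Gen.k) (b := Fi24.Gen.g) (c := Fi24.Gen.h) (m := Fi24.Gen.c) (by decide) (by decide)
    (hmem _ _) (hmem _ _) (hmem _ _) T hT 12
    ⟨fun u => by cases u <;> decide, fun u => by cases u <;> decide, fun u => by cases u <;> decide⟩
  exact ⟨⟨fun p q => Subtype.ext (hc.is_comm.comm _ _)⟩⟩

theorem monster_not_qd {K : Type u} [Group K] [Finite K] (hK : ¬ IsMulCommutative K)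
    (h : Spor.IsoM K) (S : Sylow 2 K) : ¬ Cfsg.IsQuasiDihedral (S : Subgroup K) := by
  intro hS
  obtain ⟨e⟩ := h
  obtain ⟨hf, T, hT⟩ := exists_qd_of_equiv e S hS
  refine CfsgLib.KGroup.not_isMulCommutative_of_mulEquiv e.symm hK ?_
  have hmem := mul_mem_comm (edges := Bimonster.edges) (extra := Bimonster.extra)
    (r := Bimonster.Gen.a) 6 (by decide) (fun u => by cases u <;> decide)
  have hcen : ∀ u : Bimonster.Gen, u ∈ coxNodes Bimonster.edges →
      coxLabel Bimonster.edges u .a = 2 → coxLabel Bimonster.edges .c1 .a = 2 →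
      gn (edges := Bimonster.edges) (extra := Bimonster.extra) u * gn .c1 ∈
        Subgroup.centralizer {(PresentedGroup.of Bimonster.Gen.a : Bimonster)} ⊓ commutator Bimonster := by
    intro u hu h1 h2
    refine ⟨Subgroup.mem_centralizer_singleton_iff.2 ?_, hmem _ _⟩
    exact ((show Commute (gn u) (gn Bimonster.Gen.a) from gn_comm u .a hu (by decide) h1).mul_left
      (gn_comm Bimonster.Gen.c1 .a (by decide) (by decide) h2)).eq
  have hc := comm_of_qd_twisted (x := Bimonster.Gen.f1) (y := Bimonster.Gen.f2) (z := Bimonster.Gen.f3)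
    (a := Bimonster.Gen.e1) (b := Bimonster.Gen.e2) (c := Bimonster.Gen.e3) (m := Bimonster.Gen.c1)
    (by decide) (by decide) (hcen _ (by decide) (by decide) (by decide))
    (hcen _ (by decide) (by decide) (by decide)) (hcen _ (by decide) (by decide) (by decide)) T hT 16
    ⟨fun u => by cases u <;> decide, fun u => by cases u <;> decide, fun u => by cases u <;> decide⟩
  exact ⟨⟨fun p q => Subtype.ext (hc.is_comm.comm _ _)⟩⟩

end CfsgLib.OrderFormula.Weak
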