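import Cfsg.Agent.OrderFormula.Weak.TableSporBasic
import Cfsg.Agent.CTwoAbelian.Mathieu
import Cfsg.Agent.J4Local.M22ElemData

/-!
# The groups containing `M₂₂` have no semidihedral Sylow 2-subgroups
-/

set_option autoImplicit false
set_option linter.unusedSectionVars false

namespace CfsgLib.OrderFormula.Weak

open Cfsg CfsgLib.Golay CfsgLib.Golay.SylowCert

universe u

/-- Three commuting involutions of `M₂₂`. -/
def e8L (i : ℕ) : List ℕ := CfsgLib.J4Local.M22Elem.sixteenA.getD i []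

theorem e8L_in : In22 (e8L 0) ∧ In22 (e8L 1) ∧ In22 (e8L 2) := by
  refine ⟨?_, ?_, ?_⟩ <;> decide +kernel

theorem e8_rels : (permL (e8L 0) * permL (e8L 0) = 1 ∧ permL (e8L 1) * permL (e8L 1) = 1 ∧
    permL (e8L 2) * permL (e8L 2) = 1) ∧ (permL (e8L 0) * permL (e8L 1) = permL (e8L 1) * permL (e8L 0) ∧
    permL (e8L 0) * permL (e8L 2) = permL (e8L 2) * permL (e8L 0) ∧
    permL (e8L 1) * permL (e8L 2) = permL (e8L 2) * permL (e8L 1)) := by
  refine ⟨⟨?_, ?_, ?_⟩, ?_, ?_, ?_⟩ <;> decide +kernel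

/-- The seven products do not commute with an element of `M₁₁`. -/
theorem e8_moves : (permL (e8L 0) * m11x ≠ m11x * permL (e8L 0) ∧
    permL (e8L 1) * m11x ≠ m11x * permL (e8L 1) ∧ permL (e8L 2) * m11x ≠ m11x * permL (e8L 2)) ∧
    permL (e8L 0) * permL (e8L 1) * m11x ≠ m11x * (permL (e8L 0) * permL (e8L 1)) ∧
    permL (e8L 0) * permL (e8L 2) * m11x ≠ m11x * (permL (e8L 0) * permL (e8L 2)) ∧
    permL (e8L 1) * permL (e8L 2) * m11x ≠ m11x * (permL (e8L 1) * permL (e8L 2)) ∧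
    permL (e8L 0) * permL (e8L 1) * permL (e8L 2) * m11x ≠
      m11x * (permL (e8L 0) * permL (e8L 1) * permL (e8L 2)) := by
  refine ⟨⟨?_, ?_, ?_⟩, ?_, ?_, ?_, ?_⟩ <;> decide +kernel

/-- The elements in `M₂₄`. -/
def el0 : M24 := ⟨_, (permL_mem_M22 e8L_in.1).1.1⟩
/-- The elements in `M₂₄`. -/
def el1 : M24 := ⟨_, (permL_mem_M22 e8L_in.2.1).1.1⟩
/-- The elements in `M₂₄`. -/
def el2 : M24 := ⟨_, (permL_mem_M22 e8L_in.2.2).1.1⟩

attribute [local irreducible] permL e8L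

/-- A map of `M₂₄` whose central part is small gives a witness. -/
theorem witness_of_m24_hom {G : Type u} [Group G] (f : M24 →* G)
    (hf : ∀ σ : M24, f σ = 1 → (σ : Equiv.Perm GolayPt) * m11x = m11x * σ) :
    TwoWitness G := by
  obtain ⟨⟨s0, s1, s2⟩, c01, c02, c12⟩ := e8_rels
  obtain ⟨⟨n0, n1, n2⟩, n01, n02, n12, n012⟩ := e8_moves
  have sq : ∀ {a : M24}, (a : Equiv.Perm GolayPt) * a = 1 → f a * f a = 1 := fun {a} h => by
    rw [← map_mul, show a * a = 1 from Subtype.ext h, map_one]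
  have cm : ∀ {a b : M24}, (a : Equiv.Perm GolayPt) * b = b * a → Commute (f a) (f b) := fun {a b} h =>
    (show Commute a b from Subtype.ext h).map f
  have ne : ∀ {a : M24}, (a : Equiv.Perm GolayPt) * m11x ≠ m11x * a → f a ≠ 1 := fun h e => h (hf _ e)
  have ne2 : ∀ {a b : M24}, (b : Equiv.Perm GolayPt) * b = 1 →
      (a : Equiv.Perm GolayPt) * b * m11x ≠ m11x * (a * b) → f a ≠ f b := fun {a b} hb h e =>
    ne (a := a * b) h (by rw [map_mul, e, sq hb])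
  refine witness_of_three (x := f el0) (y := f el1) (z := f el2) (sq s0) (sq s1) (sq s2) (cm c01)
    (cm c02) (cm c12) ⟨ne n0, ne n1, ne n2, ne2 s1 n01, ne2 s2 n02, ne2 s2 n12, ?_⟩
  rw [← map_mul]
  exact (ne2 (a := el0 * el1) (b := el2) s2 n012).symm

theorem witness_M24 : TwoWitness M24 :=
  witness_of_m24_hom (MonoidHom.id M24) fun σ h => by
    change σ = 1 at h
    rw [h, OneMemClass.coe_one, one_mul, mul_one]

/-- A subgroup containing the three elements. -/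
theorem witness_sub {X : Type u} [Group X] (H : Subgroup X) (f : M24 →* X) (hf : Function.Injective f)
    (h0 : f el0 ∈ H) (h1 : f el1 ∈ H) (h2 : f el2 ∈ H) : TwoWitness H := by
  obtain ⟨⟨s0, s1, s2⟩, c01, c02, c12⟩ := e8_rels
  obtain ⟨⟨n0, n1, n2⟩, n01, n02, n12, n012⟩ := e8_moves
  have sq : ∀ {a : M24} (ha : f a ∈ H), (a : Equiv.Perm GolayPt) * a = 1 →
      (⟨f a, ha⟩ : H) * ⟨f a, ha⟩ = 1 := fun {a} ha h => Subtype.ext (by
    show f a * f a = 1
    rw [← map_mul, show a * a = 1 from Subtype.ext h, map_one])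
  have cm : ∀ {a b : M24} (ha : f a ∈ H) (hb : f b ∈ H), (a : Equiv.Perm GolayPt) * b = b * a →
      Commute (⟨f a, ha⟩ : H) ⟨f b, hb⟩ := fun {a b} _ _ h =>
    Subtype.ext ((show Commute a b from Subtype.ext h).map f)
  have ne : ∀ {a : M24}, (a : Equiv.Perm GolayPt) * m11x ≠ m11x * a → a ≠ 1 := fun {a} h e => h (by
    rw [e, OneMemClass.coe_one, one_mul, mul_one])
  have ne2 : ∀ {a b : M24}, (b : Equiv.Perm GolayPt) * b = 1 →
      (a : Equiv.Perm GolayPt) * b * m11x ≠ m11x * (a * b) → a ≠ b := fun {a b} hb h e =>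
    ne (a := a * b) h (by rw [e]; exact Subtype.ext hb)
  have inj : ∀ {a b : M24} (ha : f a ∈ H) (hb : f b ∈ H), a ≠ b →
      (⟨f a, ha⟩ : H) ≠ ⟨f b, hb⟩ := fun _ _ h e => h (hf (congrArg Subtype.val e))
  have inj1 : ∀ {a : M24} (ha : f a ∈ H), a ≠ 1 → (⟨f a, ha⟩ : H) ≠ 1 := fun _ h e =>
    h (hf ((congrArg Subtype.val e).trans (map_one f).symm))
  refine witness_of_three (x := (⟨_, h0⟩ : H)) (y := ⟨_, h1⟩) (z := ⟨_, h2⟩) (sq h0 s0) (sq h1 s1)
    (sq h2 s2) (cm h0 h1 c01) (cm h0 h2 c02) (cm h1 h2 c12)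
    ⟨inj1 h0 (ne n0), inj1 h1 (ne n1), inj1 h2 (ne n2), inj h0 h1 (ne2 s1 n01), inj h0 h2 (ne2 s2 n02),
      inj h1 h2 (ne2 s2 n12), fun e => ne2 (a := el0 * el1) (b := el2) s2 n012 (hf ?_)⟩
  rw [map_mul]
  exact (congrArg Subtype.val e).symm

theorem el_mem_M22 : ((el0 : M24) : Equiv.Perm GolayPt) ∈ Spor.M22 ∧
    ((el1 : M24) : Equiv.Perm GolayPt) ∈ Spor.M22 ∧ ((el2 : M24) : Equiv.Perm GolayPt) ∈ Spor.M22 :=
  ⟨permL_mem_M22 e8L_in.1, permL_mem_M22 e8L_in.2.1, permL_mem_M22 e8L_in.2.2⟩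

theorem witness_M23 : TwoWitness Spor.M23 :=
  witness_sub Spor.M23 M24.subtype M24.subtype_injective el_mem_M22.1.1 el_mem_M22.2.1.1
    el_mem_M22.2.2.1

theorem witness_M22 : TwoWitness Spor.M22 :=
  witness_sub Spor.M22 M24.subtype M24.subtype_injective el_mem_M22.1 el_mem_M22.2.1 el_mem_M22.2.2

theorem witness_Co1 : TwoWitness Spor.Co1 := by
  refine witness_of_m24_hom ((QuotientGroup.mk' (Subgroup.center Co0)).comp Leech.permHom) fun σ h => ?_
  rw [MonoidHom.comp_apply, QuotientGroup.mk'_apply, QuotientGroup.eq_one_iff,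
    Subgroup.mem_center_iff] at h
  have e := h (Leech.permHom ⟨m11x, m11x_mem.1.1⟩)
  rw [← map_mul, ← map_mul] at e
  exact (congrArg Subtype.val (Leech.permHom_injective e)).symm

/-- The permutation automorphisms as lattice permutations. -/
def latHom : M24 →* Equiv.Perm leechLattice := Co0.subtype.comp Leech.permHom

theorem witness_stab (H : Subgroup (Equiv.Perm leechLattice))
    (hH : ∀ σ : M24, (σ : Equiv.Perm GolayPt) ∈ Spor.M22 → latHom σ ∈ H) : TwoWitness H :=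
  witness_sub H latHom (Co0.subtype_injective.comp Leech.permHom_injective)
    (hH el0 el_mem_M22.1) (hH el1 el_mem_M22.2.1) (hH el2 el_mem_M22.2.2)

theorem witness_Co2 : TwoWitness Spor.Co2 :=
  witness_stab _ fun σ hσ => ⟨(Leech.permHom σ).2,
    CTwoAbelian.permHom_fix σ.2 Spor.leechU (CTwoAbelian.vec_invariant hσ).1⟩

theorem witness_Co3 : TwoWitness Spor.Co3 :=
  witness_stab _ fun σ hσ => ⟨(Leech.permHom σ).2,
    CTwoAbelian.permHom_fix σ.2 Spor.leechV (CTwoAbelian.vec_invariant hσ).2.2⟩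

theorem witness_McL : TwoWitness Spor.McL :=
  witness_stab _ fun σ hσ => ⟨⟨(Leech.permHom σ).2,
    CTwoAbelian.permHom_fix σ.2 Spor.leechV (CTwoAbelian.vec_invariant hσ).2.2⟩,
    CTwoAbelian.permHom_fix σ.2 Spor.leechU (CTwoAbelian.vec_invariant hσ).1⟩

theorem witness_HS : TwoWitness Spor.HS :=
  witness_stab _ fun σ hσ => ⟨⟨(Leech.permHom σ).2,
    CTwoAbelian.permHom_fix σ.2 Spor.leechV (CTwoAbelian.vec_invariant hσ).2.2⟩,
    CTwoAbelian.permHom_fix σ.2 Spor.leechU' (CTwoAbelian.vec_invariant hσ).2.1⟩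

/-- The eight groups containing `M₂₂`. -/
theorem mathieu_not_qd {K : Type u} [Group K] [Finite K]
    (h : Spor.IsoM22 K ∨ Spor.IsoM23 K ∨ Spor.IsoM24 K ∨ Spor.IsoCo1 K ∨ Spor.IsoCo2 K ∨
      Spor.IsoCo3 K ∨ Spor.IsoMcL K ∨ Spor.IsoHS K)
    (S : Sylow 2 K) : ¬ Cfsg.IsQuasiDihedral (S : Subgroup K) := by
  rcases h with ⟨⟨e⟩⟩ | ⟨⟨e⟩⟩ | ⟨⟨e⟩⟩ | ⟨⟨e⟩⟩ | ⟨⟨e⟩⟩ | ⟨⟨e⟩⟩ | ⟨⟨e⟩⟩ | ⟨⟨e⟩⟩
  · exact not_qd_of_witness (witness_M22.of_equiv e) S
  · exact not_qd_of_witness (witness_M23.of_equiv e) S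
  · exact not_qd_of_witness (witness_M24.of_equiv e) S
  · exact not_qd_of_witness (witness_Co1.of_equiv e) S
  · exact not_qd_of_witness (witness_Co2.of_equiv e) S
  · exact not_qd_of_witness (witness_Co3.of_equiv e) S
  · exact not_qd_of_witness (witness_McL.of_equiv e) S
  · exact not_qd_of_witness (witness_HS.of_equiv e) S

end CfsgLib.OrderFormula.Weak
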