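import Cfsg.Agent.OrderFormula.Weak.Interface
import Cfsg.Agent.TwoRankThree.Basic

/-!
# Witnesses against semidihedral Sylow 2-subgroups: generalities
-/

set_option autoImplicit false
set_option linter.unusedSectionVars false

namespace CfsgLib.OrderFormula.Weak

open Cfsg Subgroup

universe u v

/-- Two commuting elements of order four with the same square, neither a power of the other. -/
theorem witness_of_pair {G : Type u} [Group G] {a a' : G} (h4 : a ^ 4 = 1) (h2 : a ^ 2 ≠ 1)
    (hc : Commute a a') (hsq : a' ^ 2 = a ^ 2) (hne : a' ≠ a) (hne' : a' ≠ a⁻¹) : TwoWitness G := by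
  haveI : Fact (Nat.Prime 2) := ⟨Nat.prime_two⟩
  refine Or.inr ⟨a, a * a', ?_, ?_, (Commute.refl a).mul_right hc, ?_⟩
  · simpa using orderOf_eq_prime_pow (p := 2) (n := 1) (x := a) (by simpa using h2)
      (by simpa using h4)
  · refine orderOf_eq_prime ?_ fun h => hne' (eq_inv_of_mul_eq_one_right h)
    rw [hc.mul_pow, hsq, ← pow_add, h4]
  · intro h
    rw [pow_two] at h
    exact hne (mul_left_cancel h)

/-- An element of order four and a commuting involution other than its square. -/
theorem witness_of_four {G : Type u} [Group G] {a b : G} (h4 : a ^ 4 = 1) (h2 : a ^ 2 ≠ 1)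
    (hc : Commute a b) (hb : b ^ 2 = 1) (hb1 : b ≠ 1) (hne : b ≠ a ^ 2) : TwoWitness G := by
  haveI : Fact (Nat.Prime 2) := ⟨Nat.prime_two⟩
  refine Or.inr ⟨a, b, ?_, orderOf_eq_prime hb hb1, hc, hne⟩
  simpa using orderOf_eq_prime_pow (p := 2) (n := 1) (x := a) (by simpa using h2) (by simpa using h4)

/-- Transport along an isomorphism. -/
theorem TwoWitness.of_equiv {G : Type u} [Group G] {H : Type v} [Group H] (e : G ≃* H)
    (h : TwoWitness H) : TwoWitness G := by
  rcases h with h | ⟨a, b, ha, hb, hab, hne⟩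
  · exact Or.inl (CfsgLib.TwoRankThree.of_equiv e h)
  · refine Or.inr ⟨e.symm a, e.symm b, (e.symm.orderOf_eq a).trans ha,
      (e.symm.orderOf_eq b).trans hb, hab.map e.symm.toMonoidHom, fun h => hne ?_⟩
    rw [← map_pow] at h
    exact e.symm.injective h

end CfsgLib.OrderFormula.Weak
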